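import Cfsg.Agent.LocalThree.AltNineLocal.Three
import Cfsg.Agent.LocalThree.AltNineLocal.Quad
import Cfsg.Agent.LocalThree.Order9.Klein
import Cfsg.Agent.LocalThree.Order9.Coords
import Cfsg.Agent.S3331
import Cfsg.Agent.Coprime.Generation
import Cfsg.Agent.Transfer.Control
import Cfsg.Agent.Components.Cores
import Mathlib.GroupTheory.SpecificGroups.KleinFour

/-!
A group with a self-centralising element of order three, and a Sylow subgroup of order nine which
contains the centralisers of its nontrivial elements and has an automizer of exponent two.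
-/

set_option autoImplicit false
set_option linter.unusedSectionVars false
set_option maxRecDepth 8000

namespace Cfsg.Lib.SymNineLocal

open Subgroup
open scoped Pointwise

universe u

variable {G : Type u} [Group G] [Finite G]

/-- No nontrivial subgroup of order prime to three is normalised. -/
def SigFree (X : Subgroup G) : Prop :=
  ∀ K : Subgroup G, (Nat.card K).Coprime 3 → X ≤ normalizer (K : Set G) → K = ⊥

/-- Coprime generation by centralisers, as a test. -/
theorem gen_fix {A Q W : Subgroup G} [IsMulCommutative A] (hnc : ¬ IsCyclic A)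
    (hAQ : A ≤ normalizer (Q : Set G)) (hcop : (Nat.card A).Coprime (Nat.card Q))
    (h : ∀ a ∈ A, a ≠ 1 → ∀ q ∈ Q, Commute q a → q ∈ W) : Q ≤ W := by
  rw [← Cfsg.Lib.Coprime.centralizerJoin_eq hnc hAQ hcop]
  refine iSup₂_le fun a ha q hq => ?_
  exact h a ha.1 ha.2 q hq.1 (mem_centralizer_singleton_iff.1 hq.2)

/-- An even permutation of five points. -/
def e5 (σ : Equiv.Perm (Fin 5)) (h : Equiv.Perm.sign σ = 1 := by decide +kernel) : alternatingGroup (Fin 5) :=
  ⟨σ, Equiv.Perm.mem_alternatingGroup.2 h⟩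

theorem five_data : ∃ V : Finset (alternatingGroup (Fin 5)), V.card = 4 ∧ 1 ∈ V ∧
    (∀ a ∈ V, ∀ b ∈ V, a * b ∈ V) ∧ (∀ a ∈ V, a⁻¹ ∈ V) ∧
    ∃ g : alternatingGroup (Fin 5), g * g * g = 1 ∧ g ≠ 1 ∧ ∀ a ∈ V, g * a * g⁻¹ ∈ V := by
  refine ⟨{1, e5 (Equiv.swap 0 1 * Equiv.swap 2 3), e5 (Equiv.swap 0 2 * Equiv.swap 1 3),
    e5 (Equiv.swap 0 3 * Equiv.swap 1 2)}, by decide +kernel, by decide +kernel, by decide +kernel,
    by decide +kernel, e5 (Equiv.swap 0 1 * Equiv.swap 1 2), by decide +kernel, by decide +kernel,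
    by decide +kernel⟩

/-- A Sylow normaliser of order divisible by three. -/
theorem sylow_number {M : Type u} [Group M] [Finite M] {q : ℕ} [Fact q.Prime] (h3 : Nat.card M = 60 ∨ Nat.card M = 168)
    (Q : Sylow q M) (hN : 3 ∣ Nat.card (normalizer ((Q : Subgroup M) : Set M))) :
    ¬ 3 ∣ Nat.card (Sylow q M) := by
  rw [Q.card_eq_index_normalizer]
  intro h
  have h9 := mul_dvd_mul hN h
  have e9 := (normalizer ((Q : Subgroup M) : Set M)).card_mul_index
  simp only [Sylow.coe_coe] at h9 e9
  rw [e9] at h9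
  rcases h3 with e | e <;> rw [e] at h9 <;> norm_num at h9

theorem pPrimeCore_char (p : ℕ) (M : Type u) [Group M] [Finite M] : (Cfsg.pPrimeCore p M).Characteristic :=
  Subgroup.characteristic_iff_map_le.2 fun φ => by
    haveI : ((Cfsg.pPrimeCore p M).map φ.toMonoidHom).Normal :=
      (inferInstance : (Cfsg.pPrimeCore p M).Normal).map _ φ.surjective
    exact Cfsg.Lib.Components.le_pPrimeCore (by
      rw [Subgroup.card_map_of_injective φ.injective]; exact Cfsg.Lib.Components.coprime_card_pPrimeCore p)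

theorem exists_prime_sylow {M : Type u} [Group M] [Finite M]
    (h : Nonempty (M ≃* alternatingGroup (Fin 5)) ∨
      Nonempty (M ≃* Matrix.ProjectiveSpecialLinearGroup (Fin 2) (ZMod 7))) :
    ∃ q : ℕ, q.Prime ∧ q ≠ 3 ∧ q ∣ Nat.card M ∧ ¬ 3 ∣ Nat.card (Sylow q M) := by
  rcases h with ⟨⟨e⟩⟩ | ⟨⟨e⟩⟩
  · haveI : Fact (Nat.Prime 2) := ⟨Nat.prime_two⟩
    have hc : Nat.card M = 60 := by
      rw [Nat.card_congr e.toEquiv, nat_card_alternatingGroup]; simp [Nat.factorial]
    obtain ⟨V, hV, h1, hm, hi, g, hg, hg1, hgV⟩ := five_data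
    let W : Subgroup (alternatingGroup (Fin 5)) :=
      { carrier := V, one_mem' := h1, mul_mem' := fun ha hb => hm _ ha _ hb, inv_mem' := fun ha => hi _ ha }
    have hWM : Nat.card (W.map e.symm.toMonoidHom) = 4 := by
      rw [Subgroup.card_map_of_injective e.symm.injective, ← hV, ← Nat.card_eq_finsetCard]; rfl
    have hp : IsPGroup 2 (W.map e.symm.toMonoidHom) := IsPGroup.of_card (n := 2) hWM
    have hidx : ¬ 2 ∣ (W.map e.symm.toMonoidHom).index := by
      have := (W.map e.symm.toMonoidHom).card_mul_index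
      rw [hWM, hc] at this; omega
    refine ⟨2, Nat.prime_two, by norm_num, by rw [hc]; norm_num, sylow_number (Or.inl hc) (hp.toSylow hidx) ?_⟩
    rw [IsPGroup.toSylow_coe]
    have hmem : e.symm g ∈ normalizer ((W.map e.symm.toMonoidHom : Subgroup M) : Set M) := by
      refine Subgroup.mem_normalizer_iff_map_conj_eq.2 (Subgroup.eq_of_le_of_card_ge ?_
        (le_of_eq (Subgroup.card_map_of_injective (MulAut.conj (e.symm g)).injective).symm))
      rintro _ ⟨_, ⟨a, ha, rfl⟩, rfl⟩
      exact ⟨g * a * g⁻¹, hgV a ha, by simp⟩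
    have ho : orderOf (e.symm g) = 3 := by
      haveI : Fact (Nat.Prime 3) := ⟨Nat.prime_three⟩
      rw [MulEquiv.orderOf_eq]
      exact orderOf_eq_prime (by rw [pow_succ, pow_two, hg]) hg1
    exact ho ▸ Subgroup.orderOf_dvd_natCard _ hmem
  · haveI : Fact (Nat.Prime 7) := ⟨by norm_num⟩
    have hc : Nat.card M = 168 := by rw [Nat.card_congr e.toEquiv, Cfsg.Lib.AltNineLocal.card_psl_seven]
    obtain ⟨Q⟩ := (inferInstance : Nonempty (Sylow 7 M))
    refine ⟨7, by norm_num, by norm_num, by rw [hc]; norm_num, fun h => ?_⟩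
    have h1 := card_sylow_modEq_one 7 M
    have h2 : Nat.card (Sylow 7 M) ∣ 24 := by
      have hQ : Nat.card (Q : Subgroup M) = 7 := by
        rw [Q.card_eq_multiplicity, hc, show (168 : ℕ) = 7 ^ 1 * 24 by norm_num,
          Nat.factorization_mul (by norm_num) (by norm_num), Nat.Prime.factorization_pow (by norm_num)]
        simp [Nat.factorization_eq_zero_of_not_dvd (show ¬ 7 ∣ 24 by norm_num)]
      have h3 := Q.card_dvd_index
      have h4 := (Q : Subgroup M).card_mul_index
      rw [hQ, hc] at h4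
      rwa [show (Q : Subgroup M).index = 24 by omega] at h3
    have hle := Nat.le_of_dvd (by norm_num) h2
    unfold Nat.ModEq at h1
    generalize hn : Nat.card (Sylow 7 M) = n at h h1 h2 hle
    interval_cases n <;> omega

/-- A normal subgroup with a self-centralising subgroup of order three. -/
theorem three_normal (S M X : Subgroup G) [M.Normal] (hS : IsPGroup 3 S) (hsig : SigFree S) (hXM : X ≤ M)
    (hX : Nat.card X = 3) (hC : ∀ g ∈ M, g ∈ centralizer (X : Set G) → g ∈ X) :
    ∀ g ∈ M, g ∈ normalizer (X : Set G) := by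
  haveI : Fact (Nat.Prime 3) := ⟨Nat.prime_three⟩
  have hX' : Nat.card (X.subgroupOf M) = 3 := by rw [Nat.card_congr (subgroupOfEquivOfLe hXM).toEquiv, hX]
  have hcent : centralizer ((X.subgroupOf M : Subgroup M) : Set M) = X.subgroupOf M := by
    refine le_antisymm (fun g hg => mem_subgroupOf.2 (hC _ g.2 (mem_centralizer_iff.2 fun t ht => ?_))) ?_
    · exact congrArg Subtype.val (mem_centralizer_iff.1 hg ⟨t, hXM ht⟩ (mem_subgroupOf.2 ht))
    · intro g hg
      refine mem_centralizer_iff.2 fun t ht => ?_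
      haveI : IsCyclic (X.subgroupOf M) := isCyclic_of_prime_card hX'
      exact congrArg Subtype.val (IsCyclic.commGroup.mul_comm (⟨t, ht⟩ : X.subgroupOf M) ⟨g, hg⟩)
  have hnorm : ∀ N : Subgroup M, N.Characteristic → (Nat.card N).Coprime 3 → N = ⊥ := by
    intro N hN hc
    have : (N.map M.subtype).Normal := ConjAct.normal_of_characteristic_of_normal
    have h1 := hsig (N.map M.subtype) (by rwa [Subgroup.card_map_of_injective M.subtype_injective])
      (by rw [Subgroup.normalizer_eq_top]; exact le_top)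
    rwa [Subgroup.map_eq_bot_iff, Subgroup.ker_subtype, le_bot_iff] at h1
  have hcore : ∀ N : Subgroup M, N.Normal → (Nat.card N).Coprime 3 → N = ⊥ := fun N hN hc => by
    refine eq_bot_iff.2 ((Cfsg.Lib.Components.le_pPrimeCore hc).trans (le_of_eq (hnorm _ ?_ ?_)))
    · exact pPrimeCore_char 3 M
    · exact Cfsg.Lib.Components.coprime_card_pPrimeCore 3
  have hbig : ∀ q : ℕ, q.Prime → q ≠ 3 → q ∣ Nat.card M → 3 ∣ Nat.card (Sylow q M) := by
    intro q hq hq3 hd
    by_contra hn
    haveI := Fact.mk hq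
    let f : S →* MulAut M := (MulAut.conjNormal : G →* MulAut M).comp S.subtype
    letI : MulAction S (Sylow q M) := MulAction.compHom _ f
    obtain ⟨Q, hQ⟩ := hS.nonempty_fixed_point_of_prime_not_dvd_card (Sylow q M) hn
    have hQ0 : ((Q : Subgroup M).map M.subtype) = ⊥ := by
      refine hsig _ ?_ fun s hs => ?_
      · rw [Subgroup.card_map_of_injective M.subtype_injective, Q.card_eq_multiplicity]
        exact Nat.Coprime.pow_left _ ((Nat.coprime_primes hq Nat.prime_three).2 hq3)
      · refine Subgroup.mem_normalizer_iff_map_conj_eq.2 (Subgroup.eq_of_le_of_card_ge ?_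
          (le_of_eq (Subgroup.card_map_of_injective (MulAut.conj s).injective).symm))
        rintro _ ⟨_, ⟨m, hm, rfl⟩, rfl⟩
        have h : (f ⟨s, hs⟩ • Q : Sylow q M) = Q := hQ ⟨s, hs⟩
        refine ⟨f ⟨s, hs⟩ m, ?_, MulAut.conjNormal_apply _ _⟩
        rw [← h]
        exact ⟨m, hm, rfl⟩
    rw [Subgroup.map_eq_bot_iff, Subgroup.ker_subtype, le_bot_iff] at hQ0
    exact Q.ne_bot_of_dvd_card hd hQ0
  rcases Cfsg.Agent.S3331.result (X.subgroupOf M) hX' hcent with
    ⟨N, hN, -, hNc, hq⟩ | ⟨N, hN, -, hN2, he⟩ | he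
  · have hN0 := hcore N hN hNc
    subst hN0
    have hcard : Nat.card M ∣ 6 := by
      rw [show Nat.card M = Nat.card (M ⧸ (⊥ : Subgroup M)) from
        Nat.card_congr (QuotientGroup.quotientBot (G := M)).symm.toEquiv]
      rcases hq with e | ⟨⟨e⟩⟩
      · rw [e]; norm_num
      · rw [Nat.card_congr e.toEquiv, Nat.card_perm, Nat.card_fin]; norm_num [Nat.factorial]
    have hidx : (X.subgroupOf M).index ∣ 2 := by
      have := (X.subgroupOf M).card_mul_index
      rw [hX'] at this
      rw [← this] at hcard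
      exact Nat.dvd_of_mul_dvd_mul_left (k := 3) (by norm_num) hcard
    have hn : (X.subgroupOf M).Normal := by
      rcases (Nat.dvd_prime Nat.prime_two).1 hidx with e | e
      · rw [Subgroup.index_eq_one.1 e]; infer_instance
      · exact Subgroup.normal_of_index_eq_two e
    intro g hg
    refine Subgroup.mem_normalizer_iff_map_conj_eq.2 (Subgroup.eq_of_le_of_card_ge ?_
      (by rw [Subgroup.card_map_of_injective (MulAut.conj g).injective]))
    rintro _ ⟨t, ht, rfl⟩
    exact hn.conj_mem ⟨t, hXM ht⟩ ht ⟨g, hg⟩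
  all_goals exfalso
  · obtain ⟨e⟩ := he
    have hN0 : N = ⊥ := by
      refine hcore N hN ?_
      haveI : Fact (Nat.Prime 2) := ⟨Nat.prime_two⟩
      obtain ⟨k, hk⟩ := IsPGroup.iff_card.1 (show IsPGroup 2 N from fun x =>
        ⟨1, Subtype.ext (by rw [pow_one, SubmonoidClass.coe_pow]; exact hN2 x x.2)⟩)
      rw [hk]; exact Nat.Coprime.pow_left k (by norm_num)
    subst hN0
    obtain ⟨q, hq, hq3, hd, hn⟩ := exists_prime_sylow (Or.inl ⟨(QuotientGroup.quotientBot (G := M)).symm.trans e⟩)
    exact hn (hbig q hq hq3 hd)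
  · obtain ⟨q, hq, hq3, hd, hn⟩ := exists_prime_sylow (Or.inr he)
    exact hn (hbig q hq hq3 hd)

/-- A Sylow subgroup of order nine containing the centralisers of its nontrivial elements. -/
structure Nine (G : Type u) [Group G] where
  P : Sylow 3 G
  card9 : Nat.card (P : Subgroup G) = 9
  cube : ∀ a ∈ (P : Subgroup G), a * (a * a) = 1
  cent : centralizer ((P : Subgroup G) : Set G) = P
  hC : ∀ t ∈ (P : Subgroup G), t ≠ 1 → centralizer ({t} : Set G) ≤ normalizer ((P : Subgroup G) : Set G)

namespace Nine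

variable (S : Nine G)

include S

theorem comm {a b : G} (ha : a ∈ (S.P : Subgroup G)) (hb : b ∈ (S.P : Subgroup G)) : a * b = b * a := by
  rw [← S.cent] at ha
  exact (mem_centralizer_iff.1 ha b hb).symm

theorem noncyclic : ¬ IsCyclic (S.P : Subgroup G) := by
  intro h
  obtain ⟨g, hg⟩ := h
  have h3 : orderOf g ∣ 3 := orderOf_dvd_of_pow_eq_one (Subtype.ext (by
    rw [SubmonoidClass.coe_pow, pow_succ', pow_two]; exact S.cube g g.2))
  rw [orderOf_eq_card_of_forall_mem_zpowers hg, S.card9] at h3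
  norm_num at h3

theorem sig : SigFree (S.P : Subgroup G) := by
  intro K hK hPK
  haveI : IsMulCommutative (S.P : Subgroup G) := ⟨⟨fun a b => Subtype.ext (S.comm a.2 b.2)⟩⟩
  refine eq_bot_iff.2 (gen_fix S.noncyclic hPK (by
    rw [S.card9, show (9 : ℕ) = 3 ^ 2 by norm_num]; exact Nat.Coprime.pow_left 2 hK.symm) fun a ha ha1 q hq hqa => ?_)
  have hqN := S.hC a ha ha1 (mem_centralizer_singleton_iff.2 hqa.eq)
  have hd : Disjoint K (S.P : Subgroup G) := by
    rw [disjoint_iff]
    refine Subgroup.card_eq_one.1 (Nat.eq_one_of_dvd_coprimes (Nat.Coprime.pow_right 2 hK)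
      (card_dvd_of_le inf_le_left) ?_)
    rw [show (3 : ℕ) ^ 2 = Nat.card (S.P : Subgroup G) by rw [S.card9]; norm_num]
    exact card_dvd_of_le inf_le_right
  have hqP : q ∈ (S.P : Subgroup G) := by
    rw [← S.cent]
    refine mem_centralizer_iff.2 fun p hp => ?_
    have h1 : q * p * q⁻¹ * p⁻¹ ∈ (S.P : Subgroup G) := mul_mem ((mem_normalizer_iff.1 hqN p).1 hp) (inv_mem hp)
    have h2 : q * p * q⁻¹ * p⁻¹ ∈ K := by
      rw [mul_assoc q p, mul_assoc q]
      exact mul_mem hq ((mem_normalizer_iff.1 (hPK hp) q⁻¹).1 (inv_mem hq))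
    exact (mul_inv_eq_iff_eq_mul.1 (mul_inv_eq_one.1 (Subgroup.disjoint_def.1 hd h2 h1))).symm
  exact mem_bot.2 (Subgroup.disjoint_def.1 hd hq hqP)

theorem line_normal {L : Subgroup G} (hLP : L ≤ (S.P : Subgroup G)) (hL : L ≠ ⊥) [L.Normal] :
    (S.P : Subgroup G).Normal := by
  haveI : Fact (Nat.Prime 3) := ⟨Nat.prime_three⟩
  obtain ⟨t, ht, ht1⟩ := L.bot_or_exists_ne_one.resolve_left hL
  have hCN : centralizer (L : Set G) ≤ normalizer ((S.P : Subgroup G) : Set G) := fun g hg =>
    S.hC t (hLP ht) ht1 (mem_centralizer_singleton_iff.2 (mem_centralizer_iff.1 hg t ht).symm)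
  have hPC : (S.P : Subgroup G) ≤ centralizer (L : Set G) := fun p hp =>
    mem_centralizer_iff.2 fun l hl => S.comm (hLP hl) hp
  let PC : Sylow 3 (centralizer (L : Set G)) := S.P.subtype hPC
  have hn : (PC : Subgroup (centralizer (L : Set G))).Normal := by
    rw [Sylow.coe_subtype]
    exact (Subgroup.normal_subgroupOf_iff_le_normalizer hPC).2 hCN
  haveI := Sylow.characteristic_of_normal PC hn
  have := ConjAct.normal_of_characteristic_of_normal (G := G) (H := centralizer (L : Set G))
    (K := (PC : Subgroup (centralizer (L : Set G))))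
  rwa [Sylow.coe_subtype, Subgroup.map_subgroupOf_eq_of_le hPC] at this

/-- Nontrivial normal subgroups contain the Sylow subgroup. -/
theorem normal_cases (hsq : ∀ g ∈ normalizer ((S.P : Subgroup G) : Set G), g * g ∈ (S.P : Subgroup G))
    (M : Subgroup G) [M.Normal] (hM : M ≠ ⊥) : (S.P : Subgroup G).Normal ∨ (S.P : Subgroup G) ≤ M := by
  haveI : Fact (Nat.Prime 3) := ⟨Nat.prime_three⟩
  obtain ⟨L, hL⟩ : ∃ L : Subgroup G, L = M ⊓ (S.P : Subgroup G) := ⟨_, rfl⟩
  have hLd : Nat.card L ∣ 3 ^ 2 := by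
    rw [show (3 : ℕ) ^ 2 = Nat.card (S.P : Subgroup G) by rw [S.card9]; norm_num, hL]
    exact card_dvd_of_le inf_le_right
  obtain ⟨i, hi, e⟩ := (Nat.dvd_prime_pow Nat.prime_three).1 hLd
  have hcases : i = 0 ∨ i = 1 ∨ i = 2 := by omega
  rcases hcases with rfl | rfl | rfl
  · exfalso
    refine hM (S.sig M ?_ (by rw [Subgroup.normalizer_eq_top]; exact le_top))
    refine (Nat.prime_three.coprime_iff_not_dvd.2 fun h3 => ?_).symm
    obtain ⟨⟨g, hg⟩, ho⟩ := exists_prime_orderOf_dvd_card' (G := M) 3 h3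
    rw [Subgroup.orderOf_mk] at ho
    obtain ⟨P', hP'⟩ := (IsPGroup.of_card (n := 1) (by rw [Nat.card_zpowers, ho, pow_one]) :
      IsPGroup 3 (zpowers g)).exists_le_sylow
    obtain ⟨c, hc⟩ := MulAction.exists_smul_eq G P' S.P
    have hmem : c * g * c⁻¹ ∈ L := by
      rw [hL]
      refine ⟨Subgroup.Normal.conj_mem inferInstance g hg c, ?_⟩
      rw [← hc, Sylow.coe_subgroup_smul]
      exact ⟨g, hP' (mem_zpowers g), rfl⟩
    rw [Subgroup.card_eq_one.1 (e.trans (pow_zero 3)), mem_bot, conj_eq_one_iff] at hmem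
    rw [hmem, orderOf_one] at ho
    norm_num at ho
  · left
    rw [pow_one] at e
    have hLM : L ≤ M := hL ▸ inf_le_left
    have hLP : L ≤ (S.P : Subgroup G) := hL ▸ inf_le_right
    have hC : ∀ g ∈ M, g ∈ centralizer (L : Set G) → g ∈ L := by
      intro g hg hgC
      obtain ⟨t, ht, ht1⟩ := L.bot_or_exists_ne_one.resolve_left (fun h => by rw [h, card_bot] at e; omega)
      have hgN := S.hC t (hLP ht) ht1 (mem_centralizer_singleton_iff.2 (mem_centralizer_iff.1 hgC t ht).symm)
      rw [hL]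
      refine ⟨hg, ?_⟩
      rw [← S.cent]
      refine mem_centralizer_iff.2 fun p hp0 => ?_
      have hp : p ∈ (S.P : Subgroup G) := hp0
      have hl : g * p * g⁻¹ * p⁻¹ ∈ L := by
        rw [hL]
        refine Subgroup.mem_inf.2 ⟨?_, ?_⟩
        · rw [mul_assoc g p, mul_assoc g]
          exact mul_mem hg (Subgroup.Normal.conj_mem inferInstance _ (inv_mem hg) p)
        · exact (S.P : Subgroup G).mul_mem ((mem_normalizer_iff.1 hgN p).1 hp) ((S.P : Subgroup G).inv_mem hp)
      have hcl : g * (g * p * g⁻¹ * p⁻¹) = g * p * g⁻¹ * p⁻¹ * g := (mem_centralizer_iff.1 hgC _ hl).symm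
      have h2 : g * g * p = p * (g * g) := S.comm (hsq g hgN) hp
      have hlP := hLP hl
      generalize hl' : g * p * g⁻¹ * p⁻¹ = l at hl hcl hlP
      have e1 : g * p * g⁻¹ = l * p := by rw [← hl']; group
      have h3 : l * l * p = p := by
        calc l * l * p = l * (g * p * g⁻¹) := by rw [e1, mul_assoc]
          _ = g * (l * p) * g⁻¹ := by rw [← mul_assoc, ← mul_assoc, ← mul_assoc, ← hcl]
          _ = g * g * p * (g * g)⁻¹ := by rw [← e1]; group
          _ = p := by rw [h2]; group
      have hll : l * l = 1 := mul_eq_right.1 h3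
      have hl1 : l = 1 := by
        have := S.cube l hlP
        rwa [hll, mul_one] at this
      rw [hl1, one_mul] at e1
      exact (mul_inv_eq_iff_eq_mul.1 e1).symm
    have hLn : (L.subgroupOf M).Normal := (Subgroup.normal_subgroupOf_iff_le_normalizer hLM).2
      (three_normal (S.P : Subgroup G) M L S.P.2 S.sig hLM e hC)
    let LM : Sylow 3 M := IsPGroup.toSylow (P := L.subgroupOf M)
      (IsPGroup.of_card (n := 1) (by rw [Nat.card_congr (subgroupOfEquivOfLe hLM).toEquiv, e, pow_one])) (by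
        intro h
        have h1 := (L.subgroupOf M).card_mul_index
        rw [Nat.card_congr (subgroupOfEquivOfLe hLM).toEquiv, e] at h1
        have h9 : 3 ^ 2 ∣ Nat.card M := by rw [← h1, pow_two]; exact mul_dvd_mul_left 3 h
        obtain ⟨Q, hQ⟩ := Sylow.exists_subgroup_card_pow_prime 3 h9
        obtain ⟨P', hP'⟩ := ((IsPGroup.of_card hQ).map M.subtype).exists_le_sylow
        obtain ⟨c, hc⟩ := MulAction.exists_smul_eq G P' S.P
        have hle : (Q.map M.subtype).map (MulAut.conj c).toMonoidHom ≤ L := by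
          rintro _ ⟨_, ⟨m, hm, rfl⟩, rfl⟩
          rw [hL]
          refine ⟨Subgroup.Normal.conj_mem inferInstance _ m.2 c, ?_⟩
          rw [← hc, Sylow.coe_subgroup_smul]
          exact ⟨_, hP' ⟨m, hm, rfl⟩, rfl⟩
        have := Subgroup.card_le_of_le hle
        rw [Subgroup.card_map_of_injective (MulAut.conj c).injective,
          Subgroup.card_map_of_injective M.subtype_injective, hQ, e] at this
        omega)
    haveI := Sylow.characteristic_of_normal LM (by rw [IsPGroup.toSylow_coe]; exact hLn)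
    have hLG := ConjAct.normal_of_characteristic_of_normal (G := G) (H := M) (K := (LM : Subgroup M))
    rw [IsPGroup.toSylow_coe, Subgroup.map_subgroupOf_eq_of_le hLM] at hLG
    exact S.line_normal hLP fun h => by rw [h, card_bot] at e; omega
  · right
    have := Subgroup.eq_of_le_of_card_ge (hL ▸ inf_le_right : L ≤ (S.P : Subgroup G))
      (by rw [S.card9, e]; norm_num)
    rw [← this, hL]; exact inf_le_left

end Nine

end Cfsg.Lib.SymNineLocal
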