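import Cfsg.Agent.LocalThree.SymNineLocal.Sq
import Cfsg.Agent.ExtClosedOdd.Main

/-!
Passing to the quotient of a local subgroup by a central subgroup.
-/

set_option autoImplicit false
set_option linter.unusedSectionVars false
set_option maxRecDepth 8000

namespace Cfsg.Lib.SymNineLocal

open Subgroup
open scoped Pointwise

universe u

variable {G : Type u} [Group G] [Finite G]

/-- A three-subgroup absorbing the three-elements of its normaliser is a Sylow subgroup. -/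
theorem sylow_of_absorb {K : Type u} [Group K] [Finite K] (S : Subgroup K) (hS : IsPGroup 3 S)
    (h : ∀ g ∈ normalizer (S : Set K), ∀ n : ℕ, g ^ 3 ^ n = 1 → g ∈ S) :
    ∃ P : Sylow 3 K, (P : Subgroup K) = S := by
  have : Fact (Nat.Prime 3) := ⟨Nat.prime_three⟩
  obtain ⟨P, hP⟩ := hS.exists_le_sylow
  refine ⟨P, le_antisymm ?_ hP⟩
  haveI : Group.IsNilpotent (P : Subgroup K) := P.2.isNilpotent
  have e : S.subgroupOf (P : Subgroup K) = ⊤ := by
    refine normalizerCondition_iff_only_full_group_self_normalizing.1 Group.normalizerCondition_of_isNilpotent _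
      (le_antisymm (fun g hg => ?_) Subgroup.le_normalizer)
    rw [← Subgroup.subgroupOf_normalizer_eq hP] at hg
    obtain ⟨n, hn⟩ := P.2 g
    exact h _ hg n (show (g : K) ^ 3 ^ n = 1 from congrArg Subtype.val hn)
  exact fun x hx => (e ▸ Subgroup.mem_top _ : (⟨x, hx⟩ : (P : Subgroup K)) ∈ S.subgroupOf (P : Subgroup K))

/-- A subgroup with a central part, read in the quotient by it. -/
structure Over (C Z A : Subgroup G) : Prop where
  le_C : A ≤ C
  Z_le : Z ≤ A
  central : ∀ z ∈ Z, ∀ g ∈ C, z * g = g * z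
  comm : ∀ a ∈ A, ∀ b ∈ A, a * b = b * a

namespace Over

variable {C Z A : Subgroup G}

theorem normalZ (h : Over C Z A) : (Z.subgroupOf C).Normal := ⟨fun x hx g => by
  rw [mem_subgroupOf] at hx ⊢
  push_cast
  rwa [← h.central _ hx g g.2, mul_inv_cancel_right]⟩

end Over

/-- The image in the quotient. -/
def bar (C Z A : Subgroup G) [(Z.subgroupOf C).Normal] : Subgroup (C ⧸ Z.subgroupOf C) :=
  (A.subgroupOf C).map (QuotientGroup.mk' (Z.subgroupOf C))

variable {C Z A : Subgroup G} [(Z.subgroupOf C).Normal]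

theorem mem_bar (h : Over C Z A) (g : C) : (g : C ⧸ Z.subgroupOf C) ∈ bar C Z A ↔ (g : G) ∈ A := by
  refine ⟨?_, fun hg => ⟨g, mem_subgroupOf.2 hg, rfl⟩⟩
  rintro ⟨a, ha, e⟩
  have hz := h.Z_le (mem_subgroupOf.1 (QuotientGroup.eq.1 e))
  have := mul_mem (mem_subgroupOf.1 ha) hz
  push_cast at this
  rwa [mul_inv_cancel_left] at this

theorem norm_bar (h : Over C Z A) (g : C) :
    (g : C ⧸ Z.subgroupOf C) ∈ normalizer ((bar C Z A : Subgroup _) : Set (C ⧸ Z.subgroupOf C)) ↔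
      (g : G) ∈ normalizer (A : Set G) := by
  constructor
  · intro hg
    refine Subgroup.mem_normalizer_iff_map_conj_eq.2 (Subgroup.eq_of_le_of_card_ge ?_
      (by rw [Subgroup.card_map_of_injective (MulAut.conj (g : G)).injective]))
    rintro _ ⟨a, ha, rfl⟩
    refine (mem_bar h (g * ⟨a, h.le_C ha⟩ * g⁻¹)).1 ?_
    exact (mem_normalizer_iff.1 hg ((⟨a, h.le_C ha⟩ : C) : C ⧸ Z.subgroupOf C)).1 ((mem_bar h ⟨a, h.le_C ha⟩).2 ha)
  · intro hg
    refine mem_normalizer_iff.2 fun q => ?_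
    obtain ⟨a, rfl⟩ := QuotientGroup.mk_surjective q
    rw [← QuotientGroup.mk_mul, ← QuotientGroup.mk_inv, ← QuotientGroup.mk_mul, mem_bar h, mem_bar h]
    exact mem_normalizer_iff.1 hg a

theorem card_bar (h : Over C Z A) : Nat.card (bar C Z A) * Nat.card Z = Nat.card A := by
  have e1 : Nat.card (bar C Z A) = (Z.subgroupOf C).relIndex (A.subgroupOf C) := by
    rw [bar, ← Subgroup.relIndex_ker, QuotientGroup.ker_mk']
  have e2 := Subgroup.card_mul_index (Z.subgroupOf A)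
  rw [Nat.card_congr (subgroupOfEquivOfLe h.Z_le).toEquiv] at e2
  rw [e1, Subgroup.relIndex_subgroupOf h.le_C, mul_comm]
  exact e2

/-- The local conditions give the data in the quotient. -/
theorem exists_nine (h : Over C Z A) (hcard : Nat.card A = 9 * Nat.card Z) (hcube : ∀ a ∈ A, a * (a * a) ∈ Z)
    (hmax : ∀ g ∈ C, g ∈ normalizer (A : Set G) → ∀ n : ℕ, g ^ 3 ^ n ∈ Z → g ∈ A)
    (hcent : ∀ g ∈ C, (∀ a ∈ A, g * a * g⁻¹ * a⁻¹ ∈ Z) → g ∈ A)
    (hC : ∀ a ∈ A, a ∉ Z → ∀ g ∈ C, g * a * g⁻¹ * a⁻¹ ∈ Z → g ∈ normalizer (A : Set G)) :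
    ∃ N : Nine (C ⧸ Z.subgroupOf C), (N.P : Subgroup _) = bar C Z A := by
  have h9 : Nat.card (bar C Z A) = 9 := Nat.eq_of_mul_eq_mul_right Nat.card_pos ((card_bar h).trans hcard)
  obtain ⟨P, hP⟩ := sylow_of_absorb (bar C Z A) (IsPGroup.of_card (n := 2) h9) (by
    intro q hq n hn
    obtain ⟨g, rfl⟩ := QuotientGroup.mk_surjective q
    refine (mem_bar h g).2 (hmax g g.2 ((norm_bar h g).1 hq) n ?_)
    rw [← QuotientGroup.mk_pow, QuotientGroup.eq_one_iff, mem_subgroupOf] at hn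
    rwa [SubmonoidClass.coe_pow] at hn)
  have hrel : ∀ a g : C, (g : C ⧸ Z.subgroupOf C) * a = a * g ↔ (g : G) * a * (g : G)⁻¹ * (a : G)⁻¹ ∈ Z := by
    intro a g
    rw [← QuotientGroup.mk_mul, ← QuotientGroup.mk_mul, eq_comm, QuotientGroup.eq, mem_subgroupOf]
    push_cast
    constructor
    · intro hz
      have e := h.central _ hz ((a : G) * g) (mul_mem a.2 g.2)
      generalize hc : ((a : G) * g)⁻¹ * ((g : G) * a) = c at hz e
      have : (g : G) * a * (g : G)⁻¹ * (a : G)⁻¹ = c := by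
        rw [show (g : G) * a = (a : G) * g * c by rw [← hc]; group, ← e]; group
      rwa [this]
    · intro hz
      have e := h.central _ hz ((a : G) * g) (mul_mem a.2 g.2)
      generalize hc : (g : G) * a * (g : G)⁻¹ * (a : G)⁻¹ = c at hz e
      have : ((a : G) * g)⁻¹ * ((g : G) * a) = c := by
        rw [show (g : G) * a = c * ((a : G) * g) by rw [← hc]; group, e]; group
      rwa [this]
  refine ⟨{ P := P, card9 := by rw [hP, h9], cube := ?_, cent := ?_, hC := ?_ }, hP⟩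
  · rw [hP]
    rintro _ ⟨a, ha, rfl⟩
    rw [← map_mul, ← map_mul, QuotientGroup.mk'_apply, QuotientGroup.eq_one_iff, mem_subgroupOf]
    exact hcube _ ha
  · rw [hP]
    refine le_antisymm (fun q hq => ?_) fun q hq => ?_
    · obtain ⟨g, rfl⟩ := QuotientGroup.mk_surjective q
      refine (mem_bar h g).2 (hcent g g.2 fun a ha => ?_)
      exact (hrel ⟨a, h.le_C ha⟩ g).1 (mem_centralizer_iff.1 hq _ ((mem_bar h ⟨a, h.le_C ha⟩).2 ha)).symm
    · obtain ⟨g, rfl⟩ := QuotientGroup.mk_surjective q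
      refine mem_centralizer_iff.2 fun r hr => ?_
      obtain ⟨a, ha, rfl⟩ := hr
      rw [QuotientGroup.mk'_apply, ← QuotientGroup.mk_mul, ← QuotientGroup.mk_mul]
      exact congrArg _ (Subtype.ext (h.comm _ ha _ ((mem_bar h g).1 hq)))
  · intro r hr hr1 q hq
    rw [hP] at hr ⊢
    obtain ⟨g, rfl⟩ := QuotientGroup.mk_surjective q
    obtain ⟨a, ha, rfl⟩ := hr
    refine (norm_bar h g).2 (hC a ha (fun hz => hr1 ?_) g g.2 ((hrel a g).1 ?_))
    · exact (QuotientGroup.eq_one_iff a).2 (mem_subgroupOf.2 hz)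
    · exact mem_centralizer_singleton_iff.1 hq

/-- With automizer of exponent two the subgroup is normal. -/
theorem le_normalizer_of_sq (h : Over C Z A) (hcard : Nat.card A = 9 * Nat.card Z) (hcube : ∀ a ∈ A, a * (a * a) ∈ Z)
    (hmax : ∀ g ∈ C, g ∈ normalizer (A : Set G) → ∀ n : ℕ, g ^ 3 ^ n ∈ Z → g ∈ A)
    (hcent : ∀ g ∈ C, (∀ a ∈ A, g * a * g⁻¹ * a⁻¹ ∈ Z) → g ∈ A)
    (hC : ∀ a ∈ A, a ∉ Z → ∀ g ∈ C, g * a * g⁻¹ * a⁻¹ ∈ Z → g ∈ normalizer (A : Set G))
    (hsq : ∀ g ∈ C, g ∈ normalizer (A : Set G) → g * g ∈ A) : C ≤ normalizer (A : Set G) := by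
  obtain ⟨N, hN⟩ := exists_nine h hcard hcube hmax hcent hC
  have hn := N.normal_of_sq (by
    intro q hq
    rw [hN] at hq ⊢
    obtain ⟨g, rfl⟩ := QuotientGroup.mk_surjective q
    rw [← QuotientGroup.mk_mul, mem_bar h]
    exact hsq g g.2 ((norm_bar h g).1 hq))
  intro g hg
  refine (norm_bar h ⟨g, hg⟩).1 ?_
  rw [← hN, Subgroup.normalizer_eq_top]
  exact Subgroup.mem_top _

/-- Freeness passes to the quotient. -/
theorem sigFree_bar (h : Over C Z A) (hA : IsPGroup 3 A) (hsig : SigFree A) : SigFree (bar C Z A) := by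
  have : Fact (Nat.Prime 3) := ⟨Nat.prime_three⟩
  intro K hK hAK
  set π := QuotientGroup.mk' (Z.subgroupOf C)
  let M : Subgroup G := (K.comap π).map C.subtype
  let D : Subgroup G := C ⊓ normalizer (M : Set G)
  have hAD : A ≤ D := fun a ha => by
    refine Subgroup.mem_inf.2 ⟨h.le_C ha, Subgroup.mem_normalizer_iff_map_conj_eq.2 (Subgroup.eq_of_le_of_card_ge ?_
      (le_of_eq (Subgroup.card_map_of_injective (MulAut.conj a).injective).symm))⟩
    rintro _ ⟨_, ⟨k, hk, rfl⟩, rfl⟩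
    refine ⟨⟨a, h.le_C ha⟩ * k * ⟨a, h.le_C ha⟩⁻¹, ?_, rfl⟩
    show π (_ * k * _) ∈ K
    rw [map_mul, map_mul, map_inv]
    exact (mem_normalizer_iff.1 (hAK ((mem_bar h ⟨a, h.le_C ha⟩).2 ha)) _).1 hk
  have hZM : Z ≤ M := fun z hz => ⟨⟨z, h.le_C (h.Z_le hz)⟩, by
    show π _ ∈ K
    rw [show π ⟨z, h.le_C (h.Z_le hz)⟩ = 1 from (QuotientGroup.eq_one_iff _).2 (mem_subgroupOf.2 hz)]
    exact one_mem _, rfl⟩
  have hMD : M ≤ D := fun m hm => Subgroup.mem_inf.2 ⟨Subgroup.map_subtype_le _ hm, Subgroup.le_normalizer hm⟩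
  haveI : (M.subgroupOf D).Normal := (Subgroup.normal_subgroupOf_iff_le_normalizer hMD).2 inf_le_right
  have hcore : Cfsg.pPrimeCore 3 D = ⊥ := by
    have h1 := hsig ((Cfsg.pPrimeCore 3 D).map D.subtype) (by
      rw [Subgroup.card_map_of_injective D.subtype_injective]
      exact Cfsg.Lib.Components.coprime_card_pPrimeCore 3) (fun a ha => by
      refine Subgroup.mem_normalizer_iff_map_conj_eq.2 (Subgroup.eq_of_le_of_card_ge ?_
        (le_of_eq (Subgroup.card_map_of_injective (MulAut.conj a).injective).symm))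
      rintro _ ⟨_, ⟨k, hk, rfl⟩, rfl⟩
      exact ⟨⟨a, hAD ha⟩ * k * ⟨a, hAD ha⟩⁻¹, Subgroup.Normal.conj_mem inferInstance k hk _, rfl⟩)
    rwa [Subgroup.map_eq_bot_iff, Subgroup.ker_subtype, le_bot_iff] at h1
  have hrel : (Z.subgroupOf D).relIndex (M.subgroupOf D) = Nat.card K := by
    rw [Subgroup.relIndex_subgroupOf hMD,
      ← Subgroup.relIndex_subgroupOf (K := M) (show M ≤ C from Subgroup.map_subtype_le _),
      show M.subgroupOf C = K.comap π from Subgroup.comap_map_eq_self_of_injective C.subtype_injective _]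
    conv_rhs => rw [← map_comap_eq_self_of_surjective (QuotientGroup.mk'_surjective (Z.subgroupOf C)) K,
      ← relIndex_ker, QuotientGroup.ker_mk']
  have hle : M.subgroupOf D ≤ Z.subgroupOf D := Cfsg.Lib.ExtOdd.eq_of_core_bot (p := 3)
    ((hA.to_le h.Z_le).comap_of_injective D.subtype D.subtype_injective) (fun z hz => hZM hz)
    (fun z hz g => Subtype.ext (h.central _ hz g g.2.1)) (by rw [hrel]; exact hK) hcore
  refine eq_bot_iff.2 fun q hq => ?_
  obtain ⟨g, rfl⟩ := QuotientGroup.mk_surjective q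
  have hgM : (g : G) ∈ M := ⟨g, hq, rfl⟩
  exact mem_bot.2 ((QuotientGroup.eq_one_iff g).2 (mem_subgroupOf.2 (hle (x := ⟨g, hMD hgM⟩) hgM)))

end Cfsg.Lib.SymNineLocal
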