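import Cfsg.Agent.LargeExtra.EightSmith.SixSym

/-!
Moving a frame in the symmetric group of degree six to the standard one.
-/

set_option autoImplicit false
set_option maxRecDepth 100000
set_option synthInstance.maxSize 4096
set_option maxHeartbeats 1000000

namespace Cfsg.Lib.SymNineLocal

open Equiv

/-- The first cycle. -/
def ca : Perm (Fin 6) := swap 0 1 * swap 1 2
/-- The second cycle. -/
def cb : Perm (Fin 6) := swap 3 4 * swap 4 5
/-- The block exchange. -/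
def bw : Perm (Fin 6) := swap 0 3 * swap 1 4 * swap 2 5

theorem three_types : ∀ x : Perm (Fin 6), x * (x * x) = 1 → x ≠ 1 →
    ∃ g : Perm (Fin 6), g * ca * g⁻¹ = x ∨ g * (ca * cb) * g⁻¹ = x := by decide +kernel

theorem theta_double : ∃ g : Perm (Fin 6),
    g * ca * g⁻¹ = Cfsg.Lib.LargeExtra.EightSmith.theta (ca * cb) := by
  obtain ⟨π, hπ⟩ : ∃ π : Fin 6 → Fin 6, ∀ i, Cfsg.Lib.LargeExtra.EightSmith.TotMap (ca * cb) i (π i) := by
    have h : ∀ i, ∃ j, Cfsg.Lib.LargeExtra.EightSmith.TotMap (ca * cb) i j :=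
      Cfsg.Lib.LargeExtra.EightSmith.tot_exists _
    choose π hπ using h
    exact ⟨π, hπ⟩
  have hth : ∀ i, Cfsg.Lib.LargeExtra.EightSmith.theta (ca * cb) i = π i := fun i =>
    Cfsg.Lib.LargeExtra.EightSmith.thetaFun_eq (hπ i)
  have hfix : ∃ a b c : Fin 6, a ≠ b ∧ a ≠ c ∧ b ≠ c ∧ π a = a ∧ π b = b ∧ π c = c := by
    obtain ⟨a, b, c, h1, h2, h3, ha, hb, hc⟩ : ∃ a b c : Fin 6, a ≠ b ∧ a ≠ c ∧ b ≠ c ∧
        Cfsg.Lib.LargeExtra.EightSmith.TotMap (ca * cb) a a ∧ Cfsg.Lib.LargeExtra.EightSmith.TotMap (ca * cb) b b ∧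
          Cfsg.Lib.LargeExtra.EightSmith.TotMap (ca * cb) c c := by decide +kernel
    exact ⟨a, b, c, h1, h2, h3, (hπ a).unique ha, (hπ b).unique hb, (hπ c).unique hc⟩
  obtain ⟨a, b, c, h1, h2, h3, ha, hb, hc⟩ := hfix
  have hcube : Cfsg.Lib.LargeExtra.EightSmith.theta (ca * cb) *
      (Cfsg.Lib.LargeExtra.EightSmith.theta (ca * cb) * Cfsg.Lib.LargeExtra.EightSmith.theta (ca * cb)) = 1 := by
    rw [← map_mul, ← map_mul, show ca * cb * (ca * cb * (ca * cb)) = 1 by decide +kernel, map_one]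
  have hne : Cfsg.Lib.LargeExtra.EightSmith.theta (ca * cb) ≠ 1 := fun e =>
    absurd (Cfsg.Lib.LargeExtra.EightSmith.theta_injective (e.trans (map_one _).symm)) (by decide +kernel)
  obtain ⟨g, hg | hg⟩ := three_types _ hcube hne
  · exact ⟨g, hg⟩
  exfalso
  have hmv : ∀ i : Fin 6, (ca * cb) i ≠ i := by decide +kernel
  have := DFunLike.congr_fun hg a
  rw [hth, ha] at this
  refine hmv (g⁻¹ a) (g.injective ?_)
  simpa [Perm.mul_apply] using this

theorem frame_step_b : ∀ B : Perm (Fin 6), ca * B = B * ca → B * (B * B) = 1 → B ≠ 1 → B ≠ ca → B ≠ ca * ca →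
    (∃ g : Perm (Fin 6), g * ca * g⁻¹ = B) → ∃ g : Perm (Fin 6), g * ca * g⁻¹ = ca ∧ g * cb * g⁻¹ = B := by
  decide +kernel

theorem frame_step_u : ∀ U : Perm (Fin 6), U * U = 1 → U * ca * U⁻¹ = ca⁻¹ → U * cb * U⁻¹ = cb →
    ∃ g : Perm (Fin 6), g * ca * g⁻¹ = ca ∧ g * cb * g⁻¹ = cb ∧ g * swap 0 1 * g⁻¹ = U := by decide +kernel

theorem frame_step_w : ∀ W : Perm (Fin 6), W * W = 1 → W * ca * W⁻¹ = cb →
    ∃ g : Perm (Fin 6), g * ca * g⁻¹ = ca ∧ g * cb * g⁻¹ = cb ∧ g * swap 0 1 * g⁻¹ = swap 0 1 ∧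
      g * bw * g⁻¹ = W := by decide +kernel

theorem conj_trans_apply {P H : Type*} [Group P] [Group H] (θ : P ≃* H) (g x : P) :
    (MulAut.conj g).trans θ x = θ (g * x * g⁻¹) := rfl

theorem exists_iso_of_ca {H : Type*} [Group H] (θ : Perm (Fin 6) ≃* H) (A B U W : H) (hA : θ ca = A)
    (hB3 : B * (B * B) = 1) (hB1 : B ≠ 1) (hBA : B ≠ A) (hBA' : B ≠ A * A) (hAB : A * B = B * A) (hU : U * U = 1) (hUA : U * A * U⁻¹ = A⁻¹) (hUB : U * B * U⁻¹ = B)
    (hW : W * W = 1) (hWA : W * A * W⁻¹ = B) :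
    ∃ φ : Perm (Fin 6) ≃* H, φ ca = A ∧ φ cb = B ∧ φ (swap 0 1) = U ∧ φ bw = W := by
  have pull : ∀ {x : H} {y : Perm (Fin 6)}, θ y = x → θ.symm x = y := fun h => by rw [← h, MulEquiv.symm_apply_apply]
  obtain ⟨g₁, e1, e2⟩ := frame_step_b (θ.symm B) (by rw [← pull hA, ← map_mul, hAB, map_mul])
    (by rw [← map_mul, ← map_mul, hB3, map_one]) (fun h => hB1 (θ.symm.injective (h.trans (map_one _).symm)))
    (fun h => hBA (θ.symm.injective (h.trans (pull hA).symm)))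
    (fun h => hBA' (θ.symm.injective (by rw [h, map_mul, pull hA])))
    ⟨θ.symm W, by rw [← pull hA, ← map_inv, ← map_mul, ← map_mul, hWA]⟩
  let θ₁ : Perm (Fin 6) ≃* H := (MulAut.conj g₁).trans θ
  have hA1 : θ₁ ca = A := by rw [conj_trans_apply, e1, hA]
  have hB1' : θ₁ cb = B := by rw [conj_trans_apply, e2, MulEquiv.apply_symm_apply]
  obtain ⟨g₂, f1, f2, f3⟩ := frame_step_u (θ₁.symm U) (by rw [← map_mul, hU, map_one])
    (θ₁.injective (by rw [map_mul, map_mul, map_inv, map_inv, MulEquiv.apply_symm_apply, hA1, hUA]))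
    (θ₁.injective (by rw [map_mul, map_mul, map_inv, MulEquiv.apply_symm_apply, hB1', hUB]))
  let θ₂ : Perm (Fin 6) ≃* H := (MulAut.conj g₂).trans θ₁
  have hA2 : θ₂ ca = A := by rw [conj_trans_apply, f1, hA1]
  have hB2 : θ₂ cb = B := by rw [conj_trans_apply, f2, hB1']
  have hU2 : θ₂ (swap 0 1) = U := by rw [conj_trans_apply, f3, MulEquiv.apply_symm_apply]
  obtain ⟨g₃, k1, k2, k3, k4⟩ := frame_step_w (θ₂.symm W) (by rw [← map_mul, hW, map_one])
    (θ₂.injective (by rw [map_mul, map_mul, map_inv, MulEquiv.apply_symm_apply, hA2, hB2, hWA]))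
  refine ⟨(MulAut.conj g₃).trans θ₂, ?_, ?_, ?_, ?_⟩
  · rw [conj_trans_apply, k1, hA2]
  · rw [conj_trans_apply, k2, hB2]
  · rw [conj_trans_apply, k3, hU2]
  · rw [conj_trans_apply, k4, MulEquiv.apply_symm_apply]

/-- An isomorphism taking the standard frame to a given one. -/
theorem exists_iso {H : Type*} [Group H] (e : H ≃* Perm (Fin 6)) (A B U W : H) (hA : A * (A * A) = 1) (hA1 : A ≠ 1)
    (hB3 : B * (B * B) = 1) (hB1 : B ≠ 1) (hBA : B ≠ A) (hBA' : B ≠ A * A) (hAB : A * B = B * A) (hU : U * U = 1) (hUA : U * A * U⁻¹ = A⁻¹) (hUB : U * B * U⁻¹ = B)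
    (hW : W * W = 1) (hWA : W * A * W⁻¹ = B) :
    ∃ φ : Perm (Fin 6) ≃* H, φ ca = A ∧ φ cb = B ∧ φ (swap 0 1) = U ∧ φ bw = W := by
  obtain ⟨g, hg | hg⟩ := three_types (e A) (by rw [← map_mul, ← map_mul, hA, map_one])
    (fun h => hA1 (e.injective (h.trans (map_one _).symm)))
  · exact exists_iso_of_ca ((MulAut.conj g).trans e.symm) A B U W
      (by rw [conj_trans_apply, hg, MulEquiv.symm_apply_apply]) hB3 hB1 hBA hBA' hAB hU hUA hUB hW hWA
  · obtain ⟨k, hk⟩ := theta_double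
    let t : Perm (Fin 6) ≃* Perm (Fin 6) := MulEquiv.ofBijective Cfsg.Lib.LargeExtra.EightSmith.theta
      Cfsg.Lib.LargeExtra.EightSmith.theta_bijective
    refine exists_iso_of_ca ((MulAut.conj k).trans (t.symm.trans ((MulAut.conj g).trans e.symm))) A B U W ?_
      hB3 hB1 hBA hBA' hAB hU hUA hUB hW hWA
    rw [conj_trans_apply, MulEquiv.trans_apply, conj_trans_apply, hk, show t.symm (Cfsg.Lib.LargeExtra.EightSmith.theta (ca * cb)) = ca * cb from t.symm_apply_apply _, hg,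
      MulEquiv.symm_apply_apply]

theorem commute_unique : ∀ u : Perm (Fin 6), u * u = 1 → u * swap 0 1 = swap 0 1 * u → u * swap 4 5 = swap 4 5 * u →
    u * swap 1 2 * (u * swap 1 2 * (u * swap 1 2)) = 1 → u * swap 3 4 * (u * swap 3 4 * (u * swap 3 4)) = 1 →
      u = swap 2 3 := by decide +kernel

theorem gen_words : ca * swap 0 1 * ca⁻¹ = swap 1 2 ∧ bw * swap 0 1 * bw⁻¹ = swap 3 4 ∧
    cb * swap 3 4 * cb⁻¹ = swap 4 5 := by decide +kernel

theorem cox_rel : (swap (2 : Fin 6) 3 * swap 2 3 = 1) ∧ (swap (2 : Fin 6) 3 * swap 0 1 = swap 0 1 * swap 2 3) ∧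
    (swap (2 : Fin 6) 3 * swap 4 5 = swap 4 5 * swap 2 3) ∧
    (swap (2 : Fin 6) 3 * swap 1 2 * (swap 2 3 * swap 1 2 * (swap 2 3 * swap 1 2)) = 1) ∧
    (swap (2 : Fin 6) 3 * swap 3 4 * (swap 2 3 * swap 3 4 * (swap 2 3 * swap 3 4)) = 1) := by decide +kernel

theorem closure_frame {K : Subgroup (Perm (Fin 6))} (h1 : ca ∈ K) (h2 : cb ∈ K) (h3 : swap 0 1 ∈ K) (h4 : bw ∈ K)
    (h5 : swap 2 3 ∈ K) : K = ⊤ := by
  have hw : ∀ i : Fin 5, swap (i.castSucc : Fin 6) i.succ ∈ K := by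
    intro i
    fin_cases i
    · exact h3
    · show swap (1 : Fin 6) 2 ∈ K
      rw [← gen_words.1]; exact mul_mem (mul_mem h1 h3) (inv_mem h1)
    · exact h5
    · show swap (3 : Fin 6) 4 ∈ K
      rw [← gen_words.2.1]; exact mul_mem (mul_mem h4 h3) (inv_mem h4)
    · show swap (4 : Fin 6) 5 ∈ K
      rw [← gen_words.2.2, ← gen_words.2.1]
      exact mul_mem (mul_mem h2 (mul_mem (mul_mem h4 h3) (inv_mem h4))) (inv_mem h2)
  refine eq_top_iff.2 fun x _ => ?_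
  have hx : x ∈ Submonoid.closure (Set.range fun i : Fin 5 => swap (i.castSucc : Fin 6) i.succ) := by
    rw [Equiv.Perm.mclosure_swap_castSucc_succ]; exact Submonoid.mem_top x
  exact (Submonoid.closure_le (S := K.toSubmonoid)).2 (by rintro _ ⟨i, rfl⟩; exact hw i) hx

/-- An automorphism fixing the frame is trivial. -/
theorem aut_trivial (α : Perm (Fin 6) →* Perm (Fin 6)) (h1 : α ca = ca) (h2 : α cb = cb)
    (h3 : α (swap 0 1) = swap 0 1) (h4 : α bw = bw) : ∀ x, α x = x := by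
  have h12 : α (swap 1 2) = swap 1 2 := by rw [← gen_words.1, map_mul, map_mul, map_inv, h1, h3]
  have h34 : α (swap 3 4) = swap 3 4 := by rw [← gen_words.2.1, map_mul, map_mul, map_inv, h4, h3]
  have h45 : α (swap 4 5) = swap 4 5 := by rw [← gen_words.2.2, map_mul, map_mul, map_inv, h2, h34]
  obtain ⟨c1, c2, c3, c4, c5⟩ := cox_rel
  have h5 : α (swap 2 3) = swap 2 3 := commute_unique _ (by rw [← map_mul, c1, map_one])
    (by conv_lhs => rw [← h3, ← map_mul, c2, map_mul, h3])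
    (by conv_lhs => rw [← h45, ← map_mul, c3, map_mul, h45])
    (by rw [← h12, ← map_mul, ← map_mul, ← map_mul, c4, map_one])
    (by rw [← h34, ← map_mul, ← map_mul, ← map_mul, c5, map_one])
  have := closure_frame (K := α.eqLocus (MonoidHom.id _)) h1 h2 h3 h4 h5
  exact fun x => (this.symm ▸ Subgroup.mem_top x : x ∈ α.eqLocus (MonoidHom.id _))

end Cfsg.Lib.SymNineLocal
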