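import Cfsg.Agent.LocalThree.SymNineLocal.Frame

/-!
First consequences of the coordinates: the action of the normaliser, its three-subgroups and fusion in
the elementary group.
-/

set_option autoImplicit false
set_option linter.unusedSectionVars false
set_option maxRecDepth 8000
set_option synthInstance.maxSize 4000

namespace Cfsg.Lib.SymNineLocal

open Subgroup
open scoped Pointwise

universe u

theorem actM_zero : ∀ v, actM 0 v = v := by decide +kernel

theorem m_inverse : ∀ m : Fin 48, ∃ n, ∀ v, actM m (actM n v) = v ∧ actM n (actM m v) = v := by decide +kernel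

theorem m_facts : (∀ m, mulM 0 m = m ∧ mulM m 0 = m) ∧ ofP 0 = 0 := by decide +kernel

/-- A signed permutation as a permutation of the vectors. -/
def actE (m : Fin 48) : Equiv.Perm (Fin 27) :=
  ⟨actM m, actM (Fin.ofNat 48 ((List.finRange 48).find? fun n => mulM m n = 0).get!.val),
    fun v => (show ∀ (m : Fin 48) (v : Fin 27),
      actM (Fin.ofNat 48 ((List.finRange 48).find? fun n => mulM m n = 0).get!.val) (actM m v) = v by decide +kernel) m v,
    fun v => (show ∀ (m : Fin 48) (v : Fin 27),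
      actM m (actM (Fin.ofNat 48 ((List.finRange 48).find? fun n => mulM m n = 0).get!.val) v) = v by decide +kernel) m v⟩

theorem actE_apply (m : Fin 48) (v : Fin 27) : actE m v = actM m v := rfl

theorem actE_mul (m n : Fin 48) : actE (mulM m n) = actE m * actE n := Equiv.ext fun v => mulM_spec m n v

theorem actE_inj : Function.Injective actE := fun m n h =>
  actM_inj m n (DFunLike.congr_fun h 1) (DFunLike.congr_fun h 3) (DFunLike.congr_fun h 9)

theorem actE_zero : actE 0 = 1 := Equiv.ext actM_zero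

theorem actE_twelve : ∀ m : Fin 48,
    mulM (mulM (mulM m (mulM m m)) (mulM m (mulM m m))) (mulM (mulM m (mulM m m)) (mulM m (mulM m m))) = 0 := by
  decide +kernel

theorem order_three_cent : ∀ m : Fin 48, mulM m (mulM m m) = 0 → m ≠ 0 →
    (Finset.univ.filter fun v : Fin 27 => actM m v = v).card ≤ 3 ∧
    (Finset.univ.filter fun n : Fin 48 => mulM n (mulM n n) = 0 ∧ mulM n m = mulM m n).card ≤ 3 := by decide +kernel

namespace Frame

variable {G : Type u} [Group G] [Finite G] (F : Frame G)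

/-- The element acts by the signed permutation. -/
def Acts (g : G) (m : Fin 48) : Prop := ∀ v, g * F.e v * g⁻¹ = F.e (actM m v)

include F

theorem e_zero : F.e 0 = 1 := mul_eq_left.1 ((F.e_add 0 0).symm.trans (congrArg F.e (ad_zero 0).1))

theorem e_mem (v : Fin 27) : F.e v ∈ F.J := (F.memJ _).2 ⟨v, rfl⟩

theorem J_comm {a b : G} (ha : a ∈ F.J) (hb : b ∈ F.J) : a * b = b * a := by
  obtain ⟨v, rfl⟩ := (F.memJ a).1 ha
  obtain ⟨w, rfl⟩ := (F.memJ b).1 hb
  rw [← F.e_add, ← F.e_add, ad_comm]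

theorem J_cube {a : G} (ha : a ∈ F.J) : a * (a * a) = 1 := by
  obtain ⟨v, rfl⟩ := (F.memJ a).1 ha
  rw [← F.e_add, ← F.e_add, (show ∀ v, ad v (ad v v) = 0 by decide +kernel) v, F.e_zero]

theorem e_inv (v : Fin 27) : F.e (ng v) = (F.e v)⁻¹ :=
  eq_inv_of_mul_eq_one_left (by rw [← F.e_add, (ad_zero v).2.2.2.1, F.e_zero])

theorem e_ne {v : Fin 27} (hv : v ≠ 0) : F.e v ≠ 1 := fun h => hv (F.e_inj (h.trans F.e_zero.symm))

theorem card_J : Nat.card F.J = 27 := by
  have h : Function.Bijective fun v => (⟨F.e v, F.e_mem v⟩ : F.J) :=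
    ⟨fun v w h => F.e_inj (congrArg Subtype.val h), fun j => (F.memJ _).1 j.2 |>.imp fun v hv => Subtype.ext hv⟩
  rw [← Nat.card_eq_of_bijective _ h, Nat.card_fin]

theorem pgroup_J : IsPGroup 3 F.J := IsPGroup.of_card (n := 3) F.card_J

theorem acts_mem {g : G} {m : Fin 48} (h : F.Acts g m) : g ∈ normalizer (F.J : Set G) := by
  refine Subgroup.mem_normalizer_iff_map_conj_eq.2 (Subgroup.eq_of_le_of_card_ge ?_
    (by rw [Subgroup.card_map_of_injective (MulAut.conj g).injective]))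
  rintro _ ⟨j, hj, rfl⟩
  obtain ⟨v, rfl⟩ := (F.memJ j).1 hj
  exact (F.memJ _).2 ⟨_, (h v).symm⟩

theorem exists_acts {g : G} (hg : g ∈ normalizer (F.J : Set G)) : ∃ m, inX F.k m ∧ F.Acts g m := F.mono g hg

theorem acts_unique {g : G} {m n : Fin 48} (h : F.Acts g m) (h' : F.Acts g n) : m = n :=
  actM_inj m n (F.e_inj ((h 1).symm.trans (h' 1))) (F.e_inj ((h 3).symm.trans (h' 3)))
    (F.e_inj ((h 9).symm.trans (h' 9)))

theorem acts_inX {g : G} {m : Fin 48} (h : F.Acts g m) : inX F.k m := by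
  obtain ⟨n, hn, hn'⟩ := F.mono g (F.acts_mem h)
  exact F.acts_unique h hn' ▸ hn

theorem acts_mul {g g' : G} {m n : Fin 48} (h : F.Acts g m) (h' : F.Acts g' n) : F.Acts (g * g') (mulM m n) := fun v => by
  rw [mulM_spec, ← h, ← h']; group

theorem acts_one : F.Acts 1 0 := fun v => by rw [one_mul, inv_one, mul_one, actM_zero]

theorem acts_J {j : G} (hj : j ∈ F.J) : F.Acts j 0 := fun v => by
  rw [actM_zero, F.J_comm hj (F.e_mem v), mul_inv_cancel_right]

theorem acts_s (p : Fin 6) : F.Acts (F.s p) (ofP p) := fun v => by rw [F.s_act, ofP_spec]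

theorem s_zero : F.s 0 = 1 :=
  mul_eq_left.1 ((F.s_mul 0 0).trans (congrArg F.s (show pc 0 0 = 0 by decide +kernel)))

theorem s_inj : Function.Injective F.s := fun p q h => by
  have e : ofP p = ofP q := F.acts_unique (F.acts_s p) (h ▸ F.acts_s q)
  exact Fin.ext (congrArg Fin.val e :)

theorem ker {g : G} (h : F.Acts g 0) : g ∈ F.J := by
  have hz : Commute g (F.e 13) := by
    have e := h 13
    rw [actM_zero, mul_inv_eq_iff_eq_mul] at e
    exact e
  obtain ⟨w, p, rfl⟩ := F.cent g hz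
  have hp : ofP p = 0 := F.acts_unique ((m_facts.1 (ofP p)).1 ▸ F.acts_mul (F.acts_J (F.e_mem w)) (F.acts_s p)) h
  rw [show p = 0 from Fin.ext (congrArg Fin.val hp :), F.s_zero, mul_one]
  exact F.e_mem w

theorem cJ : centralizer (F.J : Set G) ≤ F.J := fun g hg =>
  F.ker fun v => by
    rw [actM_zero, ← mem_centralizer_iff.1 hg _ (F.e_mem v), mul_inv_cancel_right]

theorem cJ_eq : centralizer (F.J : Set G) = F.J :=
  le_antisymm F.cJ fun _ hg => mem_centralizer_iff.2 fun _ ha => F.J_comm ha hg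

theorem acts_inv {g : G} {m n : Fin 48} (h : F.Acts g m) (hn : mulM n m = 0) : F.Acts g⁻¹ n := by
  obtain ⟨n', -, hn'⟩ := F.mono g⁻¹ (inv_mem (F.acts_mem h))
  have e := F.acts_unique (F.acts_mul hn' h) ((inv_mul_cancel g).symm ▸ F.acts_one)
  have key : ∀ n n' : Fin 48, actE n * actE m = 1 → actE n' * actE m = 1 → n = n' := fun a b ha hb =>
    actE_inj (mul_right_cancel (ha.trans hb.symm))
  rw [key n n' (by rw [← actE_mul, hn, actE_zero]) (by rw [← actE_mul, e, actE_zero])]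
  exact hn'

/-- The action as a homomorphism. -/
theorem exists_hom : ∃ f : normalizer (F.J : Set G) →* Equiv.Perm (Fin 27),
    ∀ (g : normalizer (F.J : Set G)) (m : Fin 48), F.Acts (g : G) m → f g = actE m := by
  choose m hm hm' using fun g : normalizer (F.J : Set G) => F.mono g.1 g.2
  refine ⟨MonoidHom.mk' (fun g => actE (m g)) fun g g' => ?_, fun g n h => ?_⟩
  · rw [← actE_mul]
    exact congrArg actE (F.acts_unique (hm' (g * g')) (F.acts_mul (hm' g) (hm' g')))
  · show actE (m g) = actE n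
    rw [F.acts_unique (hm' g) h]

/-- The order of a subgroup of the normaliser. -/
theorem card_split {H : Subgroup G} (hH : H ≤ normalizer (F.J : Set G)) :
    Nat.card H = Nat.card (H ⊓ F.J : Subgroup G) * {m : Fin 48 | ∃ h ∈ H, F.Acts h m}.ncard := by
  obtain ⟨f, hf⟩ := F.exists_hom
  let g := f.comp (Subgroup.inclusion hH)
  have hr : (g.range : Set (Equiv.Perm (Fin 27))) = actE '' {m : Fin 48 | ∃ h ∈ H, F.Acts h m} := by
    ext σ
    constructor
    · rintro ⟨h, rfl⟩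
      obtain ⟨m, -, hm⟩ := F.mono h.1 (hH h.2)
      exact ⟨m, ⟨_, h.2, hm⟩, (hf ⟨h.1, hH h.2⟩ m hm).symm⟩
    · rintro ⟨m, ⟨h, hh, hm⟩, rfl⟩
      exact ⟨⟨h, hh⟩, hf _ _ hm⟩
  have hk : Nat.card g.ker = Nat.card (H ⊓ F.J : Subgroup G) := by
    refine Nat.card_congr
      { toFun := fun x => ⟨x.1.1, ⟨x.1.2, ?_⟩⟩
        invFun := fun x => ⟨⟨x.1, x.2.1⟩, ?_⟩
        left_inv := fun _ => rfl
        right_inv := fun _ => rfl }
    · obtain ⟨m, -, hm⟩ := F.mono x.1.1 (hH x.1.2)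
      have e : actE m = actE 0 := (hf ⟨x.1.1, hH x.1.2⟩ m hm).symm.trans ((MonoidHom.mem_ker.1 x.2).trans actE_zero.symm)
      exact F.ker (actE_inj e ▸ hm)
    · exact MonoidHom.mem_ker.2 ((hf _ _ (F.acts_J x.2.2)).trans actE_zero)
  rw [← hk, ← Set.ncard_image_of_injective _ actE_inj, ← hr, ← Nat.card_coe_set_eq, SetLike.coe_sort_coe,
    ← Subgroup.index_ker, Subgroup.card_mul_index]

theorem acts_cube {g : G} {m : Fin 48} (hm : F.Acts g m) {n : ℕ} (hn : g ^ 3 ^ n = 1) : mulM m (mulM m m) = 0 := by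
  obtain ⟨f, hf⟩ := F.exists_hom
  have h1 : actE m ^ 3 ^ n = 1 := by
    rw [← hf ⟨g, F.acts_mem hm⟩ m hm, ← map_pow,
      show (⟨g, F.acts_mem hm⟩ : normalizer (F.J : Set G)) ^ 3 ^ n = 1 from Subtype.ext hn, map_one]
  have h12 : actE m ^ 12 = 1 := by
    have := congrArg actE (actE_twelve m)
    rw [actE_zero] at this
    simp only [actE_mul] at this
    rw [← this]; simp only [pow_succ, pow_zero, one_mul, mul_assoc]
  have h3 : actE m ^ 3 = 1 := by
    refine orderOf_dvd_iff_pow_eq_one.1 ?_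
    obtain ⟨i, -, hi⟩ := (Nat.dvd_prime_pow Nat.prime_three).1 (orderOf_dvd_of_pow_eq_one h1)
    have hd := orderOf_dvd_of_pow_eq_one h12
    rw [hi] at hd ⊢
    have : i ≤ 1 := by
      by_contra hc
      have := dvd_trans (pow_dvd_pow 3 (show 2 ≤ i by omega)) hd
      norm_num at this
    exact dvd_trans (pow_dvd_pow 3 this) (by norm_num)
  refine actE_inj ?_
  rw [actE_mul, actE_mul, actE_zero, ← pow_two, ← pow_succ', h3]

/-- The only abelian subgroup of order `27` among the three-subgroups of the normaliser. -/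
theorem eq_J {A : Subgroup G} (hA : A ≤ normalizer (F.J : Set G)) (hp : IsPGroup 3 A) (h27 : 27 ≤ Nat.card A)
    (hc : ∀ a ∈ A, ∀ b ∈ A, a * b = b * a) : A = F.J := by
  refine Subgroup.eq_of_le_of_card_ge (fun a ha => ?_) (by rw [F.card_J]; exact h27)
  obtain ⟨m, -, hm⟩ := F.mono a (hA ha)
  have hcube : ∀ {b m}, b ∈ A → F.Acts b m → mulM m (mulM m m) = 0 := fun {b m} hb h => by
    obtain ⟨n, hn⟩ := hp ⟨b, hb⟩
    exact F.acts_cube h (show b ^ 3 ^ n = 1 from congrArg Subtype.val hn)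
  by_cases h0 : m = 0
  · exact F.ker (h0 ▸ hm)
  exfalso
  obtain ⟨h1, h2⟩ := order_three_cent m (hcube ha hm) h0
  have hs1 : Nat.card (A ⊓ F.J : Subgroup G) ≤ 3 := by
    refine le_trans ?_ h1
    choose f hf using fun x : (A ⊓ F.J : Subgroup G) => (F.memJ x.1).1 x.2.2
    rw [← Nat.card_eq_finsetCard]
    refine Nat.card_le_card_of_injective (fun x => ⟨f x, Finset.mem_filter.2 ⟨Finset.mem_univ _, F.e_inj ?_⟩⟩)
      fun x y h => Subtype.ext (by rw [← hf x, ← hf y, show f x = f y from congrArg Subtype.val h])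
    rw [← hm, hf x, hc a ha _ x.2.1, mul_inv_cancel_right]
  have hs2 : {n : Fin 48 | ∃ h ∈ A, F.Acts h n}.ncard ≤ 3 := by
    refine le_trans ?_ h2
    rw [← Set.ncard_coe_finset]
    refine Set.ncard_le_ncard ?_ (Finset.finite_toSet _)
    rintro n ⟨b, hb, hn⟩
    refine Finset.mem_filter.2 ⟨Finset.mem_univ _, hcube hb hn, F.acts_unique (F.acts_mul hn hm) ?_⟩
    rw [hc b hb a ha]
    exact F.acts_mul hm hn
  have := F.card_split hA
  have := Nat.mul_le_mul hs1 hs2
  omega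

/-- A three-subgroup containing the elementary group normalises it. -/
theorem pgroup_le {Q : Subgroup G} (hQ : IsPGroup 3 Q) (hJQ : F.J ≤ Q) : Q ≤ normalizer (F.J : Set G) := by
  have : Fact (Nat.Prime 3) := ⟨Nat.prime_three⟩
  haveI : Group.IsNilpotent Q := hQ.isNilpotent
  obtain ⟨K, hK⟩ : ∃ K : Subgroup Q, K = (normalizer (F.J : Set G)).subgroupOf Q := ⟨_, rfl⟩
  have hKH : K.map Q.subtype ≤ normalizer (F.J : Set G) := by
    rw [hK]
    rintro _ ⟨y, hy, rfl⟩
    exact hy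
  have hJK : F.J ≤ K.map Q.subtype := fun j hj =>
    ⟨⟨j, hJQ hj⟩, hK ▸ (Subgroup.le_normalizer hj : j ∈ normalizer (F.J : Set G)), rfl⟩
  have htop : K = ⊤ := by
    refine normalizerCondition_iff_only_full_group_self_normalizing.1 Group.normalizerCondition_of_isNilpotent K
      (le_antisymm (fun g hg => ?_) Subgroup.le_normalizer)
    have hAK : F.J.map (MulAut.conj (g : G)).toMonoidHom ≤ K.map Q.subtype := by
      rintro _ ⟨j, hj, rfl⟩
      obtain ⟨y, hy, hyj⟩ := hJK hj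
      refine ⟨g * y * g⁻¹, (mem_normalizer_iff.1 hg y).1 hy, ?_⟩
      simp only [Subgroup.coe_subtype, Subgroup.coe_mul, InvMemClass.coe_inv] at hyj ⊢
      rw [hyj]; rfl
    have e := F.eq_J (hAK.trans hKH) (F.pgroup_J.map _)
      (by rw [Subgroup.card_map_of_injective (MulAut.conj (g : G)).injective, F.card_J]) (by
        rintro _ ⟨a, ha, rfl⟩ _ ⟨b, hb, rfl⟩
        rw [← map_mul, ← map_mul, F.J_comm ha hb])
    rw [hK, mem_subgroupOf]
    exact Subgroup.mem_normalizer_iff_map_conj_eq.2 e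
  intro x hx
  exact hKH ⟨⟨x, hx⟩, htop ▸ Subgroup.mem_top _, rfl⟩

/-- A conjugate of the elementary group inside a three-group through it. -/
theorem weak {Q : Subgroup G} (hQ : IsPGroup 3 Q) (hJQ : F.J ≤ Q) {g : G} (hg : ∀ j ∈ F.J, g * j * g⁻¹ ∈ Q) :
    g ∈ normalizer (F.J : Set G) := by
  refine Subgroup.mem_normalizer_iff_map_conj_eq.2 (F.eq_J ?_ (F.pgroup_J.map _)
    (by rw [Subgroup.card_map_of_injective (MulAut.conj g).injective, F.card_J]) ?_)
  · rintro _ ⟨j, hj, rfl⟩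
    exact F.pgroup_le hQ hJQ (hg j hj)
  · rintro _ ⟨a, ha, rfl⟩ _ ⟨b, hb, rfl⟩
    rw [← map_mul, ← map_mul, F.J_comm ha hb]

/-- Fusion in the elementary group is controlled by its normaliser. -/
theorem fusion {g j : G} (hj : j ∈ F.J) (hgj : g * j * g⁻¹ ∈ F.J) :
    ∃ h ∈ normalizer (F.J : Set G), h * j * h⁻¹ = g * j * g⁻¹ := by
  have : Fact (Nat.Prime 3) := ⟨Nat.prime_three⟩
  obtain ⟨C, hC⟩ : ∃ C : Subgroup G, C = centralizer ({j} : Set G) := ⟨_, rfl⟩
  have hJC : F.J ≤ C := hC ▸ fun a ha => mem_centralizer_singleton_iff.2 (F.J_comm ha hj)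
  have hJ'C : F.J.map (MulAut.conj g⁻¹).toMonoidHom ≤ C := by
    rintro _ ⟨a, ha, rfl⟩
    rw [hC, mem_centralizer_singleton_iff]
    show g⁻¹ * a * g⁻¹⁻¹ * j = j * (g⁻¹ * a * g⁻¹⁻¹)
    calc g⁻¹ * a * g⁻¹⁻¹ * j = g⁻¹ * (a * (g * j * g⁻¹)) * g := by group
      _ = g⁻¹ * (g * j * g⁻¹ * a) * g := by rw [F.J_comm ha hgj]
      _ = _ := by group
  obtain ⟨P, hP⟩ := (F.pgroup_J.comap_of_injective C.subtype C.subtype_injective).exists_le_sylow
  obtain ⟨P', hP'⟩ := ((F.pgroup_J.map (MulAut.conj g⁻¹).toMonoidHom).comap_of_injective C.subtype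
    C.subtype_injective).exists_le_sylow
  obtain ⟨c, hc⟩ := MulAction.exists_smul_eq C P' P
  obtain ⟨Q, hQ⟩ : ∃ Q : Subgroup G, Q = (P : Subgroup C).map C.subtype := ⟨_, rfl⟩
  have hJQ : F.J ≤ Q := fun a ha => hQ ▸ ⟨⟨a, hJC ha⟩, hP ha, rfl⟩
  have hmem : ∀ a ∈ F.J, ((c : G) * g⁻¹) * a * ((c : G) * g⁻¹)⁻¹ ∈ Q := by
    intro a ha
    have hm : g⁻¹ * a * g⁻¹⁻¹ ∈ F.J.map (MulAut.conj g⁻¹).toMonoidHom := ⟨a, ha, rfl⟩
    refine hQ ▸ ⟨c * ⟨_, hJ'C hm⟩ * c⁻¹, ?_, ?_⟩
    · rw [← hc, Sylow.coe_subgroup_smul]; exact ⟨_, hP' hm, rfl⟩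
    · simp only [Subgroup.coe_subtype, Subgroup.coe_mul, InvMemClass.coe_inv]; group
  have hw := F.weak (hQ ▸ P.2.map _) hJQ hmem
  refine ⟨((c : G) * g⁻¹)⁻¹, inv_mem hw, ?_⟩
  have hcj : (c : G) * j = j * c := mem_centralizer_singleton_iff.1 (hC ▸ c.2 : (c : G) ∈ centralizer ({j} : Set G))
  calc ((c : G) * g⁻¹)⁻¹ * j * ((c : G) * g⁻¹)⁻¹⁻¹ = g * ((c : G)⁻¹ * (j * c)) * g⁻¹ := by group
    _ = _ := by rw [← hcj, inv_mul_cancel_left]

/-- Two involutions with the same action are conjugate under the elementary group. -/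
theorem conj_of_acts {u v : G} {m : Fin 48} (hu : u * u = 1) (hv : v * v = 1) (hum : F.Acts u m) (hvm : F.Acts v m) :
    ∃ j ∈ F.J, j * u * j⁻¹ = v := by
  have hm2 : mulM m m = 0 := F.acts_unique (hu ▸ F.acts_mul hum hum) F.acts_one
  have hj : u * v ∈ F.J := F.ker (hm2 ▸ F.acts_mul hum hvm)
  refine ⟨u * v, hj, ?_⟩
  have h3 : u * v * (u * v * (u * v)) = 1 := F.J_cube hj
  have hui : u⁻¹ = u := inv_eq_of_mul_eq_one_right hu
  have hvi : v⁻¹ = v := inv_eq_of_mul_eq_one_right hv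
  rw [mul_inv_rev, hui, hvi]
  calc u * v * u * (v * u) = u * v * (u * v * (u * v)) * v⁻¹ := by group
    _ = v := by rw [h3, one_mul, hvi]

end Frame

end Cfsg.Lib.SymNineLocal
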