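import Cfsg.Agent.LocalThree.SymNineLocal.Model
import Cfsg.Agent.LocalThree.AltNineLocal.Model

/-!
The centraliser of three disjoint three-cycles in the symmetric group of degree nine.
-/

set_option autoImplicit false
set_option maxRecDepth 8000
set_option synthInstance.maxSize 4000

namespace Cfsg.Lib.SymNineLocal

open Equiv Cfsg.Lib.AltNineLocal

/-- The product of the three cycles. -/
def zNine : Perm (Fin 9) := swap (0 : Fin 9) 1 * swap 1 2 * swap 3 4 * swap 4 5 * swap 6 7 * swap 7 8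

/-- The translation with given coordinates. -/
def tz (v : Fin 27) : Perm (Fin 9) := cyc 0 ^ dg v 0 * cyc 1 ^ dg v 1 * cyc 2 ^ dg v 2

/-- The index of the composite. -/
def pc (p q : Fin 6) : Fin 6 :=
  Fin.ofNat 6 (pmT.idxOf ((List.range 3).map fun i => pm q (pm p i)))

/-- The index of the inverse. -/
def pinv (p : Fin 6) : Fin 6 := ([0, 1, 2, 4, 3, 5] : List (Fin 6)).getD p.val 0

/-- The image of a point under a block permutation. -/
def bpf (p : Fin 6) (i : Fin 9) : Fin 9 := pt (Fin.ofNat 3 (pm p (blk i).val)) (pos i)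

theorem bpf_inv : ∀ p i, bpf p (bpf (pinv p) i) = i ∧ bpf (pinv p) (bpf p i) = i := by decide +kernel

/-- The block permutation moving coordinates as `actP`. -/
def bp (p : Fin 6) : Perm (Fin 9) :=
  ⟨bpf (pinv p), bpf p, fun i => (bpf_inv p i).1, fun i => (bpf_inv p i).2⟩

/-- The product on coordinates. -/
def mulC (a b : Fin 27 × Fin 6) : Fin 27 × Fin 6 := (ad a.1 (actP a.2 b.1), pc a.2 b.2)

theorem tz_add : ∀ v w, tz (ad v w) = tz v * tz w := by decide +kernel

theorem bp_conj : ∀ p v, bp p * tz v = tz (actP p v) * bp p := by decide +kernel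

theorem bp_mul : ∀ p q, bp p * bp q = bp (pc p q) := by decide +kernel

theorem bp_zero : bp 0 = 1 ∧ tz 0 = 1 ∧ tz 13 = zNine := by decide +kernel

theorem elC_comm : ∀ v p, tz v * bp p * zNine = zNine * (tz v * bp p) := by decide +kernel

theorem elC_inj : ∀ v p, tz v * bp p = 1 → v = 0 ∧ p = 0 := by decide +kernel

theorem elC_mul (a b : Fin 27 × Fin 6) :
    tz a.1 * bp a.2 * (tz b.1 * bp b.2) = tz (mulC a b).1 * bp (mulC a b).2 := by
  rw [mulC, tz_add, ← bp_mul, show tz a.1 * bp a.2 * (tz b.1 * bp b.2) = tz a.1 * (bp a.2 * tz b.1) * bp b.2 by group,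
    bp_conj]
  group

theorem three_points : ∀ a b c : Fin 9, blk a ≠ blk b → blk a ≠ blk c → blk b ≠ blk c →
    ∃ v : Fin 27, ∃ p : Fin 6, (tz v * bp p) 0 = a ∧ (tz v * bp p) 3 = b ∧ (tz v * bp p) 6 = c := by decide +kernel

theorem orbit_z : ∀ i : Fin 9, (i = pt (blk i) 0 ∨ i = zNine (pt (blk i) 0) ∨ i = zNine (zNine (pt (blk i) 0))) ∧
    (∀ j : Fin 9, blk i = blk j → j = i ∨ j = zNine i ∨ j = zNine (zNine i)) := by decide +kernel

theorem pt_zero : pt 0 0 = 0 ∧ pt 1 0 = 3 ∧ pt 2 0 = 6 ∧ ∀ i, blk (zNine i) = blk i := by decide +kernel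

/-- Every permutation commuting with the product of the cycles has coordinates. -/
theorem exists_coords {σ : Perm (Fin 9)} (h : σ * zNine = zNine * σ) : ∃ v p, σ = tz v * bp p := by
  have hz : ∀ i, σ (zNine i) = zNine (σ i) := fun i => by
    rw [← Perm.mul_apply, h, Perm.mul_apply]
  have hne : ∀ i j : Fin 9, blk i ≠ blk j → blk (σ i) ≠ blk (σ j) := by
    intro i j hij e
    rcases (orbit_z (σ i)).2 (σ j) e with e' | e' | e'
    · exact hij (σ.injective e' ▸ rfl)
    · rw [← hz] at e'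
      exact hij (by rw [σ.injective e', pt_zero.2.2.2])
    · rw [← hz, ← hz] at e'
      exact hij (by rw [σ.injective e', pt_zero.2.2.2, pt_zero.2.2.2])
  obtain ⟨v, p, h0, h3, h6⟩ := three_points (σ 0) (σ 3) (σ 6) (hne 0 3 (by decide)) (hne 0 6 (by decide))
    (hne 3 6 (by decide))
  refine ⟨v, p, Equiv.ext fun i => ?_⟩
  have hb : ∀ t : Fin 3, σ (pt t 0) = (tz v * bp p) (pt t 0) := by
    intro t
    fin_cases t
    · exact h0.symm
    · exact h3.symm
    · exact h6.symm
  have hz' : ∀ i, (tz v * bp p) (zNine i) = zNine ((tz v * bp p) i) := fun i => by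
    rw [← Perm.mul_apply, elC_comm, Perm.mul_apply]
  rcases (orbit_z i).1 with e | e | e <;> rw [e]
  · exact hb _
  · rw [hz, hz', hb]
  · rw [hz, hz, hz', hz', hb]

theorem small_centraliser : ∀ a : Fin 27 × Fin 6, mulC a (mulC a a) = (0, 0) → a.2 ≠ 0 →
    (Finset.univ.filter fun b : Fin 27 × Fin 6 => mulC a b = mulC b a ∧ mulC b (mulC b b) = (0, 0)).card < 27 := by
  decide +kernel

end Cfsg.Lib.SymNineLocal
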