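import Cfsg.Agent.LocalThree.SymNineLocal.Basics
import Cfsg.Agent.LocalThree.SymNineLocal.Quot

/-!
The centralisers of planes and of elements which no three-element of the automizer fixes.
-/

set_option autoImplicit false
set_option linter.unusedSectionVars false
set_option maxRecDepth 8000
set_option synthInstance.maxSize 4000

namespace Cfsg.Lib.SymNineLocal

open Subgroup
open scoped Pointwise

universe u

/-- No signed permutation of order three in the group fixes the vector. -/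
def NoFix (k : Fin 4) (v : Fin 27) : Prop := ∀ m, inX k m → mulM m (mulM m m) = 0 → actM m v = v → m = 0

instance (k : Fin 4) (v : Fin 27) : Decidable (NoFix k v) := inferInstanceAs (Decidable (∀ _, _))

/-- The stabiliser of the vector has exponent two. -/
def ExpTwo (k : Fin 4) (v : Fin 27) : Prop := ∀ m, inX k m → actM m v = v → mulM m m = 0

instance (k : Fin 4) (v : Fin 27) : Decidable (ExpTwo k v) := inferInstanceAs (Decidable (∀ _, _))

/-- The span of two vectors. -/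
def span2 (v w : Fin 27) : List (Fin 27) :=
  (List.finRange 9).map fun i => ad (sc (i.val % 3) v) (sc (i.val / 3) w)

theorem sc_sum : ∀ i i' : Fin 3, ∀ v : Fin 27, ad (sc i.val v) (sc i'.val v) = sc ((i.val + i'.val) % 3) v := by
  decide +kernel

theorem sc_ad : ∀ i : Fin 3, ∀ v w : Fin 27, sc i.val (ad v w) = ad (sc i.val v) (sc i.val w) := by decide +kernel

theorem sc_sc : ∀ i : Fin 3, ∀ v : Fin 27, sc 2 (sc i.val v) = sc (2 * i.val % 3) v := by decide +kernel

theorem span2_mem {v w a : Fin 27} : a ∈ span2 v w ↔ ∃ i j : Fin 3, ad (sc i.val v) (sc j.val w) = a := by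
  simp only [span2, List.mem_map, List.mem_finRange, true_and]
  constructor
  · rintro ⟨i, rfl⟩
    exact ⟨⟨i.val % 3, by omega⟩, ⟨i.val / 3, by omega⟩, rfl⟩
  · rintro ⟨i, j, rfl⟩
    exact ⟨⟨i.val + 3 * j.val, by omega⟩, by
      rw [show (i.val + 3 * j.val) % 3 = i.val by omega, show (i.val + 3 * j.val) / 3 = j.val by omega]⟩

theorem span2_facts : (∀ v w, ∀ a ∈ span2 v w, ng a ∈ span2 v w) ∧
    (∀ v w, ∀ a ∈ span2 v w, ∀ b ∈ span2 v w, ad a b ∈ span2 v w) ∧
    ∀ v w, v ∈ span2 v w ∧ w ∈ span2 v w ∧ (0 : Fin 27) ∈ span2 v w := by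
  refine ⟨fun v w a ha => ?_, fun v w a ha b hb => ?_, by decide +kernel⟩
  · obtain ⟨i, j, rfl⟩ := span2_mem.1 ha
    refine span2_mem.2 ⟨⟨2 * i.val % 3, by omega⟩, ⟨2 * j.val % 3, by omega⟩, ?_⟩
    rw [show ng (ad (sc i.val v) (sc j.val w)) = sc (2 : Fin 3).val (ad (sc i.val v) (sc j.val w)) from rfl, sc_ad]
    exact (congrArg₂ ad (sc_sc i v) (sc_sc j w)).symm
  · obtain ⟨i, j, rfl⟩ := span2_mem.1 ha
    obtain ⟨i', j', rfl⟩ := span2_mem.1 hb
    refine span2_mem.2 ⟨⟨(i.val + i'.val) % 3, by omega⟩, ⟨(j.val + j'.val) % 3, by omega⟩, ?_⟩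
    show ad (sc ((i.val + i'.val) % 3) v) (sc ((j.val + j'.val) % 3) w) = _
    rw [← sc_sum, ← sc_sum, ad_assoc, ← ad_assoc (sc i'.val v), ad_comm (sc i'.val v) (sc j.val w),
      ad_assoc (sc j.val w), ← ad_assoc]

theorem span2_card : ∀ v w, v ≠ 0 → w ≠ 0 → w ≠ v → w ≠ ng v → (span2 v w).Nodup := by decide +kernel

theorem fix_line : ∀ m : Fin 48, ∀ v : Fin 27, actM m v = v →
    (∀ w, ad (actM m w) (ng w) ∈ ([0, v, ng v] : List (Fin 27))) → mulM m (mulM m m) = 0 := by decide +kernel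

theorem span2_mem_line : ∀ v : Fin 27, ∀ a ∈ span2 v 0, a = 0 ∨ a = v ∨ a = ng v := by decide +kernel

namespace Frame

variable {G : Type u} [Group G] [Finite G] (F : Frame G)

include F

/-- The subgroup on a span. -/
theorem exists_span (v w : Fin 27) : ∃ P : Subgroup G, P ≤ F.J ∧ (∀ g, g ∈ P ↔ ∃ a ∈ span2 v w, F.e a = g) ∧
    Nat.card P = (span2 v w).toFinset.card := by
  refine ⟨{ carrier := {g | ∃ a ∈ span2 v w, F.e a = g}
            one_mem' := ⟨0, (span2_facts.2.2 v w).2.2, F.e_zero⟩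
            mul_mem' := ?_, inv_mem' := ?_ }, ?_, fun g => Iff.rfl, ?_⟩
  · rintro _ _ ⟨a, ha, rfl⟩ ⟨b, hb, rfl⟩
    exact ⟨_, span2_facts.2.1 v w a ha b hb, F.e_add a b⟩
  · rintro _ ⟨a, ha, rfl⟩
    exact ⟨_, span2_facts.1 v w a ha, F.e_inv a⟩
  · rintro _ ⟨a, -, rfl⟩
    exact F.e_mem a
  · rw [← Nat.card_eq_finsetCard]
    refine Nat.card_congr
      { toFun := fun g => ⟨(Classical.choose g.2), List.mem_toFinset.2 (Classical.choose_spec g.2).1⟩
        invFun := fun a => ⟨F.e a.1, a.1, List.mem_toFinset.1 a.2, rfl⟩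
        left_inv := fun g => Subtype.ext (Classical.choose_spec g.2).2
        right_inv := fun a => Subtype.ext ?_ }
    have hex : ∃ c ∈ span2 v w, F.e c = F.e a.1 := ⟨a.1, List.mem_toFinset.1 a.2, rfl⟩
    exact F.e_inj (Classical.choose_spec hex).2

/-- An element fixing a plane pointwise has trivial cube only if it is trivial. -/
theorem plane_fix {P : Subgroup G} (hP : P ≤ F.J) (h9 : Nat.card P = 9) {g : G} {m : Fin 48} (hm : F.Acts g m)
    (hc : ∀ a ∈ P, g * a * g⁻¹ = a) (h3 : mulM m (mulM m m) = 0) : m = 0 := by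
  by_contra h0
  have h1 := (order_three_cent m h3 h0).1
  choose f hf using fun a : P => (F.memJ a.1).1 (hP a.2)
  have hle : Nat.card P ≤ (Finset.univ.filter fun v : Fin 27 => actM m v = v).card := by
    rw [← Nat.card_eq_finsetCard]
    refine Nat.card_le_card_of_injective (fun a => ⟨f a, Finset.mem_filter.2 ⟨Finset.mem_univ _, F.e_inj ?_⟩⟩)
      fun a b h => Subtype.ext (by rw [← hf a, ← hf b, show f a = f b from congrArg Subtype.val h])
    rw [← hm, hf a, hc _ a.2]
  omega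

theorem plane_cent {P : Subgroup G} (hP : P ≤ F.J) (h9 : Nat.card P = 9) :
    centralizer (P : Set G) ≤ normalizer (F.J : Set G) := by
  have : Fact (Nat.Prime 3) := ⟨Nat.prime_three⟩
  have h : Over (centralizer (P : Set G)) P F.J :=
    { le_C := fun a ha => mem_centralizer_iff.2 fun b hb => F.J_comm (hP hb) ha
      Z_le := hP
      central := fun z hz g hg => mem_centralizer_iff.1 hg z hz
      comm := fun a ha b hb => F.J_comm ha hb }
  haveI := h.normalZ
  have hX : Nat.card (bar (centralizer (P : Set G)) P F.J) = 3 :=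
    Nat.eq_of_mul_eq_mul_right (show 0 < Nat.card P from Nat.card_pos) (by rw [card_bar h, F.card_J, h9])
  intro g hg
  refine (norm_bar h ⟨g, hg⟩).1 (three_normal _ ⊤ _ (IsPGroup.of_card (n := 1) hX) (sigFree_bar h F.pgroup_J F.sig)
    le_top hX (fun q _ hq => ?_) _ (Subgroup.mem_top _))
  obtain ⟨⟨u, hu⟩, rfl⟩ := QuotientGroup.mk_surjective q
  refine (mem_bar h ⟨u, hu⟩).2 ?_
  have hcomm : ∀ a ∈ F.J, ∃ p ∈ P, u * a * u⁻¹ = a * p := by
    intro a ha
    have e : (((⟨a, h.le_C ha⟩ * ⟨u, hu⟩ : centralizer (P : Set G))) :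
        centralizer (P : Set G) ⧸ P.subgroupOf (centralizer (P : Set G))) =
        ((⟨u, hu⟩ * ⟨a, h.le_C ha⟩ : centralizer (P : Set G)) :
          centralizer (P : Set G) ⧸ P.subgroupOf (centralizer (P : Set G))) :=
      mem_centralizer_iff.1 hq _ ((mem_bar h ⟨a, h.le_C ha⟩).2 ha)
    have hp : (a * u)⁻¹ * (u * a) ∈ P := mem_subgroupOf.1 (QuotientGroup.eq.1 e)
    refine ⟨_, hp, ?_⟩
    generalize hc : (a * u)⁻¹ * (u * a) = c at hp
    have e2 := h.central c hp u hu
    rw [show u * a = a * u * c by rw [← hc]; group, mul_assoc a u c, ← e2]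
    group
  obtain ⟨m, -, hm⟩ := F.mono u (by
    refine Subgroup.mem_normalizer_iff_map_conj_eq.2 (Subgroup.eq_of_le_of_card_ge ?_
      (le_of_eq (Subgroup.card_map_of_injective (MulAut.conj u).injective).symm))
    rintro _ ⟨a, ha, rfl⟩
    obtain ⟨p, hp, e⟩ := hcomm a ha
    show u * a * u⁻¹ ∈ F.J
    rw [e]; exact mul_mem ha (hP hp))
  have hfix : ∀ a ∈ P, u * a * u⁻¹ = a := fun a ha => by
    rw [← mem_centralizer_iff.1 hu a ha, mul_inv_cancel_right]
  have h3 : mulM m (mulM m m) = 0 := by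
    refine F.acts_unique (F.acts_mul hm (F.acts_mul hm hm)) fun v => ?_
    obtain ⟨p, hp, e⟩ := hcomm _ (F.e_mem v)
    rw [actM_zero, show u * (u * u) * F.e v * (u * (u * u))⁻¹ = u * (u * (u * F.e v * u⁻¹) * u⁻¹) * u⁻¹ by group, e,
      show u * (u * (F.e v * p) * u⁻¹) * u⁻¹ = u * (u * F.e v * u⁻¹ * (u * p * u⁻¹)) * u⁻¹ by group, e, hfix p hp,
      show u * (F.e v * p * p) * u⁻¹ = u * F.e v * u⁻¹ * (u * p * u⁻¹) * (u * p * u⁻¹) by group, e, hfix p hp,
      mul_assoc (F.e v), mul_assoc (F.e v), mul_assoc p p p, F.J_cube (hP hp), mul_one]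
  exact F.ker (F.plane_fix hP h9 hm hfix h3 ▸ hm)

theorem plane_norm {P : Subgroup G} (hP : P ≤ F.J) (h9 : Nat.card P = 9) :
    normalizer (P : Set G) ≤ normalizer (F.J : Set G) := by
  intro g hg
  have hsub : F.J.map (MulAut.conj g).toMonoidHom ≤ centralizer (P : Set G) := by
    rintro _ ⟨a, ha, rfl⟩
    refine mem_centralizer_iff.2 fun b hb => ?_
    have hb2 : g⁻¹ * b * g ∈ F.J := hP (by
      have := (mem_normalizer_iff.1 (inv_mem hg) b).1 hb
      rwa [inv_inv] at this)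
    show b * (g * a * g⁻¹) = g * a * g⁻¹ * b
    calc b * (g * a * g⁻¹) = g * (g⁻¹ * b * g * a) * g⁻¹ := by group
      _ = g * (a * (g⁻¹ * b * g)) * g⁻¹ := by rw [F.J_comm hb2 ha]
      _ = _ := by group
  refine Subgroup.mem_normalizer_iff_map_conj_eq.2 (Subgroup.eq_of_le_of_card_ge (fun a ha => ?_)
    (le_of_eq (Subgroup.card_map_of_injective (MulAut.conj g).injective).symm))
  obtain ⟨m, -, hm⟩ := F.mono a (F.plane_cent hP h9 (hsub ha))
  have hfix : ∀ b ∈ P, a * b * a⁻¹ = b := fun b hb => by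
    rw [← mem_centralizer_iff.1 (hsub ha) b hb, mul_inv_cancel_right]
  obtain ⟨n, hn⟩ := (F.pgroup_J.map (MulAut.conj g).toMonoidHom) ⟨a, ha⟩
  exact F.ker (F.plane_fix hP h9 hm hfix (F.acts_cube hm (show a ^ 3 ^ n = 1 from congrArg Subtype.val hn)) ▸ hm)

/-- An element with no three-element fixing it has centraliser data in the quotient. -/
theorem point_data {v : Fin 27} (hv : v ≠ 0) (hnf : NoFix F.k v) :
    let C := centralizer ({F.e v} : Set G)
    Over C (zpowers (F.e v)) F.J ∧ Nat.card F.J = 9 * Nat.card (zpowers (F.e v)) ∧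
      (∀ a ∈ F.J, a * (a * a) ∈ zpowers (F.e v)) ∧
      (∀ g ∈ C, g ∈ normalizer (F.J : Set G) → ∀ n : ℕ, g ^ 3 ^ n ∈ zpowers (F.e v) → g ∈ F.J) ∧
      (∀ g ∈ C, (∀ a ∈ F.J, g * a * g⁻¹ * a⁻¹ ∈ zpowers (F.e v)) → g ∈ F.J) ∧
      ∀ a ∈ F.J, a ∉ zpowers (F.e v) → ∀ g ∈ C, g * a * g⁻¹ * a⁻¹ ∈ zpowers (F.e v) →
        g ∈ normalizer (F.J : Set G) := by
  have : Fact (Nat.Prime 3) := ⟨Nat.prime_three⟩
  intro C
  have ho : orderOf (F.e v) = 3 := orderOf_eq_prime (by rw [pow_succ', pow_two, F.J_cube (F.e_mem v)]) (F.e_ne hv)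
  have hle : zpowers (F.e v) ≤ F.J := zpowers_le.2 (F.e_mem v)
  obtain ⟨L, hLJ, hL, -⟩ := F.exists_span v 0
  have hline : ∀ {z}, z ∈ zpowers (F.e v) → ∃ a ∈ ([0, v, ng v] : List (Fin 27)), F.e a = z := by
    intro z hz
    have hzL : zpowers (F.e v) ≤ L := zpowers_le.2 ((hL _).2 ⟨v, (span2_facts.2.2 v 0).1, rfl⟩)
    obtain ⟨a, ha, hae⟩ := (hL z).1 (hzL hz)
    exact ⟨a, by simpa using span2_mem_line v a ha, hae⟩
  have hfixv : ∀ {g} {m}, g ∈ C → F.Acts g m → actM m v = v := fun {g m} hg hm => F.e_inj (by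
    rw [← hm, mem_centralizer_singleton_iff.1 hg, mul_inv_cancel_right])
  have hkill : ∀ {g} {m}, g ∈ C → F.Acts g m → mulM m (mulM m m) = 0 → g ∈ F.J := fun {g m} hg hm h3 =>
    F.ker (hnf m (F.acts_inX hm) h3 (hfixv hg hm) ▸ hm)
  refine ⟨{ le_C := fun a ha => mem_centralizer_singleton_iff.2 (F.J_comm ha (F.e_mem v))
            Z_le := hle
            central := fun z hz g hg => by
              obtain ⟨i, rfl⟩ := hz
              exact ((show Commute g (F.e v) from mem_centralizer_singleton_iff.1 hg).zpow_right i).eq.symm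
            comm := fun a ha b hb => F.J_comm ha hb }, by rw [F.card_J, Nat.card_zpowers, ho],
    fun a ha => by rw [F.J_cube ha]; exact one_mem _, ?_, ?_, ?_⟩
  · intro g hg hgN n hn
    obtain ⟨m, -, hm⟩ := F.mono g hgN
    refine hkill hg hm (F.acts_cube (n := n + 1) hm ?_)
    rw [pow_succ, pow_mul, pow_succ', pow_two]
    exact F.J_cube (hle hn)
  · intro g hg h
    have hgN : g ∈ normalizer (F.J : Set G) := by
      refine Subgroup.mem_normalizer_iff_map_conj_eq.2 (Subgroup.eq_of_le_of_card_ge ?_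
        (le_of_eq (Subgroup.card_map_of_injective (MulAut.conj g).injective).symm))
      rintro _ ⟨a, ha, rfl⟩
      simpa using mul_mem (hle (h a ha)) ha
    obtain ⟨m, -, hm⟩ := F.mono g hgN
    refine hkill hg hm (fix_line m v (hfixv hg hm) fun w => ?_)
    obtain ⟨a, ha, hae⟩ := hline (h _ (F.e_mem w))
    rw [hm, ← F.e_inv, ← F.e_add] at hae
    exact F.e_inj hae ▸ ha
  · intro a ha haZ g hg hga
    obtain ⟨w, rfl⟩ := (F.memJ a).1 ha
    obtain ⟨P, hPJ, hP, hPc⟩ := F.exists_span v w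
    have hw : ∀ u, F.e w = u → u ∉ zpowers (F.e v) := fun u hu => hu ▸ haZ
    have h9 : Nat.card P = 9 := by
      rw [hPc, List.toFinset_card_of_nodup (span2_card v w hv ?_ ?_ ?_)]
      · simp [span2]
      · rintro rfl; exact haZ (F.e_zero ▸ one_mem _)
      · rintro rfl; exact haZ (mem_zpowers _)
      · rintro rfl; exact haZ (F.e_inv v ▸ inv_mem (mem_zpowers _))
    refine F.plane_norm hPJ h9 (Subgroup.mem_normalizer_iff_map_conj_eq.2 (Subgroup.eq_of_le_of_card_ge ?_
      (le_of_eq (Subgroup.card_map_of_injective (MulAut.conj g).injective).symm)))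
    have hv' : F.e v ∈ P := (hP _).2 ⟨v, (span2_facts.2.2 v w).1, rfl⟩
    have hw' : F.e w ∈ P := (hP _).2 ⟨w, (span2_facts.2.2 v w).2.1, rfl⟩
    have hvg : g * F.e v * g⁻¹ = F.e v := by rw [mem_centralizer_singleton_iff.1 hg, mul_inv_cancel_right]
    have hwg : g * F.e w * g⁻¹ ∈ P := by
      have := mul_mem (zpowers_le.2 hv' hga) hw'
      rwa [inv_mul_cancel_right] at this
    rintro _ ⟨b, hb, rfl⟩
    obtain ⟨c, hc, rfl⟩ := (hP b).1 hb
    obtain ⟨i, -, rfl⟩ := List.mem_map.1 hc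
    rw [F.e_add, map_mul]
    have hpow : ∀ n u, ∀ _ : g * F.e u * g⁻¹ ∈ P, n < 3 → (MulAut.conj g).toMonoidHom (F.e (sc n u)) ∈ P := by
      intro n u hu hn
      interval_cases n
      · rw [(ad_zero u).2.2.2.2.2.1, F.e_zero, map_one]; exact one_mem _
      · rw [(ad_zero u).2.2.2.2.1]; exact hu
      · rw [← (ad_zero u).2.2.2.2.2.2, F.e_add, map_mul]; exact mul_mem hu hu
    exact mul_mem (hpow _ v (hvg.symm ▸ hv') (Nat.mod_lt _ (by norm_num)))
      (hpow _ w hwg (by omega))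

/-- Such an element with automizer of exponent two has its centraliser in the normaliser. -/
theorem point_cent {v : Fin 27} (hv : v ≠ 0) (hnf : NoFix F.k v) (hx : ExpTwo F.k v) :
    centralizer ({F.e v} : Set G) ≤ normalizer (F.J : Set G) := by
  obtain ⟨h, h1, h2, h3, h4, h5⟩ := F.point_data hv hnf
  haveI := h.normalZ
  refine le_normalizer_of_sq h h1 h2 h3 h4 h5 fun g hg hgN => ?_
  obtain ⟨m, hm', hm⟩ := F.mono g hgN
  refine F.ker ?_
  rw [← hx m hm' (F.e_inj (by rw [← hm, mem_centralizer_singleton_iff.1 hg, mul_inv_cancel_right]))]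
  exact F.acts_mul hm hm

end Frame

end Cfsg.Lib.SymNineLocal
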