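import Cfsg.Agent.LocalThree.SymNineLocal.Model

/-!
A group of linear maps in which the stabiliser of the diagonal consists of the six permutations is
monomial for a sheared basis.
-/

set_option autoImplicit false
set_option maxRecDepth 8000
set_option synthInstance.maxSize 4000

namespace Cfsg.Lib.SymNineLocal

theorem perm_units : ∀ q : Fin 6, (actP q 1, actP q 3, actP q 9) ∈
    ([(1, 3, 9), (1, 9, 3), (3, 1, 9), (9, 1, 3), (3, 9, 1), (9, 3, 1)] : List (Fin 27 × Fin 27 × Fin 27)) := by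
  decide +kernel

theorem unit_order : ∀ a b c : Fin 27, (a, b, c) ∈
    ([(1, 3, 9), (1, 9, 3), (3, 1, 9), (9, 1, 3), (3, 9, 1), (9, 3, 1)] : List (Fin 27 × Fin 27 × Fin 27)) →
      ∃ q : Fin 6, actP q 1 = a ∧ actP q 3 = b ∧ actP q 9 = c := by
  have key : ∀ t ∈ ([(1, 3, 9), (1, 9, 3), (3, 1, 9), (9, 1, 3), (3, 9, 1), (9, 3, 1)] : List (Fin 27 × Fin 27 × Fin 27)),
      ∃ q : Fin 6, actP q 1 = t.1 ∧ actP q 3 = t.2.1 ∧ actP q 9 = t.2.2 := by decide +kernel
  exact fun a b c h => key _ h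

theorem ad_comm : ∀ v w, ad v w = ad w v := by decide +kernel

theorem actP_zero : ∀ v, actP 0 v = v := by decide +kernel

theorem units_eq : un 0 = 1 ∧ un 1 = 3 ∧ un 2 = 9 := by decide +kernel

theorem sh_zero : ∀ b, sh b 0 = 0 ∧ hs b 0 = 0 := by decide +kernel

/-- Additivity. -/
def Lin (f : Fin 27 → Fin 27) : Prop := ∀ v w, f (ad v w) = ad (f v) (f w)

theorem Lin.zero {f : Fin 27 → Fin 27} (h : Lin f) : f 0 = 0 := by
  have e := h 0 0
  rw [(ad_zero 0).1] at e
  have key : ∀ x : Fin 27, x = ad x x → x = 0 := by decide +kernel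
  exact key _ e

theorem Lin.scal {f : Fin 27 → Fin 27} (h : Lin f) (v : Fin 27) (i : ℕ) (w : Fin 27) :
    f (sc (dg v i) w) = sc (dg v i) (f w) := by
  have : dg v i < 3 := Nat.mod_lt _ (by norm_num)
  generalize dg v i = a at this
  interval_cases a
  · rw [(ad_zero w).2.2.2.2.2.1, (ad_zero (f w)).2.2.2.2.2.1, h.zero]
  · rw [(ad_zero w).2.2.2.2.1, (ad_zero (f w)).2.2.2.2.1]
  · rw [← (ad_zero w).2.2.2.2.2.2, ← (ad_zero (f w)).2.2.2.2.2.2, h]

theorem Lin.eq_appL {f : Fin 27 → Fin 27} (h : Lin f) (v : Fin 27) : f v = appL (f 1) (f 3) (f 9) v := by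
  conv_lhs => rw [split_units v]
  rw [h, h, h.scal, h.scal, h.scal]
  rfl

theorem Lin.comp {f g : Fin 27 → Fin 27} (hf : Lin f) (hg : Lin g) : Lin fun v => f (g v) := fun v w => by
  simp only [hg v w, hf _ _]

theorem lin_actM (m : Fin 48) : Lin (actM m) := actM_add m

theorem lin_actP (p : Fin 6) : Lin (actP p) := actP_facts.1 p

theorem lin_hs (b : Fin 3) : Lin (hs b) := fun v w => sh_add _ v w

theorem lin_sh (b : Fin 3) : Lin (sh b) := sh_add b

theorem Good.congr {f g : Fin 27 → Fin 27} (h : ∀ v, f v = g v) : Good f → Good g :=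
  fun ⟨b, hb⟩ => ⟨b, fun i => by rw [← h]; exact hb i⟩

theorem WordOK.congr {f g : Fin 27 → Fin 27} (h : ∀ v, f v = g v) {k : ℕ} : WordOK f k → WordOK g k := by
  rw [show f = g from funext h]
  exact id

variable (X : (Fin 27 → Fin 27) → Prop) (hlin : ∀ f, X f → Lin f) (hinj : ∀ f, X f → Function.Injective f)
  (hperm : ∀ p, X (actP p)) (hmul : ∀ f g, X f → X g → X fun v => f (g v))
  (hfix : ∀ f, X f → f 13 = 13 → ∀ i, f (un i) ∈ ([1, 3, 9] : List (Fin 27)))

include hlin hinj hperm hmul hfix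

theorem good_of_mem {f : Fin 27 → Fin 27} (hf : X f) : Good f := by
  have h13 : f 13 ≠ 0 := fun e => absurd (hinj f hf (e.trans (hlin f hf).zero.symm)) (by decide)
  obtain ⟨p, hp⟩ := rep_orbit _ h13
  obtain ⟨n, hn, hr⟩ := reps_idx _ hp
  obtain ⟨g, hg⟩ : ∃ g : Fin 27 → Fin 27, g = fun v => actP p (f v) := ⟨_, rfl⟩
  have hgX : X g := hg ▸ hmul _ _ (hperm p) hf
  have hd : ∀ a b : Fin 27, a ≠ b → (g a).val ≠ (g b).val := fun a b hab e => hab (hinj g hgX (Fin.ext e))
  obtain ⟨q, hq1, hq2⟩ : ∃ q : Fin 6, (g (actP q 1)).val < (g (actP q 3)).val ∧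
      (g (actP q 3)).val < (g (actP q 9)).val := by
    have h13' := hd 1 3 (by decide)
    have h19 := hd 1 9 (by decide)
    have h39 := hd 3 9 (by decide)
    obtain ⟨a, b, c, hm, h1, h2⟩ : ∃ a b c : Fin 27, (a, b, c) ∈
        ([(1, 3, 9), (1, 9, 3), (3, 1, 9), (9, 1, 3), (3, 9, 1), (9, 3, 1)] : List (Fin 27 × Fin 27 × Fin 27)) ∧
          (g a).val < (g b).val ∧ (g b).val < (g c).val := by
      rcases lt_or_gt_of_ne h13' with x | x <;> rcases lt_or_gt_of_ne h19 with y | y <;>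
        rcases lt_or_gt_of_ne h39 with z | z
      all_goals first
        | exact ⟨1, 3, 9, by decide, by omega, by omega⟩
        | exact ⟨1, 9, 3, by decide, by omega, by omega⟩
        | exact ⟨3, 1, 9, by decide, by omega, by omega⟩
        | exact ⟨3, 9, 1, by decide, by omega, by omega⟩
        | exact ⟨9, 1, 3, by decide, by omega, by omega⟩
        | exact ⟨9, 3, 1, by decide, by omega, by omega⟩
        | omega
    obtain ⟨q, ha, hb, hc⟩ := unit_order a b c hm
    exact ⟨q, by rw [ha, hb]; exact h1, by rw [hb, hc]; exact h2⟩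
  obtain ⟨h, hh⟩ : ∃ h : Fin 27 → Fin 27, h = fun v => g (actP q v) := ⟨_, rfl⟩
  have hhX : X h := hh ▸ hmul _ _ hgX (hperm q)
  have happ := (hlin h hhX).eq_appL
  have hh13 : h 13 = reps.getD n 0 := by
    rw [hr, hh]
    show g (actP q 13) = _
    rw [actP_facts.2.1, hg]
  have hthird : h 9 = third (reps.getD n 0) (h 1) (h 3) := by
    rw [← hh13, ← (units_sum 0).2, hlin h hhX, hlin h hhX, third, ad_comm (ad (h 1) (h 3)) (h 9), ad_assoc,
      (ad_zero _).2.2.1, (ad_zero _).1]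
  have hres : Good h ∨ WordOK h (code n (h 1) (h 3)) := by
    rcases checkAll n hn (h 1) (h 3) (by rw [hh]; exact hq1) (by rw [← hthird, hh]; exact hq2)
      (fun v hv e => hv (hinj h hhX (by rw [happ, hthird, e, (hlin h hhX).zero]))) with r | r
    · exact Or.inl (r.congr fun v => by rw [happ v, hthird])
    · exact Or.inr (r.congr fun v => by rw [happ v, hthird])
  rcases hres with ⟨b, hb⟩ | ⟨h1, i, h2⟩
  · refine ⟨b, fun j => ?_⟩
    obtain ⟨q', hq'⟩ := actP_facts.2.2.2.2.2.1 q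
    obtain ⟨i, hi⟩ := actP_facts.2.2.2.2.1 q' j
    have e := hb i
    rw [hh, hg] at e
    have e2 : wOne (hs b (actP p (f (actP q (sh b (un i)))))) := e
    rw [actP_facts.2.2.1 q b (un i), ← hi, (hq' (un j)).2, ← actP_facts.2.2.2.1 p] at e2
    exact actP_facts.2.2.2.2.2.2 p _ e2
  · exfalso
    have hw : ∀ l, X (evalW h l) := by
      intro l
      induction l with
      | nil =>
        have e : evalW h [] = actP 0 := funext fun v => (actP_zero v).symm
        rw [e]; exact hperm 0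
      | cons a l ih => exact hmul (actP a) (fun v => h (evalW h l v)) (hperm a) (hmul h (evalW h l) hhX ih)
    exact h2 (hfix _ (hw _) h1 i)

theorem sheared_of_goodAt {f : Fin 27 → Fin 27} (hf : X f) {b : Fin 3} (hb : GoodAt f b) :
    ∃ m, ∀ v, f v = sheared b m v := by
  obtain ⟨g, hg⟩ : ∃ g : Fin 27 → Fin 27, g = fun v => hs b (f (sh b v)) := ⟨_, rfl⟩
  have hgl : Lin g := hg ▸ (lin_hs b).comp ((hlin f hf).comp (lin_sh b))
  have hgi : ∀ v, g v = 0 → v = 0 := by
    intro v hv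
    rw [hg] at hv
    have e : f (sh b v) = 0 := by
      have := congrArg (sh b) (show hs b (f (sh b v)) = 0 from hv)
      rwa [(sh_inv b _).1, (sh_zero b).1] at this
    have := hinj f hf (e.trans (hlin f hf).zero.symm)
    rw [← (sh_inv b v).2, this, (sh_zero b).2]
  have hu : ∀ i, wOne (g (un i)) := fun i => hg ▸ hb i
  obtain ⟨m, h1, h3, h9⟩ := monomial_of (g 1) (g 3) (g 9) (units_eq.1 ▸ hu 0) (units_eq.2.1 ▸ hu 1)
    (units_eq.2.2 ▸ hu 2) (fun v hv e => hv (hgi v (by rw [hgl.eq_appL, e])))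
  refine ⟨m, fun v => ?_⟩
  have e : g (hs b v) = actM m (hs b v) := by
    rw [hgl.eq_appL, (lin_actM m).eq_appL, h1, h3, h9]
  rw [sheared, ← e, hg]
  show f v = sh b (hs b (f (sh b (hs b v))))
  rw [(sh_inv b _).1, (sh_inv b v).1]

/-- All members are monomial for one sheared basis. -/
theorem classify : ∃ b, ∀ f, X f → ∃ m, ∀ v, f v = sheared b m v := by
  by_cases hall : ∀ f, X f → ∀ b, GoodAt f b
  · exact ⟨0, fun f hf => sheared_of_goodAt X hlin hinj hperm hmul hfix hf (hall f hf 0)⟩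
  push_neg at hall
  obtain ⟨f₀, hf₀, d, hd⟩ := hall
  obtain ⟨b, hb⟩ := good_of_mem X hlin hinj hperm hmul hfix hf₀
  obtain ⟨m, hm⟩ := sheared_of_goodAt X hlin hinj hperm hmul hfix hf₀ hb
  have hf₀' : f₀ = sheared b m := funext hm
  refine ⟨b, fun f hf => ?_⟩
  obtain ⟨b', hb'⟩ := good_of_mem X hlin hinj hperm hmul hfix hf
  obtain ⟨m', hm'⟩ := sheared_of_goodAt X hlin hinj hperm hmul hfix hf hb'
  have hf' : f = sheared b' m' := funext hm'
  refine sheared_of_goodAt X hlin hinj hperm hmul hfix hf ?_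
  rcases good_common b b' m m' with ⟨c, hc, hc'⟩ | hn
  · by_cases hcb : c = b
    · rw [← hcb, hf']; exact hc'
    · exact absurd (hf₀' ▸ good_single b m c hc hcb d) hd
  · exfalso
    refine hn ?_
    rw [← hf₀', ← hf']
    exact good_of_mem X hlin hinj hperm hmul hfix (hmul _ _ hf₀ hf)

end Cfsg.Lib.SymNineLocal
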