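import Cfsg.Agent.LocalThree.SymNineLocal.Transp
import Cfsg.Agent.LocalThree.SwapCount

/-!
Counting the conjugates of a transposition that move a coset of the normaliser.
-/

set_option autoImplicit false
set_option linter.unusedSectionVars false
set_option maxRecDepth 8000
set_option synthInstance.maxSize 4000

namespace Cfsg.Lib.SymNineLocal

open Subgroup
open scoped Pointwise

universe u

theorem count_arith : ∀ k : Fin 4,
    2 * (27 * (Finset.univ.filter fun m : Fin 48 => inX k m).card) = 324 * [1, 2, 4, 8].getD k.val 0 ∧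
    centC k 2 = [2, 4, 4, 8].getD k.val 0 ∧
    (Finset.univ.filter fun m : Fin 48 => inX k m).card = 6 * [1, 2, 4, 8].getD k.val 0 := by decide +kernel

theorem cube_elements : (Finset.univ.filter fun m : Fin 48 => mulM m (mulM m m) = 0 ∧ m ≠ 0).card = 8 ∧
    (∀ a : Fin 48, mulM a (mulM a a) = 0 → a ≠ 0 →
      (Finset.univ.filter fun b : Fin 48 => mulM a b = mulM b a).card ≤ 6) ∧
    (∀ a : Fin 27, a ≠ 0 →
      (Finset.univ.filter fun m : Fin 48 => actM m a = a ∨ actM m a = ng a).card ≤ 16) ∧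
    (∀ a b : Fin 27, a ≠ 0 → b ≠ 0 → b ≠ a → b ≠ ng a → ¬ NoFix 3 a → ¬ NoFix 3 b →
      ¬ NoFix 3 (ad a b) → ¬ NoFix 3 (ad a (ng b)) → False) ∧
    (∀ a : Fin 27, ∀ m : Fin 48, actM m a = 0 → a = 0) := by decide +kernel

/-- A set of signed permutations with at least eighteen members and closed under products contains all
elements of order three. -/
theorem cube_mem (Y : Finset (Fin 48)) (h1 : (0 : Fin 48) ∈ Y) (hmul : ∀ a ∈ Y, ∀ b ∈ Y, mulM a b ∈ Y)
    (h18 : 18 ≤ Y.card) (a : Fin 48) (ha : mulM a (mulM a a) = 0) : a ∈ Y := by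
  by_contra hn
  have hinj : ∀ c, Function.Injective (mulM c) := fun c x y h => by
    have e := congrArg actE h
    rw [actE_mul, actE_mul] at e
    exact actE_inj (mul_left_cancel e)
  have hassoc : ∀ x y z, mulM x (mulM y z) = mulM (mulM x y) z := fun x y z =>
    actE_inj (by simp only [actE_mul, mul_assoc])
  have hsq : mulM a a ∉ Y := fun h => hn (by
    have e := hmul _ h _ h
    rwa [← hassoc, ha, (m_facts.1 a).2] at e)
  have hinv : ∀ x ∈ Y, ∃ y ∈ Y, mulM y x = 0 := by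
    intro x hx
    have himg : Y.image (fun y => mulM y x) = Y := by
      refine Finset.eq_of_subset_of_card_le (fun z hz => ?_) ?_
      · obtain ⟨y, hy, rfl⟩ := Finset.mem_image.1 hz
        exact hmul y hy x hx
      · rw [Finset.card_image_of_injective _ fun u w h => actE_inj (by
          have e := congrArg actE h
          rw [actE_mul, actE_mul] at e
          exact mul_right_cancel e)]
    rw [← himg] at h1
    obtain ⟨y, hy, e⟩ := Finset.mem_image.1 h1
    exact ⟨y, hy, e⟩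
  have d : ∀ c, c ∉ Y → ∀ x ∈ Y, mulM c x ∉ Y := by
    intro c hc x hx h
    obtain ⟨y, hy, e⟩ := hinv x hx
    have hxy : mulM x y = 0 := (show ∀ x y : Fin 48, mulM y x = 0 → mulM x y = 0 by decide +kernel) x y e
    refine hc ?_
    have := hmul _ h _ hy
    rwa [← hassoc, hxy, (m_facts.1 c).2] at this
  have hd : Disjoint (Y ∪ Y.image (mulM a)) (Y.image (mulM (mulM a a))) := by
    rw [Finset.disjoint_left]
    intro z hz hz'
    obtain ⟨y', hy', rfl⟩ := Finset.mem_image.1 hz'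
    rcases Finset.mem_union.1 hz with h | h
    · exact d _ hsq _ hy' h
    · obtain ⟨y, hy, e⟩ := Finset.mem_image.1 h
      rw [← hassoc] at e
      exact d a hn y' hy' (hinj a e ▸ hy)
  have hd2 : Disjoint Y (Y.image (mulM a)) := by
    rw [Finset.disjoint_left]
    intro z hz hz'
    obtain ⟨y, hy, rfl⟩ := Finset.mem_image.1 hz'
    exact d a hn y hy hz
  have h2 := Finset.card_le_univ (Y ∪ Y.image (mulM a) ∪ Y.image (mulM (mulM a a)))
  rw [Finset.card_union_of_disjoint hd, Finset.card_union_of_disjoint hd2, Finset.card_image_of_injective _ (hinj _),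
    Finset.card_image_of_injective _ (hinj _), Fintype.card_fin] at h2
  omega

namespace Frame

variable {G : Type u} [Group G] [Finite G] (F : Frame G)

include F

theorem exists_subgroup_acts (D : Subgroup G) (hD : D ≤ normalizer (F.J : Set G)) :
    ∃ Y : Finset (Fin 48), (∀ m, m ∈ Y ↔ ∃ d ∈ D, F.Acts d m) ∧ (0 : Fin 48) ∈ Y ∧
      ∀ a ∈ Y, ∀ b ∈ Y, mulM a b ∈ Y := by
  classical
  refine ⟨Finset.univ.filter fun m => ∃ d ∈ D, F.Acts d m, fun m => by simp, ?_, ?_⟩
  · simpa using ⟨1, one_mem _, F.acts_one⟩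
  · intro a ha b hb
    obtain ⟨d, hd, hda⟩ := (Finset.mem_filter.1 ha).2
    obtain ⟨d', hd', hdb⟩ := (Finset.mem_filter.1 hb).2
    exact Finset.mem_filter.2 ⟨Finset.mem_univ _, d * d', mul_mem hd hd', F.acts_mul hda hdb⟩

theorem card_normalizer : Nat.card (normalizer (F.J : Set G)) = 27 * (6 * [1, 2, 4, 8].getD F.k.val 0) := by
  rw [← (count_arith F.k).2.2, F.card_split le_rfl, inf_eq_right.2 Subgroup.le_normalizer, F.card_J,
    ← Set.ncard_coe_finset]
  congr 2
  ext m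
  simp only [Set.mem_setOf_eq, Finset.coe_filter, Finset.mem_univ, true_and]
  refine ⟨fun ⟨g, _, hg⟩ => F.acts_inX hg, fun hm => ?_⟩
  obtain ⟨g, hg, hga⟩ := F.lift m hm
  exact ⟨g, hg, hga⟩

theorem class_card {t : G} (ht : t * t = 1) (hta : F.Acts t 2) :
    27 * (6 * [1, 2, 4, 8].getD F.k.val 0) ≤
      {u : G | IsConj t u ∧ u ∈ normalizer (F.J : Set G)}.ncard * (9 * centC F.k 2) := by
  classical
  rw [← F.card_normalizer, ← swap_facts.2.2.1, ← F.card_cent_inf ht hta, ← Nat.card_coe_set_eq, ← Nat.card_prod]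
  let U : Set G := {u : G | IsConj t u ∧ u ∈ normalizer (F.J : Set G)}
  let f : normalizer (F.J : Set G) → U := fun g => ⟨(g : G) * t * (g : G)⁻¹, isConj_iff.2 ⟨g, rfl⟩,
    mul_mem (mul_mem g.2 (F.acts_mem hta)) (inv_mem g.2)⟩
  choose r hr using fun u : U => (show ∃ g : normalizer (F.J : Set G), (∃ h, f h = u) → f g = u from by
    by_cases h : ∃ h, f h = u
    · obtain ⟨g, hg⟩ := h; exact ⟨g, fun _ => hg⟩
    · exact ⟨1, fun h' => absurd h' h⟩)
  refine Nat.card_le_card_of_injective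
    (fun g => (f g, (⟨((r (f g) : G))⁻¹ * g, mem_centralizer_singleton_iff.2 ?_,
      Subgroup.mul_mem _ (Subgroup.inv_mem _ (r (f g)).2) g.2⟩ : (centralizer ({t} : Set G) ⊓ normalizer (F.J : Set G) : Subgroup G))))
    fun g g' h => ?_
  · have e : (r (f g) : G) * t * (r (f g) : G)⁻¹ = (g : G) * t * (g : G)⁻¹ := congrArg Subtype.val (hr (f g) ⟨g, rfl⟩)
    calc ((r (f g) : G))⁻¹ * g * t = (r (f g) : G)⁻¹ * ((g : G) * t * (g : G)⁻¹) * g := by group
      _ = _ := by rw [← e]; group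
  · obtain ⟨h1, h2⟩ := Prod.ext_iff.1 h
    have h3 := congrArg Subtype.val h2
    simp only at h3 h1
    rw [h1] at h3
    exact Subtype.ext (mul_left_cancel h3)

/-- A conjugate of an element of the group lying in the normaliser is in the group, if no three-element of
the automizer fixes it. -/
theorem conj_mem_J (hloc : F.Loc3) {v : Fin 27} (hv : v ≠ 0) (hnf : NoFix F.k v) {g : G}
    (hg : g * F.e v * g⁻¹ ∈ normalizer (F.J : Set G)) (hx : Commute (g * F.e v * g⁻¹) (F.e 13)) :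
    g * F.e v * g⁻¹ ∈ F.J := by
  have hkill : ∀ {a}, Commute a (F.e v) → a ^ 3 = 1 → a ∈ F.J := fun {a} ha h3 => by
    obtain ⟨m, -, hm⟩ := F.mono a (hloc v hv (mem_centralizer_singleton_iff.2 ha.eq))
    exact F.ker (hnf m (F.acts_inX hm) (F.acts_cube (n := 1) hm (by rw [pow_one, h3]))
      (F.e_inj (by rw [← hm, ha.eq, mul_inv_cancel_right])) ▸ hm)
  have h13 : g⁻¹ * F.e 13 * g ∈ F.J := hkill (by
    show g⁻¹ * F.e 13 * g * F.e v = F.e v * (g⁻¹ * F.e 13 * g)
    calc g⁻¹ * F.e 13 * g * F.e v = g⁻¹ * (F.e 13 * (g * F.e v * g⁻¹)) * g := by group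
      _ = g⁻¹ * (g * F.e v * g⁻¹ * F.e 13) * g := by rw [hx.eq]
      _ = _ := by group) (by
    rw [pow_succ', pow_two, show g⁻¹ * F.e 13 * g * (g⁻¹ * F.e 13 * g * (g⁻¹ * F.e 13 * g)) =
      g⁻¹ * (F.e 13 * (F.e 13 * F.e 13)) * g by group, F.J_cube (F.e_mem 13), mul_one, inv_mul_cancel])
  have hsub : ∀ a ∈ F.J, g * a * g⁻¹ ∈ normalizer (F.J : Set G) := fun a ha =>
    F.cent_diag (mem_centralizer_singleton_iff.2 (by
      calc g * a * g⁻¹ * F.e 13 = g * (a * (g⁻¹ * F.e 13 * g)) * g⁻¹ := by group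
        _ = g * (g⁻¹ * F.e 13 * g * a) * g⁻¹ := by rw [F.J_comm ha h13]
        _ = _ := by group))
  have hA : F.J.map (MulAut.conj g).toMonoidHom = F.J := F.eq_J
    (by rintro _ ⟨a, ha, rfl⟩; exact hsub a ha) (F.pgroup_J.map _)
    (by rw [Subgroup.card_map_of_injective (MulAut.conj g).injective, F.card_J])
    (by rintro _ ⟨a, ha, rfl⟩ _ ⟨b, hb, rfl⟩; rw [← map_mul, ← map_mul, F.J_comm ha hb])
  rw [← hA]
  exact ⟨_, F.e_mem v, rfl⟩

/-- An element of the group sent into it lies in the normaliser, or is trivial. -/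
theorem mem_of_conj_J (hloc : F.Loc3) {g a : G} (ha : a ∈ F.J) (ha1 : a ≠ 1) (h : g * a * g⁻¹ ∈ F.J) :
    g ∈ normalizer (F.J : Set G) := by
  obtain ⟨k, hk, e⟩ := F.fusion ha h
  obtain ⟨v, rfl⟩ := (F.memJ a).1 ha
  have hv : v ≠ 0 := fun e => ha1 (e ▸ F.e_zero)
  have hm : k⁻¹ * g ∈ centralizer ({F.e v} : Set G) := mem_centralizer_singleton_iff.2 (by
    calc k⁻¹ * g * F.e v = k⁻¹ * (g * F.e v * g⁻¹) * g := by group
      _ = _ := by rw [← e]; group)
  have := mul_mem hk (hloc v hv hm)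
  rwa [mul_inv_cancel_left] at this

/-- Without fusion of the inverting element to the transposition the normaliser is the group. -/
theorem top_of_class (hloc : F.Loc3) {t : G} (ht : t * t = 1) (hta : F.Acts t 2)
    (hcl : ∀ g m, F.Acts (g * t * g⁻¹) m → ConjX F.k 2 m) : normalizer (F.J : Set G) = ⊤ := by
  classical
  by_contra hne
  have huniq : ∀ g : G, g⁻¹ * t * g ∈ normalizer (F.J : Set G) → g ∈ normalizer (F.J : Set G) := by
    intro g hg
    obtain ⟨m, -, hm⟩ := F.mono _ hg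
    obtain ⟨h, hh, e⟩ := F.conj_transp ht hta (by
      rw [show g⁻¹ * t * g * (g⁻¹ * t * g) = g⁻¹ * (t * t) * g by group, ht, mul_one, inv_mul_cancel]) hm
      (hcl g⁻¹ m (by rwa [inv_inv]))
    have hc : g * h ∈ centralizer ({t} : Set G) := mem_centralizer_singleton_iff.2 (by
      calc g * h * t = g * (h * t * h⁻¹) * h := by group
        _ = _ := by rw [e]; group)
    simpa using mul_mem (F.cent_transp hloc ht hta hc) (inv_mem hh)
  obtain ⟨x, hx, hxN, hle⟩ :=
    Cfsg.Lib.SwapCount.exists_inverted (normalizer (F.J : Set G)) ht (F.acts_mem hta) huniq hne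
  obtain ⟨c, hc⟩ := isConj_iff.1 hx
  have hxx : x * x = 1 := by
    rw [← hc, show c * t * c⁻¹ * (c * t * c⁻¹) = c * (t * t) * c⁻¹ by group, ht, mul_one, mul_inv_cancel]
  have hxi : x⁻¹ = x := inv_eq_of_mul_eq_one_right hxx
  -- the stabiliser of the second coset
  let D : Subgroup G := normalizer (F.J : Set G) ⊓ (normalizer (F.J : Set G)).map (MulAut.conj x).toMonoidHom
  have hmemD : ∀ d, d ∈ D ↔ d ∈ normalizer (F.J : Set G) ∧ x * d * x ∈ normalizer (F.J : Set G) := by
    intro d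
    refine ⟨?_, fun ⟨h1, h2⟩ => ⟨h1, ⟨_, h2, ?_⟩⟩⟩
    · rintro ⟨h1, ⟨a, ha, rfl⟩⟩
      refine ⟨h1, ?_⟩
      show x * (x * a * x⁻¹) * x ∈ normalizer (F.J : Set G)
      rwa [show x * (x * a * x⁻¹) * x = x * x * a by group, hxx, one_mul]
    · show x * (x * d * x) * x⁻¹ = d
      rw [show x * (x * d * x) * x⁻¹ = x * x * d by group, hxx, one_mul]
  obtain ⟨Y, hY, hY0, hYmul⟩ := F.exists_subgroup_acts D inf_le_left
  have hY2 : (2 : Fin 48) ∉ Y := by
    intro h2
    obtain ⟨d, hd, hda⟩ := (hY 2).1 h2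
    have hdd : d * d ∈ F.J := F.ker (swap_facts.2.1 ▸ F.acts_mul hda hda)
    have hu : F.Acts (d * (d * d)) 2 := by
      have := F.acts_mul hda (F.acts_J hdd)
      rwa [(m_facts.1 2).2] at this
    have hu2 : d * (d * d) * (d * (d * d)) = 1 := by
      calc d * (d * d) * (d * (d * d)) = d * d * (d * d * (d * d)) := by group
        _ = 1 := F.J_cube hdd
    obtain ⟨j, hj, e⟩ := F.conj_of_acts ht hu2 hta hu
    refine hxN ?_
    have h1 := huniq (j⁻¹ * x) (by
      rw [show (j⁻¹ * x)⁻¹ * t * (j⁻¹ * x) = x⁻¹ * (j * t * j⁻¹) * x by group, e, hxi]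
      exact ((hmemD _).1 (mul_mem hd (mul_mem hd hd))).2)
    simpa using mul_mem (Subgroup.le_normalizer hj) h1
  have hhalf : 2 * Y.card ≤ 6 * [1, 2, 4, 8].getD F.k.val 0 := by
    rw [← (count_arith F.k).2.2, two_mul]
    have hinj : Function.Injective (mulM 2) := fun a b h => by
      have e := congrArg actE h
      rw [actE_mul, actE_mul] at e
      exact actE_inj (mul_left_cancel e)
    have hd : Disjoint Y (Y.image (mulM 2)) := by
      rw [Finset.disjoint_left]
      intro z hz hz'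
      obtain ⟨y, hy, rfl⟩ := Finset.mem_image.1 hz'
      obtain ⟨d, hd, hda⟩ := (hY y).1 hy
      obtain ⟨y', hy'⟩ : ∃ y', mulM y' y = 0 :=
        (show ∀ y : Fin 48, ∃ y', mulM y' y = 0 by decide +kernel) y
      have hy'Y : y' ∈ Y := (hY y').2 ⟨d⁻¹, inv_mem hd, F.acts_inv hda hy'⟩
      refine hY2 ?_
      have := hYmul _ hz _ hy'Y
      rwa [(show ∀ y y' : Fin 48, mulM y' y = 0 → mulM (mulM 2 y) y' = 2 by decide +kernel) y y' hy'] at this
    conv_lhs => arg 2; rw [← Finset.card_image_of_injective Y hinj]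
    rw [← Finset.card_union_of_disjoint hd]
    refine Finset.card_le_card fun m hm => Finset.mem_filter.2 ⟨Finset.mem_univ _, ?_⟩
    rcases Finset.mem_union.1 hm with h | h
    · obtain ⟨d, -, hd⟩ := (hY m).1 h; exact F.acts_inX hd
    · obtain ⟨y, hy, rfl⟩ := Finset.mem_image.1 h
      obtain ⟨d, -, hd⟩ := (hY y).1 hy
      exact F.acts_inX (F.acts_mul hta hd)
  -- the inverted elements
  let I : Set G := {d : G | d ∈ normalizer (F.J : Set G) ∧ x * d * x = d⁻¹ ∧ IsConj t (x * d)}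
  have hID : ∀ d ∈ I, d ∈ D := fun d hd => (hmemD d).2 ⟨hd.1, hd.2.1 ▸ inv_mem hd.1⟩
  have hIJ : ∀ d ∈ I, ∀ d' ∈ I, ∀ m, F.Acts d m → F.Acts d' m → d = d' := by
    intro d hd d' hd' m hm hm'
    obtain ⟨n, hn⟩ : ∃ n, mulM n m = 0 := (show ∀ y : Fin 48, ∃ y', mulM y' y = 0 by decide +kernel) m
    have hj : d⁻¹ * d' ∈ F.J := F.ker (hn ▸ F.acts_mul (F.acts_inv hm hn) hm')
    obtain ⟨j, hjdef⟩ : ∃ j, j = d⁻¹ * d' := ⟨_, rfl⟩
    rw [← hjdef] at hj
    have hd'e : d' = d * j := by rw [hjdef, mul_inv_cancel_left]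
    by_contra hne'
    have hj1 : j ≠ 1 := fun e => hne' (by rw [hd'e, e, mul_one])
    refine hxN (F.mem_of_conj_J hloc hj hj1 ?_)
    have e1 : x * j * x⁻¹ = d * j⁻¹ * d⁻¹ := by
      have e := hd'.2.1
      rw [hd'e] at e
      calc x * j * x⁻¹ = x * j * x := by rw [hxi]
        _ = (x * d * x)⁻¹ * (x * (d * j) * x) := by
          rw [show (x * d * x)⁻¹ * (x * (d * j) * x) = x⁻¹ * j * x by group, hxi]
        _ = _ := by rw [hd.2.1, e]; group
    rw [e1]
    exact (mem_normalizer_iff.1 hd.1 _).1 (inv_mem hj)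
  choose f hf using fun d : I => F.mono d.1 d.2.1
  have hfY : ∀ d, f d ∈ Y := fun d => (hY _).2 ⟨d.1, hID d.1 d.2, (hf d).2⟩
  have hfinj : Function.Injective f := fun d d' h =>
    Subtype.ext (hIJ d.1 d.2 d'.1 d'.2 _ (hf d).2 (h ▸ (hf d').2))
  have hIY : I.ncard ≤ Y.card := by
    rw [← Nat.card_coe_set_eq, ← Nat.card_eq_finsetCard]
    exact Nat.card_le_card_of_injective (fun d => (⟨f d, hfY d⟩ : Y)) fun a b h => hfinj (congrArg Subtype.val h)
  have hU := F.class_card ht hta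
  have hUI : {u : G | IsConj t u ∧ u ∈ normalizer (F.J : Set G)}.ncard ≤ I.ncard := hle
  rw [(count_arith F.k).2.1] at hU
  have h18 : 18 ≤ I.ncard ∧ F.k = 3 := by
    have hk : F.k = 0 ∨ F.k = 1 ∨ F.k = 2 ∨ F.k = 3 := (show ∀ k : Fin 4, k = 0 ∨ k = 1 ∨ k = 2 ∨ k = 3 by decide) _
    generalize {u : G | IsConj t u ∧ u ∈ normalizer (F.J : Set G)}.ncard = nu at hU hUI
    generalize I.ncard = ni at hIY hUI ⊢
    rcases hk with e | e | e | e <;> rw [e] at hhalf hU <;> simp at hhalf hU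
    · omega
    · omega
    · omega
    · exact ⟨by omega, e⟩
  obtain ⟨hI18, hk3⟩ := h18
  have hY24 : Y.card ≤ 24 := by rw [hk3] at hhalf; simp at hhalf; omega
  have hDv : ∀ v, v ≠ 0 → F.e v ∈ D → ¬ NoFix 3 v := by
    intro v hv hd hnf
    have hd' := ((hmemD _).1 hd).2
    have hconj : x * F.e v * x⁻¹ = x * F.e v * x := by rw [hxi]
    by_cases hJ : x * F.e v * x ∈ F.J
    · exact hxN (F.mem_of_conj_J hloc (F.e_mem v) (F.e_ne hv) (hconj ▸ hJ))
    obtain ⟨m, -, hm⟩ := F.mono _ hd'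
    have hm3 : mulM m (mulM m m) = 0 := F.acts_cube (n := 1) hm (by
      rw [pow_one, ← hconj, conj_pow, pow_succ', pow_two, F.J_cube (F.e_mem v), mul_one, mul_inv_cancel])
    obtain ⟨w, hw, hw0⟩ : ∃ w, actM m w = w ∧ w ≠ 0 :=
      (show ∀ m : Fin 48, mulM m (mulM m m) = 0 → ∃ w, actM m w = w ∧ w ≠ 0 by decide +kernel) m hm3
    have hc : Commute (x * F.e v * x) (F.e w) := by
      have e := hm w
      rw [hw, mul_inv_eq_iff_eq_mul] at e
      exact e
    have hwJ : x * F.e w * x ∈ F.J := by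
      obtain ⟨n, -, hn⟩ := F.mono (x * F.e w * x) (hloc v hv (mem_centralizer_singleton_iff.2 (by
        calc x * F.e w * x * F.e v = x * (F.e w * (x * F.e v * x⁻¹)) * x := by
              rw [show x * (F.e w * (x * F.e v * x⁻¹)) * x = x * F.e w * x * F.e v by group]
          _ = x * (x * F.e v * x * F.e w) * x := by rw [hconj, hc.eq]
          _ = x * x * F.e v * (x * F.e w * x) := by group
          _ = _ := by rw [hxx, one_mul])))
      refine F.ker (hnf n (hk3 ▸ F.acts_inX hn) (F.acts_cube (n := 1) hn ?_) (F.e_inj ?_) ▸ hn)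
      · rw [pow_one, show x * F.e w * x = x * F.e w * x⁻¹ by rw [hxi], conj_pow, pow_succ', pow_two,
          F.J_cube (F.e_mem w), mul_one, mul_inv_cancel]
      · rw [← hn]
        have hcc : Commute (x * F.e w * x) (F.e v) := by
          have e : Commute (x * (x * F.e v * x) * x⁻¹) (x * F.e w * x⁻¹) := SemiconjBy.conj_iff.2 hc
          have e2 : x * (x * F.e v * x) * x⁻¹ = F.e v := by
            rw [show x * (x * F.e v * x) * x⁻¹ = x * x * F.e v by group, hxx, one_mul]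
          rw [e2, show x * F.e w * x⁻¹ = x * F.e w * x by rw [hxi]] at e
          exact e.symm
        rw [hcc.eq, mul_inv_cancel_right]
    exact hxN (F.mem_of_conj_J hloc (F.e_mem w) (F.e_ne hw0) (by rwa [hxi]))
  by_cases htriv : ∃ a, a ≠ 0 ∧ F.e a ∈ D
  · obtain ⟨a, ha, haD⟩ := htriv
    have hsub : Y ⊆ Finset.univ.filter fun m : Fin 48 => actM m a = a ∨ actM m a = ng a := by
      intro m hm
      obtain ⟨d, hd, hda⟩ := (hY m).1 hm
      refine Finset.mem_filter.2 ⟨Finset.mem_univ _, ?_⟩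
      have hb : F.e (actM m a) ∈ D := hda a ▸ mul_mem (mul_mem hd haD) (inv_mem hd)
      by_contra! hcon
      have hb0 : actM m a ≠ 0 := fun e => ha (cube_elements.2.2.2.2 a m e)
      have hng : ∀ {v}, F.e v ∈ D → F.e (ng v) ∈ D := fun {v} h => F.e_inv v ▸ inv_mem h
      have hsum : ∀ {v w}, F.e v ∈ D → F.e w ∈ D → ad v w ≠ 0 → ¬ NoFix 3 (ad v w) := fun {v w} h h' hne0 =>
        hDv _ hne0 (F.e_add v w ▸ mul_mem h h')
      refine cube_elements.2.2.2.1 a (actM m a) ha hb0 hcon.1 hcon.2 (hDv a ha haD) (hDv _ hb0 hb)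
        (hsum haD hb fun e => hcon.2 ?_) (hsum haD (hng hb) fun e => hcon.1 ?_)
      · exact (show ∀ a b : Fin 27, ad a b = 0 → b = ng a by decide +kernel) a _ e
      · exact (show ∀ a b : Fin 27, ad a (ng b) = 0 → b = a by decide +kernel) a _ e
    have := (Finset.card_le_card hsub).trans (cube_elements.2.2.1 a ha)
    omega
  push_neg at htriv
  have hDJ : ∀ d ∈ D, ∀ d' ∈ D, ∀ m, F.Acts d m → F.Acts d' m → d = d' := by
    intro d hd d' hd' m hm hm'
    obtain ⟨n, hn⟩ : ∃ n, mulM n m = 0 := (show ∀ y : Fin 48, ∃ y', mulM y' y = 0 by decide +kernel) m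
    obtain ⟨v, hv⟩ := (F.memJ _).1 (F.ker (hn ▸ F.acts_mul (F.acts_inv hm hn) hm' : F.Acts (d⁻¹ * d') 0))
    by_cases hv0 : v = 0
    · rw [hv0, F.e_zero] at hv; exact inv_mul_eq_one.1 hv.symm
    · exact absurd (hv ▸ mul_mem (inv_mem hd) hd') (htriv v hv0)
  let Ip : Finset (Fin 48) := Finset.univ.filter fun m => ∃ d, f d = m
  have hIp : Ip ⊆ Y := fun m hm => by obtain ⟨d, rfl⟩ := (Finset.mem_filter.1 hm).2; exact hfY d
  have hIpc : 18 ≤ Ip.card := by
    refine hI18.trans ?_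
    rw [← Nat.card_coe_set_eq, ← Nat.card_eq_finsetCard]
    exact Nat.card_le_card_of_injective
      (fun d => (⟨f d, Finset.mem_filter.2 ⟨Finset.mem_univ _, d, rfl⟩⟩ : Ip)) fun a b h => hfinj (congrArg Subtype.val h)
  obtain ⟨a, haI, ha3, ha0⟩ : ∃ a ∈ Ip, mulM a (mulM a a) = 0 ∧ a ≠ 0 := by
    by_contra! hcon
    have hsub : (Finset.univ.filter fun m : Fin 48 => mulM m (mulM m m) = 0 ∧ m ≠ 0) ⊆ Y \ Ip := fun m hm =>
      Finset.mem_sdiff.2 ⟨cube_mem Y hY0 hYmul (hIpc.trans (Finset.card_le_card hIp)) m (Finset.mem_filter.1 hm).2.1,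
        fun h => (Finset.mem_filter.1 hm).2.2 (hcon m h (Finset.mem_filter.1 hm).2.1)⟩
    have := Finset.card_le_card hsub
    rw [cube_elements.1, Finset.card_sdiff_of_subset hIp] at this
    omega
  obtain ⟨da, rfl⟩ := (Finset.mem_filter.1 haI).2
  have hB : Ip.filter (fun b => mulM (f da) b ∈ Ip) ⊆
      Finset.univ.filter fun b : Fin 48 => mulM (f da) b = mulM b (f da) := by
    intro b hb
    obtain ⟨hbI, hab⟩ := Finset.mem_filter.1 hb
    obtain ⟨db, rfl⟩ := (Finset.mem_filter.1 hbI).2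
    obtain ⟨dc, hdc⟩ := (Finset.mem_filter.1 hab).2
    refine Finset.mem_filter.2 ⟨Finset.mem_univ _, ?_⟩
    have e : dc.1 = da.1 * db.1 := hDJ _ (hID _ dc.2) _ (mul_mem (hID _ da.2) (hID _ db.2)) _
      (hdc ▸ (hf dc).2) (F.acts_mul (hf da).2 (hf db).2)
    have h1 := dc.2.2.1
    rw [e, show x * (da.1 * db.1) * x = (x * da.1 * x⁻¹) * (x * db.1 * x) by group, hxi, da.2.2.1, db.2.2.1,
      ← mul_inv_rev, inv_inj] at h1
    exact F.acts_comm (hf da).2 (hf db).2 h1.symm
  have hge : 12 ≤ (Ip.filter fun b => mulM (f da) b ∈ Ip).card := by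
    have hinj : Function.Injective (mulM (f da)) := fun u w h => by
      have e := congrArg actE h
      rw [actE_mul, actE_mul] at e
      exact actE_inj (mul_left_cancel e)
    have hrest : (Ip.filter fun b => ¬ mulM (f da) b ∈ Ip).card ≤ (Y \ Ip).card := by
      rw [← Finset.card_image_of_injective _ hinj]
      refine Finset.card_le_card fun m hm => ?_
      obtain ⟨b, hb, rfl⟩ := Finset.mem_image.1 hm
      obtain ⟨hb1, hb2⟩ := Finset.mem_filter.1 hb
      exact Finset.mem_sdiff.2 ⟨hYmul _ (hfY da) _ (hIp hb1), hb2⟩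
    rw [Finset.card_sdiff_of_subset hIp] at hrest
    have := Finset.card_filter_add_card_filter_not (s := Ip) fun b => mulM (f da) b ∈ Ip
    omega
  have := (Finset.card_le_card hB).trans (cube_elements.2.1 _ ha3 ha0)
  omega

end Frame

end Cfsg.Lib.SymNineLocal
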