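import Cfsg.Agent.LocalThree.SymNineLocal.Model

/-!
The groups of signed permutations containing all permutations.
-/

set_option autoImplicit false
set_option maxRecDepth 8000
set_option synthInstance.maxSize 4000

namespace Cfsg.Lib.SymNineLocal

/-- The composite of two signed permutations. -/
def mulM (m n : Fin 48) : Fin 48 :=
  Fin.ofNat 48 (pmT.idxOf ((List.range 3).map fun i => pm (prm n) (pm (prm m) i)) +
    6 * (((sgn m 0 + sgn n (pm (prm m) 0)) % 2) + 2 * ((sgn m 1 + sgn n (pm (prm m) 1)) % 2) +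
      4 * ((sgn m 2 + sgn n (pm (prm m) 2)) % 2)))

theorem mulM_units : ∀ m n, ∀ v ∈ ([1, 3, 9] : List (Fin 27)), ∀ a : Fin 3,
    actM (mulM m n) (sc a.val v) = actM m (actM n (sc a.val v)) := by decide +kernel

theorem mulM_spec : ∀ m n v, actM (mulM m n) v = actM m (actM n v) := by
  intro m n v
  have h : ∀ (u : Fin 27) (i : ℕ), u ∈ ([1, 3, 9] : List (Fin 27)) →
      actM (mulM m n) (sc (dg v i) u) = actM m (actM n (sc (dg v i) u)) := fun u i hu =>
    mulM_units m n u hu ⟨dg v i, Nat.mod_lt _ (by norm_num)⟩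
  rw [split_units v]
  simp only [actM_add]
  rw [h 1 0 (by decide), h 3 1 (by decide), h 9 2 (by decide)]

theorem actM_inj : ∀ m n : Fin 48, actM m 1 = actM n 1 → actM m 3 = actM n 3 → actM m 9 = actM n 9 → m = n := by
  decide +kernel

/-- The signed permutation of a permutation. -/
def ofP (p : Fin 6) : Fin 48 := ⟨p.val, by omega⟩

theorem ofP_spec : ∀ p v, actM (ofP p) v = actP p v := by decide +kernel

/-- The pure sign part. -/
def sPart (m : Fin 48) : Fin 48 := ⟨m.val / 6 * 6, by omega⟩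

/-- Membership in the four kinds of groups. -/
def inX (k : Fin 4) (m : Fin 48) : Prop :=
  m.val / 6 ∈ ([[0], [0, 7], [0, 3, 5, 6], [0, 1, 2, 3, 4, 5, 6, 7]] : List (List ℕ)).getD k.val []

instance (k : Fin 4) : DecidablePred (inX k) := fun m => inferInstanceAs (Decidable (_ ∈ _))

theorem inX_all : ∀ m, inX 3 m := by decide +kernel

theorem mk_sign : ∀ m, (∃ p, mulM m (ofP p) = sPart m) ∧ ∃ p, mulM (sPart m) (ofP p) = m := by decide +kernel

theorem sign_kinds : ∀ m : Fin 48, (m.val / 6 = 0) ∨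
    (∃ p q, mulM (ofP p) (mulM (sPart m) (ofP q)) = 6) ∨
    (∃ p q, mulM (ofP p) (mulM (sPart m) (ofP q)) = 18) ∨ (sPart m = 42) := by decide +kernel

theorem sign_products : mulM 42 18 = 24 ∧ (∃ p q, mulM (ofP p) (mulM 24 (ofP q)) = 6) ∧
    ∀ m : Fin 48, m.val % 6 = 0 → m ≠ 0 →
      (∃ p q : Fin 6, mulM (ofP p) (mulM 6 (ofP q)) = m) ∨
      (∃ p q p' q' : Fin 6, mulM (mulM (ofP p) (mulM 6 (ofP q))) (mulM (ofP p') (mulM 6 (ofP q'))) = m) ∨
      (∃ p q p' q' : Fin 6, mulM 6 (mulM (mulM (ofP p) (mulM 6 (ofP q))) (mulM (ofP p') (mulM 6 (ofP q')))) = m) := by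
  decide +kernel

theorem sign_pairs : ∀ m : Fin 48, m.val % 6 = 0 → m.val / 6 ∈ ([3, 5, 6] : List ℕ) →
    ∃ p q : Fin 6, mulM (ofP p) (mulM 18 (ofP q)) = m := by decide +kernel

/-- The four possibilities. -/
theorem exists_kind (X : Fin 48 → Prop) (hP : ∀ p, X (ofP p)) (hm : ∀ m n, X m → X n → X (mulM m n)) :
    ∃ k, ∀ m, X m ↔ inX k m := by
  have hcj : ∀ {a}, X a → ∀ p q, X (mulM (ofP p) (mulM a (ofP q))) := fun ha p q =>
    hm _ _ (hP p) (hm _ _ ha (hP q))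
  have hs : ∀ m, X m ↔ X (sPart m) := by
    intro m
    obtain ⟨⟨p, hp⟩, ⟨q, hq⟩⟩ := mk_sign m
    exact ⟨fun h => hp ▸ hm _ _ h (hP p), fun h => hq ▸ hm _ _ h (hP q)⟩
  have h0 : ∀ {m : Fin 48}, m.val / 6 = 0 → X m := fun {m} h => by
    have e : ofP ⟨m.val, by omega⟩ = m := Fin.ext rfl
    exact e ▸ hP _
  have hp6 : ∀ m : Fin 48, (sPart m).val % 6 = 0 ∧ (sPart m).val / 6 = m.val / 6 := fun m => by
    simp only [sPart]; omega
  by_cases h6 : X 6
  · refine ⟨3, fun m => ⟨fun _ => inX_all m, fun _ => (hs m).2 ?_⟩⟩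
    by_cases e : sPart m = 0
    · exact h0 (by rw [e]; rfl)
    rcases sign_products.2.2 _ (hp6 m).1 e with ⟨p, q, e'⟩ | ⟨p, q, p', q', e'⟩ | ⟨p, q, p', q', e'⟩ <;> rw [← e']
    · exact hcj h6 p q
    · exact hm _ _ (hcj h6 p q) (hcj h6 p' q')
    · exact hm _ _ h6 (hm _ _ (hcj h6 p q) (hcj h6 p' q'))
  have hnot : X 42 → X 18 → False := fun a b => h6 (by
    obtain ⟨p, q, e⟩ := sign_products.2.1
    exact e ▸ hcj (sign_products.1 ▸ hm _ _ a b) p q)
  have hkind : ∀ m, X m → m.val / 6 = 0 ∨ (X 18 ∧ m.val / 6 ∈ ([3, 5, 6] : List ℕ)) ∨ (X 42 ∧ m.val / 6 = 7) := by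
    intro m h
    rcases sign_kinds m with e | ⟨p, q, e⟩ | ⟨p, q, e⟩ | e
    · exact Or.inl e
    · exact absurd (e ▸ hcj ((hs m).1 h) p q) h6
    · refine Or.inr (Or.inl ⟨e ▸ hcj ((hs m).1 h) p q, ?_⟩)
      exact (show ∀ m : Fin 48, (∃ p q, mulM (ofP p) (mulM (sPart m) (ofP q)) = 18) →
        m.val / 6 ∈ ([3, 5, 6] : List ℕ) by decide +kernel) m ⟨p, q, e⟩
    · exact Or.inr (Or.inr ⟨e ▸ (hs m).1 h, by rw [← (hp6 m).2, e]; rfl⟩)
  by_cases h18 : X 18
  · refine ⟨2, fun m => ⟨fun h => ?_, fun h => ?_⟩⟩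
    · rcases hkind m h with e | ⟨-, e⟩ | ⟨e42, -⟩
      · show m.val / 6 ∈ [0, 3, 5, 6]; rw [e]; decide
      · exact List.mem_cons_of_mem 0 e
      · exact absurd h18 fun h => hnot e42 h
    · rcases List.mem_cons.1 (show m.val / 6 ∈ [0, 3, 5, 6] from h) with e | e
      · exact h0 e
      · obtain ⟨p, q, e'⟩ := sign_pairs _ (hp6 m).1 ((hp6 m).2.symm ▸ e)
        exact (hs m).2 (e' ▸ hcj h18 p q)
  by_cases h42 : X 42
  · refine ⟨1, fun m => ⟨fun h => ?_, fun h => ?_⟩⟩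
    · rcases hkind m h with e | ⟨e, -⟩ | ⟨-, e⟩
      · show m.val / 6 ∈ [0, 7]; rw [e]; decide
      · exact absurd e h18
      · show m.val / 6 ∈ [0, 7]; rw [e]; decide
    · rcases List.mem_cons.1 (show m.val / 6 ∈ [0, 7] from h) with e | e
      · exact h0 e
      · refine (hs m).2 ?_
        rw [show sPart m = 42 from Fin.ext (by
          simp only [List.mem_singleton] at e
          simp only [sPart]
          omega)]
        exact h42
  refine ⟨0, fun m => ⟨fun h => ?_, fun h => h0 (List.mem_singleton.1 h)⟩⟩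
  rcases hkind m h with e | ⟨e, -⟩ | ⟨e, -⟩
  · show m.val / 6 ∈ [0]; rw [e]; decide
  · exact absurd e h18
  · exact absurd e h42

end Cfsg.Lib.SymNineLocal
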