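import Cfsg.Agent.LocalThree.SymNineLocal.Classify
import Cfsg.Agent.LocalThree.SymNineLocal.Central
import Cfsg.Agent.LocalThree.SymNineLocal.Signed
import Cfsg.Agent.LocalThree.SymNineLocal.Nine

/-!
Coordinates on an elementary group of order `27` in the centraliser of an element of order three in
which its normaliser acts by signed permutations.
-/

set_option autoImplicit false
set_option linter.unusedSectionVars false
set_option maxRecDepth 8000
set_option synthInstance.maxSize 4000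

namespace Cfsg.Lib.SymNineLocal

open Subgroup

universe u

/-- The coordinates. -/
structure Frame (G : Type u) [Group G] where
  J : Subgroup G
  e : Fin 27 → G
  e_inj : Function.Injective e
  e_add : ∀ v w, e (ad v w) = e v * e w
  memJ : ∀ g, g ∈ J ↔ ∃ v, e v = g
  s : Fin 6 → G
  s_mul : ∀ p q, s p * s q = s (pc p q)
  s_act : ∀ p v, s p * e v * (s p)⁻¹ = e (actP p v)
  cent : ∀ g, Commute g (e 13) → ∃ v p, g = e v * s p
  k : Fin 4
  mono : ∀ g ∈ normalizer (J : Set G), ∃ m, inX k m ∧ ∀ v, g * e v * g⁻¹ = e (actM m v)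
  lift : ∀ m, inX k m → ∃ g ∈ normalizer (J : Set G), ∀ v, g * e v * g⁻¹ = e (actM m v)
  sig : SigFree J

theorem ad_four : ∀ b : Fin 3, sh b 13 = 13 ∧ sh b 0 = 0 := by decide +kernel

theorem actP_inj : ∀ p : Fin 6, (∀ v, actP p v = v) → p = 0 := by decide +kernel

theorem fix_units : ∀ p : Fin 6, ∀ i : Fin 3, actP p (un i) ∈ ([1, 3, 9] : List (Fin 27)) := by decide +kernel

variable {G : Type u} [Group G] [Finite G]

open Equiv in
/-- The centraliser of the element in coordinates. -/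
theorem exists_coordinates (x : G) (hx : orderOf x = 3)
    (eC : centralizer ({x} : Set G) ≃* centralizer ({zNine} : Set (Perm (Fin 9)))) :
    ∃ φ : Fin 27 × Fin 6 → G, Function.Injective φ ∧ (∀ a b, φ (mulC a b) = φ a * φ b) ∧
      (∀ g, Commute g (φ (13, 0)) ↔ ∃ a, φ a = g) ∧ ∀ g ∈ centralizer ({x} : Set G), ∃ a, φ a = g := by
  classical
  let inS : Fin 27 × Fin 6 → centralizer ({zNine} : Set (Perm (Fin 9))) := fun a =>
    ⟨tz a.1 * bp a.2, mem_centralizer_singleton_iff.2 (elC_comm a.1 a.2)⟩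
  let φ : Fin 27 × Fin 6 → G := fun a => ((eC.symm (inS a) : centralizer ({x} : Set G)) : G)
  have hmul : ∀ a b, φ (mulC a b) = φ a * φ b := fun a b => by
    show ((eC.symm (inS (mulC a b))) : G) = _
    rw [show inS (mulC a b) = inS a * inS b from Subtype.ext (elC_mul a b).symm, map_mul]
    rfl
  have hone : ∀ a, φ a = 1 → a = (0, 0) := fun a h => by
    have h2 : inS a = 1 := eC.symm.injective (by rw [map_one]; exact Subtype.ext h)
    exact Prod.ext (elC_inj _ _ (congrArg Subtype.val h2)).1 (elC_inj _ _ (congrArg Subtype.val h2)).2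
  have hinj : Function.Injective φ := fun a b h => by
    have h2 : inS a = inS b := eC.symm.injective (Subtype.ext h)
    have h3 : tz a.1 * bp a.2 = tz b.1 * bp b.2 := congrArg Subtype.val h2
    exact (show ∀ a b : Fin 27 × Fin 6, (tz a.1 * bp a.2) 0 = (tz b.1 * bp b.2) 0 →
      (tz a.1 * bp a.2) 3 = (tz b.1 * bp b.2) 3 → (tz a.1 * bp a.2) 6 = (tz b.1 * bp b.2) 6 → a = b by decide +kernel)
      a b (by rw [h3]) (by rw [h3]) (by rw [h3])
  have hsurj : ∀ g ∈ centralizer ({x} : Set G), ∃ a, φ a = g := fun g hg => by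
    obtain ⟨v, p, e⟩ := exists_coords (mem_centralizer_singleton_iff.1 (eC ⟨g, hg⟩).2)
    refine ⟨(v, p), ?_⟩
    show ((eC.symm (inS (v, p))) : G) = g
    rw [show inS (v, p) = eC ⟨g, hg⟩ from Subtype.ext e.symm, eC.symm_apply_apply]
  have hcx : ∀ a, φ a ∈ centralizer ({x} : Set G) := fun a => SetLike.coe_mem _
  obtain ⟨a, ha⟩ := hsurj x (mem_centralizer_singleton_iff.2 rfl)
  have hc : ∀ b, mulC a b = mulC b a := fun b => hinj (by
    rw [hmul, hmul, ha]
    exact (mem_centralizer_singleton_iff.1 (hcx b)).symm)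
  have hz : a = (13, 0) ∨ a = (26, 0) ∨ a = (0, 0) :=
    (show ∀ a : Fin 27 × Fin 6, (∀ b, mulC a b = mulC b a) → a = (13, 0) ∨ a = (26, 0) ∨ a = (0, 0) by decide +kernel)
      a hc
  refine ⟨φ, hinj, hmul, fun g => ⟨fun hg => hsurj g (mem_centralizer_singleton_iff.2 ?_), ?_⟩, hsurj⟩
  · rw [← ha]
    rcases hz with e | e | e <;> rw [e]
    · exact hg.eq
    · rw [show ((26 : Fin 27), (0 : Fin 6)) = mulC (13, 0) (13, 0) by decide +kernel, hmul]
      exact (hg.mul_right hg).eq
    · have h0 : φ (0, 0) = 1 := mul_eq_left.1 ((hmul (0, 0) (0, 0)).symm.trans (by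
        rw [show mulC ((0 : Fin 27), (0 : Fin 6)) (0, 0) = (0, 0) by decide +kernel]))
      rw [h0]; simp
  · rintro ⟨b, rfl⟩
    show φ b * φ (13, 0) = φ (13, 0) * φ b
    rw [← hmul, ← hmul, show mulC b (13, 0) = mulC (13, 0) b from
      (show ∀ b : Fin 27 × Fin 6, mulC b (13, 0) = mulC (13, 0) b by decide +kernel) b]

open Equiv in
/-- The coordinates exist. -/
theorem exists_frame (x : G) (hx : orderOf x = 3)
    (eC : centralizer ({x} : Set G) ≃* centralizer ({zNine} : Set (Perm (Fin 9))))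
    (J : Subgroup G) (hJC : J ≤ centralizer ({x} : Set G)) (hJc : ∀ a ∈ J, ∀ b ∈ J, a * b = b * a)
    (hJexp : ∀ j ∈ J, j ^ 3 = 1) (hJcard : Nat.card J = 27)
    (hJsig : ∀ K : Subgroup G, (Nat.card K).Coprime 3 → (∀ j ∈ J, K.map (MulAut.conj j).toMonoidHom = K) → K = ⊥) :
    ∃ F : Frame G, F.J = J := by
  classical
  obtain ⟨φ, hinj, hmul, hC, hsurj⟩ := exists_coordinates x hx eC
  have h00 : φ (0, 0) = 1 := mul_eq_left.1 ((hmul (0, 0) (0, 0)).symm.trans (by
    rw [show mulC ((0 : Fin 27), (0 : Fin 6)) (0, 0) = (0, 0) by decide +kernel]))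
  -- the group is the base
  have hA : ∀ j ∈ J, ∃ v, φ (v, 0) = j := by
    intro j hj
    obtain ⟨⟨v, p⟩, hv⟩ := hsurj j (hJC hj)
    refine ⟨v, ?_⟩
    have hcube : ∀ a, φ a ∈ J → mulC a (mulC a a) = (0, 0) := fun a ha => hinj (by
      rw [hmul, hmul, h00, ← pow_two, ← pow_succ']; exact hJexp _ ha)
    suffices hp : p = 0 by rw [← hv, hp]
    by_contra hne
    have hlt := small_centraliser (v, p) (hcube _ (hv ▸ hj)) hne
    choose f hf using fun i : J => hsurj i (hJC i.2)
    have hle : Nat.card J ≤ Nat.card {b : Fin 27 × Fin 6 // mulC (v, p) b = mulC b (v, p) ∧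
        mulC b (mulC b b) = (0, 0)} := by
      refine Nat.card_le_card_of_injective (fun i => ⟨f i, hinj ?_, hcube _ (by rw [hf i]; exact i.2)⟩) ?_
      · rw [hmul, hmul, hv, hf i]; exact hJc _ hj _ i.2
      · intro i i' h
        exact Subtype.ext (by rw [← hf i, ← hf i', show f i = f i' from congrArg Subtype.val h])
    rw [hJcard, Nat.card_eq_fintype_card (α := {b : Fin 27 × Fin 6 // mulC (v, p) b = mulC b (v, p) ∧
        mulC b (mulC b b) = (0, 0)}), Fintype.card_subtype] at hle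
    omega
  have hmemJ : ∀ g, g ∈ J ↔ ∃ v, φ (v, 0) = g := by
    have hsub : J.carrier ⊆ Set.range fun v => φ (v, 0) := fun j hj => hA j hj
    have heq : J.carrier = Set.range fun v => φ (v, 0) := by
      refine Set.eq_of_subset_of_ncard_le hsub ?_ (Set.toFinite _)
      rw [show J.carrier.ncard = 27 from hJcard]
      refine (Set.ncard_le_ncard (t := Set.range fun v => φ (v, 0)) le_rfl (Set.toFinite _)).trans ?_
      rw [← Set.image_univ]
      refine (Set.ncard_image_le Set.finite_univ).trans ?_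
      rw [Set.ncard_univ]; simp
    exact fun g => Set.ext_iff.1 heq g
  have hJm : ∀ v, φ (v, 0) ∈ J := fun v => (hmemJ _).2 ⟨v, rfl⟩
  have hadd : ∀ v w, φ (ad v w, 0) = φ (v, 0) * φ (w, 0) := fun v w => by
    rw [← hmul, show mulC (v, 0) (w, 0) = (ad v w, 0) from
      (show ∀ v w : Fin 27, mulC (v, 0) (w, 0) = (ad v w, 0) by decide +kernel) v w]
  have hei : Function.Injective fun v => φ (v, 0) := fun v w h => congrArg Prod.fst (hinj h)
  have hconj : ∀ p v, φ (0, p) * φ (v, 0) * (φ (0, p))⁻¹ = φ (actP p v, 0) := fun p v => by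
    rw [mul_inv_eq_iff_eq_mul, ← hmul, ← hmul]
    exact congrArg φ ((show ∀ p v, mulC (0, p) (v, 0) = mulC (actP p v, 0) (0, p) by decide +kernel) p v)
  have hsplit : ∀ v p, φ (v, p) = φ (v, 0) * φ (0, p) := fun v p => by
    rw [← hmul]
    exact congrArg φ ((show ∀ v p, (v, p) = mulC (v, 0) (0, p) by decide +kernel) v p)
  -- the action of the normaliser
  let Act : G → (Fin 27 → Fin 27) → Prop := fun g f => ∀ v, g * φ (v, 0) * g⁻¹ = φ (f v, 0)
  have hact : ∀ g ∈ normalizer (J : Set G), ∃ f, Act g f := fun g hg => by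
    choose f hf using fun v => (hmemJ _).1 ((mem_normalizer_iff.1 hg _).1 (hJm v))
    exact ⟨f, fun v => (hf v).symm⟩
  have hnorm : ∀ {g f}, Act g f → g ∈ normalizer (J : Set G) := fun {g f} h => by
    refine Subgroup.mem_normalizer_iff_map_conj_eq.2 (Subgroup.eq_of_le_of_card_ge ?_
      (by rw [Subgroup.card_map_of_injective (MulAut.conj g).injective]))
    rintro _ ⟨j, hj, rfl⟩
    obtain ⟨v, rfl⟩ := hA j hj
    exact (hmemJ _).2 ⟨f v, (h v).symm⟩
  have hsA : ∀ p, Act (φ (0, p)) (actP p) := fun p v => hconj p v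
  obtain ⟨b, hb⟩ := classify (fun f => ∃ g, Act g f)
    (fun f ⟨g, hg⟩ v w => hei (by
      show φ (f (ad v w), 0) = φ (ad (f v) (f w), 0)
      rw [← hg, hadd, hadd, ← hg, ← hg]; group))
    (fun f ⟨g, hg⟩ v w h => hei (by
      have e : g * φ (v, 0) * g⁻¹ = g * φ (w, 0) * g⁻¹ := by rw [hg, hg, h]
      simpa using e))
    (fun p => ⟨_, hsA p⟩)
    (fun f f' ⟨g, hg⟩ ⟨g', hg'⟩ => ⟨g * g', fun v => by
      rw [show g * g' * φ (v, 0) * (g * g')⁻¹ = g * (g' * φ (v, 0) * g'⁻¹) * g⁻¹ by group, hg', hg]⟩)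
    (fun f ⟨g, hg⟩ h13 => by
      have hz : Commute g (φ (13, 0)) := by
        have e := hg 13
        rw [h13, mul_inv_eq_iff_eq_mul] at e
        exact e
      obtain ⟨⟨w, p⟩, rfl⟩ := (hC g).1 hz
      have hf : f = actP p := funext fun v => hei (by
        show φ (f v, 0) = φ (actP p v, 0)
        rw [← hg v, ← hconj p v, hsplit w p]
        have hcm : ∀ a b, φ (a, 0) * φ (b, 0) = φ (b, 0) * φ (a, 0) := fun a b =>
          hJc _ (hJm a) _ (hJm b)
        rw [show φ (w, 0) * φ (0, p) * φ (v, 0) * (φ (w, 0) * φ (0, p))⁻¹ =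
          φ (w, 0) * (φ (0, p) * φ (v, 0) * (φ (0, p))⁻¹) * (φ (w, 0))⁻¹ by group, hconj, hcm, mul_inv_cancel_right])
      intro i
      rw [hf]
      exact fix_units p i)
  -- the new basis
  let e : Fin 27 → G := fun v => φ (sh b v, 0)
  have hmemJ' : ∀ g, g ∈ J ↔ ∃ v, e v = g := fun g => (hmemJ g).trans
    ⟨fun ⟨v, hv⟩ => ⟨hs b v, by show φ (sh b (hs b v), 0) = g; rw [(sh_inv b v).1, hv]⟩,
      fun ⟨v, hv⟩ => ⟨_, hv⟩⟩
  let X : Fin 48 → Prop := fun m => ∃ g, ∀ v, g * e v * g⁻¹ = e (actM m v)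
  obtain ⟨k, hk⟩ := exists_kind X
    (fun p => ⟨φ (0, p), fun v => by
      show φ (0, p) * φ (sh b v, 0) * (φ (0, p))⁻¹ = φ (sh b (actM (ofP p) v), 0)
      rw [hconj, ofP_spec, actP_facts.2.2.1]⟩)
    (fun m n ⟨g, hg⟩ ⟨g', hg'⟩ => ⟨g * g', fun v => by
      rw [mulM_spec, ← hg, ← hg']; group⟩)
  refine ⟨{
    J := J
    e := e
    e_inj := fun v w h => by
      have := congrArg (hs b) (hei h)
      rwa [(sh_inv b v).2, (sh_inv b w).2] at this
    e_add := fun v w => by show φ (sh b (ad v w), 0) = _; rw [sh_add, hadd]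
    memJ := hmemJ'
    s := fun p => φ (0, p)
    s_mul := fun p q => by
      rw [← hmul]
      exact congrArg φ ((show ∀ p q, mulC ((0 : Fin 27), p) (0, q) = (0, pc p q) by decide +kernel) p q)
    s_act := fun p v => by
      show _ = φ (sh b (actP p v), 0)
      rw [← actP_facts.2.2.1]; exact hconj p _
    cent := fun g hg => by
      have hg' : Commute g (φ (13, 0)) := by
        have : e 13 = φ (13, 0) := by show φ (sh b 13, 0) = _; rw [(ad_four b).1]
        rwa [this] at hg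
      obtain ⟨⟨w, p⟩, rfl⟩ := (hC g).1 hg'
      exact ⟨hs b w, p, by show _ = φ (sh b (hs b w), 0) * φ (0, p); rw [(sh_inv b w).1, hsplit]⟩
    k := k
    mono := fun g hg => by
      obtain ⟨f, hf⟩ := hact g hg
      obtain ⟨m, hm⟩ := hb f ⟨g, hf⟩
      have hm' : ∀ v, g * e v * g⁻¹ = e (actM m v) := fun v => by
        show g * φ (sh b v, 0) * g⁻¹ = φ (sh b (actM m v), 0)
        rw [hf, hm, sheared, (sh_inv b v).2]
      exact ⟨m, (hk m).1 ⟨g, hm'⟩, hm'⟩
    lift := fun m hm => by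
      obtain ⟨g, hg⟩ := (hk m).2 hm
      refine ⟨g, hnorm (f := fun v => sh b (actM m (hs b v))) (fun v => ?_), hg⟩
      have := hg (hs b v)
      rwa [show e (hs b v) = φ (v, 0) by show φ (sh b (hs b v), 0) = _; rw [(sh_inv b v).1]] at this
    sig := fun K hK hJK => hJsig K hK fun j hj => Subgroup.mem_normalizer_iff_map_conj_eq.1 (hJK hj) }, rfl⟩

end Cfsg.Lib.SymNineLocal
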