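import Cfsg.Agent.LocalThree.SymNineLocal.Count
import Mathlib.GroupTheory.Index

/-!
A transposition fused to an inverting involution is impossible, so that the normaliser is the whole group.
-/

set_option autoImplicit false
set_option linter.unusedSectionVars false
set_option maxRecDepth 8000
set_option synthInstance.maxSize 4000

namespace Cfsg.Lib.SymNineLocal

open Subgroup MulAction
open scoped Pointwise

universe u

/-- The number of conjugates of the transposition which a fusion allows. -/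
def boxT : Finset (Fin 48 × Fin 27) :=
  Finset.univ.filter fun q => inX 1 q.1 ∧ (ConjX 1 2 q.1 ∨ q.1 = 42) ∧ actM q.1 q.2 = ng q.2

/-- Cubes with a permutation part. -/
def boxX : Finset (Fin 27 × Fin 6) :=
  Finset.univ.filter fun q => (q.2 = 3 ∨ q.2 = 4) ∧ ad q.1 (ad (actP q.2 q.1) (actP q.2 (actP q.2 q.1))) = 0

theorem conj_list : ∀ m : Fin 48, inX 1 m → ((ConjX 1 2 m ∨ m = 42) ↔ m ∈ ([1, 2, 5, 42] : List (Fin 48))) := by
  decide +kernel

theorem boxT_le : boxT.card ≤ 36 := by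
  refine le_trans (Finset.card_le_card ?_) (show ((([1, 2, 5, 42] : List (Fin 48)).toFinset ×ˢ
    (Finset.univ : Finset (Fin 27))).filter fun q => actM q.1 q.2 = ng q.2).card ≤ 36 by decide +kernel)
  intro q hq
  simp only [boxT, Finset.mem_filter, Finset.mem_univ, true_and] at hq
  exact Finset.mem_filter.2
    ⟨Finset.mem_product.2 ⟨List.mem_toFinset.2 ((conj_list _ hq.1).1 hq.2.1), Finset.mem_univ _⟩, hq.2.2⟩

theorem one_facts : boxT.card ≤ 36 ∧ boxX.card ≤ 18 ∧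
    (∀ w : Fin 27, w ≠ 0 → ¬ NoFix 1 w → w = 13 ∨ w = 26) ∧
    (∀ m, inX 1 m → mulM m (mulM m m) = 0 → m = 0 ∨ ∃ p : Fin 6, (p = 3 ∨ p = 4) ∧ ofP p = m) ∧
    (∀ m : Fin 48, inX 1 m → actM m 13 = 13 ∨ actM m 13 = 26) ∧
    ((∀ p : Fin 6, (p = 3 ∨ p = 4) → pc p (pc p p) = 0 ∧ actP p 13 = 13) ∧ inX 1 (ofP 3) ∧
      mulM (ofP 3) 42 = mulM 42 (ofP 3) ∧ ofP 3 ≠ 0) ∧
    (Finset.univ.filter fun m : Fin 48 => inX 1 m).card = 12 ∧
    (∀ n n' : Fin 48, inX 1 n → mulM n n' = 0 → mulM (mulM n 2) n' ≠ 42) :=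
  ⟨boxT_le, by decide +kernel⟩

theorem one_centre : ∀ w : Fin 27, ∀ p : Fin 6, (p = 0 ∨ p = 3 ∨ p = 4) →
    (∀ q : Fin 6, (q = 3 ∨ q = 4) → actP p (ad 1 (ng (actP q 1))) = ad 1 (ng (actP q 1)) → p = 0) ∧
    (∀ q : Fin 6, (q = 3 ∨ q = 4) → actP q w = w → w = 0 ∨ w = 13 ∨ w = 26) := by decide +kernel

namespace Frame

variable {G : Type u} [Group G] [Finite G] (F : Frame G)

include F

theorem inverted_trivial {z : G} (hza : F.Acts z 42) {j : G} (hj : j ∈ F.J) (hc : Commute j z) : j = 1 := by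
  obtain ⟨v, rfl⟩ := (F.memJ j).1 hj
  have e := hza v
  rw [hc.symm.eq, mul_inv_cancel_right, (neg_central 42).2 v] at e
  rw [neg_power.2.2 v (F.e_inj e).symm, F.e_zero]

theorem fix_diag (hloc : F.Loc3) (hk : F.k = 1) {t : G} (ht : t * t = 1) (hta : F.Acts t 2) {h : G}
    (hz : F.Acts (h⁻¹ * t * h) 42) :
    h⁻¹ * F.e 13 * h ∈ normalizer (F.J : Set G) ∧ h⁻¹ * F.e 13 * h ∉ F.J := by
  obtain ⟨z, hzdef⟩ : ∃ z, z = h⁻¹ * t * h := ⟨_, rfl⟩
  rw [← hzdef] at hz
  have hzz : z * z = 1 := by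
    rw [hzdef, show h⁻¹ * t * h * (h⁻¹ * t * h) = h⁻¹ * (t * t) * h by group, ht, mul_one, inv_mul_cancel]
  obtain ⟨c, hc, hcz⟩ := F.lift_comm hzz hz (hk ▸ one_facts.2.2.2.2.2.1.2.1) one_facts.2.2.2.2.2.1.2.2.1
  have hc3 : c * (c * c) = 1 := by
    refine F.inverted_trivial hz (F.ker ?_) (hcz.mul_left (hcz.mul_left hcz))
    have e := F.acts_mul hc (F.acts_mul hc hc)
    rwa [(show mulM (ofP 3) (mulM (ofP 3) (ofP 3)) = 0 by decide +kernel)] at e
  have hcJ : c ∉ F.J := fun h' => one_facts.2.2.2.2.2.1.2.2.2 (F.acts_unique hc (F.acts_J h'))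
  have haJ : h * c * h⁻¹ ∈ F.J := by
    refine F.cube_transp hloc ht hta (n := 1) ?_ ?_
    · show h * c * h⁻¹ * t = t * (h * c * h⁻¹)
      calc h * c * h⁻¹ * t = h * (c * z) * h⁻¹ := by rw [hzdef]; group
        _ = _ := by rw [hcz.eq, hzdef]; group
    · rw [pow_one, conj_pow, pow_succ', pow_two, hc3, mul_one, mul_inv_cancel]
  obtain ⟨w, hw⟩ := (F.memJ _).1 haJ
  have hce : h⁻¹ * F.e w * h⁻¹⁻¹ = c := by rw [hw]; group
  have hw0 : w ≠ 0 := by
    rintro rfl
    rw [F.e_zero, mul_one, mul_inv_cancel] at hce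
    exact hcJ (hce ▸ one_mem _)
  have hc13 : Commute c (F.e 13) := by
    have e := hc 13
    rw [ofP_spec, (one_facts.2.2.2.2.2.1.1 3 (Or.inl rfl)).2, mul_inv_eq_iff_eq_mul] at e
    exact e
  have hnf : ¬ NoFix F.k w := fun hn => by
    have := F.conj_mem_J hloc hw0 hn (g := h⁻¹) (hce.symm ▸ F.acts_mem hc) (hce.symm ▸ hc13)
    exact hcJ (hce ▸ this)
  rcases one_facts.2.2.1 w hw0 (hk ▸ hnf) with rfl | rfl
  · rw [inv_inv] at hce
    exact ⟨hce ▸ F.acts_mem hc, hce ▸ hcJ⟩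
  · rw [inv_inv, ← vec_kinds.2.2.2, F.e_inv] at hce
    have e : h⁻¹ * F.e 13 * h = c⁻¹ := by rw [← hce]; group
    exact ⟨e ▸ inv_mem (F.acts_mem hc), fun h' => hcJ (by rw [e] at h'; exact inv_mem_iff.1 h')⟩

theorem card_conj_diag (hk : F.k = 1) :
    {u : G | IsConj (F.e 13) u ∧ u ∈ normalizer (F.J : Set G)}.ncard ≤ 20 := by
  classical
  have hsub : {u : G | IsConj (F.e 13) u ∧ u ∈ normalizer (F.J : Set G)} ⊆
      ↑(({F.e 13, F.e 26} : Finset G) ∪ boxX.image fun q => F.e q.1 * F.s q.2) := by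
    rintro u ⟨hu, huN⟩
    obtain ⟨c, rfl⟩ := isConj_iff.1 hu
    obtain ⟨m, hm', hm⟩ := F.mono _ huN
    rw [hk] at hm'
    have h3 : (c * F.e 13 * c⁻¹) * ((c * F.e 13 * c⁻¹) * (c * F.e 13 * c⁻¹)) = 1 := by
      rw [show (c * F.e 13 * c⁻¹) * ((c * F.e 13 * c⁻¹) * (c * F.e 13 * c⁻¹)) =
        c * (F.e 13 * (F.e 13 * F.e 13)) * c⁻¹ by group, F.J_cube (F.e_mem 13), mul_one, mul_inv_cancel]
    have hcub := F.acts_cube (n := 1) hm (by rw [pow_one, pow_succ', pow_two]; exact h3)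
    rcases one_facts.2.2.2.1 m hm' hcub with rfl | ⟨p, hp, rfl⟩
    · obtain ⟨k, hk', e⟩ := F.fusion (F.e_mem 13) (F.ker hm)
      obtain ⟨n, hn', hn⟩ := F.mono k hk'
      rw [hk] at hn'
      rw [hn 13] at e
      rw [← e]
      rcases one_facts.2.2.2.2.1 n hn' with e' | e' <;> rw [e'] <;> simp
    · obtain ⟨p', hp'⟩ : ∃ p', mulM p' (ofP p) = 0 := (show ∀ y : Fin 48, ∃ y', mulM y' y = 0 by decide +kernel) _
      have hj : c * F.e 13 * c⁻¹ * (F.s p)⁻¹ ∈ F.J := F.ker (by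
        have := F.acts_mul hm (F.acts_inv (F.acts_s p) hp')
        rwa [(show ∀ y y' : Fin 48, mulM y' y = 0 → mulM y y' = 0 by decide +kernel) _ _ hp'] at this)
      obtain ⟨w, hw⟩ := (F.memJ _).1 hj
      have hu' : c * F.e 13 * c⁻¹ = F.e w * F.s p := by rw [hw, inv_mul_cancel_right]
      simp only [Finset.coe_union, Set.mem_union]
      refine Or.inr (Finset.mem_coe.2 (Finset.mem_image.2 ⟨(w, p), Finset.mem_filter.2 ⟨Finset.mem_univ _, hp, ?_⟩, hu'.symm⟩))
      have hs3 : F.s p * F.s p * F.s p = 1 := by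
        rw [mul_assoc, F.s_mul, F.s_mul, (one_facts.2.2.2.2.2.1.1 p hp).1, F.s_zero]
      refine F.e_inj ?_
      simp only
      rw [F.e_add, F.e_add, ← F.s_act, ← F.s_act, ← F.s_act, F.e_zero]
      rw [hu'] at h3
      calc F.e w * (F.s p * F.e w * (F.s p)⁻¹ * (F.s p * (F.s p * F.e w * (F.s p)⁻¹) * (F.s p)⁻¹))
          = F.e w * F.s p * (F.e w * F.s p * (F.e w * F.s p)) * (F.s p * F.s p * F.s p)⁻¹ := by group
        _ = 1 := by rw [h3, hs3]; group
  refine (Set.ncard_le_ncard hsub (Finset.finite_toSet _)).trans ?_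
  rw [Set.ncard_coe_finset]
  refine (Finset.card_union_le _ _).trans ?_
  have := (Finset.card_image_le (s := boxX) (f := fun q => F.e q.1 * F.s q.2)).trans one_facts.2.1
  have := Finset.card_le_two (a := F.e 13) (b := F.e 26)
  omega

theorem card_class_inN (hloc : F.Loc3) (hk : F.k = 1) {t : G} (ht : t * t = 1) (hta : F.Acts t 2) :
    {u : G | IsConj t u ∧ u ∈ normalizer (F.J : Set G)}.ncard ≤ 36 := by
  classical
  refine le_trans ?_ one_facts.1
  rw [← Nat.card_coe_set_eq, ← Nat.card_eq_finsetCard]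
  choose b hb using fun m : Fin 48 =>
    (show ∃ b : G, (∃ u, IsConj t u ∧ F.Acts u m) → IsConj t b ∧ F.Acts b m from by
      by_cases h : ∃ u, IsConj t u ∧ F.Acts u m
      · obtain ⟨b, hb⟩ := h; exact ⟨b, fun _ => hb⟩
      · exact ⟨1, fun h' => absurd h' h⟩)
  choose m hm' hm using fun u : {u : G | IsConj t u ∧ u ∈ normalizer (F.J : Set G)} => F.mono u.1 u.2.2
  have hsq : ∀ {u}, IsConj t u → u * u = 1 := fun {u} hu => by
    obtain ⟨c, rfl⟩ := isConj_iff.1 hu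
    rw [show c * t * c⁻¹ * (c * t * c⁻¹) = c * (t * t) * c⁻¹ by group, ht, mul_one, mul_inv_cancel]
  have hdiff : ∀ u : {u : G | IsConj t u ∧ u ∈ normalizer (F.J : Set G)},
      ∃ w, actM (m u) w = ng w ∧ u.1 = b (m u) * F.e w := by
    intro u
    obtain ⟨hbc, hba⟩ := hb (m u) ⟨u.1, u.2.1, hm u⟩
    have h0 : F.Acts (b (m u) * u.1) 0 := by
      have e := F.acts_mul hba (hm u)
      have e1 : mulM (m u) (m u) = 0 := F.acts_unique (hsq u.2.1 ▸ F.acts_mul (hm u) (hm u)) F.acts_one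
      rwa [e1] at e
    obtain ⟨w, hw⟩ := (F.memJ _).1 (F.ker h0)
    refine ⟨w, F.e_inj ?_, ?_⟩
    · rw [← hba, F.e_inv, hw, mul_inv_rev, inv_eq_of_mul_eq_one_right (hsq u.2.1),
        inv_eq_of_mul_eq_one_right (hsq hbc)]
      calc b (m u) * (b (m u) * u.1) * b (m u) = b (m u) * b (m u) * (u.1 * b (m u)) := by group
        _ = _ := by rw [hsq hbc, one_mul]
    · rw [hw, ← mul_assoc, hsq hbc, one_mul]
  choose w hw hw' using hdiff
  refine Nat.card_le_card_of_injective (fun u => ⟨(m u, w u), Finset.mem_filter.2 ⟨Finset.mem_univ _, hk ▸ hm' u, ?_, hw u⟩⟩)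
    fun u u' h => ?_
  · obtain ⟨c, hc⟩ := isConj_iff.1 u.2.1
    have := F.class_transp hloc ht hta (hc.symm ▸ hm u)
    rw [hk] at this
    exact this.imp id And.left
  · have h' := congrArg Subtype.val h
    simp only [Prod.mk.injEq] at h'
    exact Subtype.ext (by rw [hw' u, hw' u', h'.1, h'.2])

theorem card_class_all {t : G} : Nat.card G ≤ {u : G | IsConj t u}.ncard * Nat.card (centralizer ({t} : Set G)) := by
  classical
  rw [← Nat.card_coe_set_eq, ← Nat.card_prod]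
  let f : G → {u : G | IsConj t u} := fun g => ⟨g * t * g⁻¹, isConj_iff.2 ⟨g, rfl⟩⟩
  choose r hr using fun u : {u : G | IsConj t u} => isConj_iff.1 u.2
  refine Nat.card_le_card_of_injective (fun g => (f g, (⟨(r (f g))⁻¹ * g, mem_centralizer_singleton_iff.2 ?_⟩ :
    centralizer ({t} : Set G)))) fun g g' h => ?_
  · have e : r (f g) * t * (r (f g))⁻¹ = g * t * g⁻¹ := hr (f g)
    calc (r (f g))⁻¹ * g * t = (r (f g))⁻¹ * (g * t * g⁻¹) * g := by group
      _ = _ := by rw [← e]; group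
  · obtain ⟨h1, h2⟩ := Prod.ext_iff.1 h
    have h3 := congrArg Subtype.val h2
    simp only at h3 h1
    rw [h1] at h3
    exact mul_left_cancel h3

theorem mem_normalizer_diag (hk : F.k = 1) {g : G} (h : g * F.e 13 * g⁻¹ = F.e 13 ∨ g * F.e 13 * g⁻¹ = F.e 26) :
    g ∈ normalizer (F.J : Set G) := by
  rcases h with e | e
  · exact F.cent_diag (mem_centralizer_singleton_iff.2 (mul_inv_eq_iff_eq_mul.1 e))
  · obtain ⟨z, -, hza⟩ := F.exists_neg (hk ▸ (by decide +kernel : inX 1 42))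
    have hz : z * F.e 13 * z⁻¹ = F.e 26 := (hza 13).trans (congrArg F.e (by decide +kernel))
    have hm : z⁻¹ * g ∈ centralizer ({F.e 13} : Set G) := mem_centralizer_singleton_iff.2 (by
      calc z⁻¹ * g * F.e 13 = z⁻¹ * (g * F.e 13 * g⁻¹) * g := by group
        _ = _ := by rw [e, ← hz]; group)
    simpa using mul_mem (F.acts_mem hza) (F.cent_diag hm)

/-- The fused case does not occur. -/
theorem not_fused (hloc : F.Loc3) (hk : F.k = 1) {t : G} (ht : t * t = 1) (hta : F.Acts t 2) {g₀ : G}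
    (hg₀ : F.Acts (g₀ * t * g₀⁻¹) 42) : False := by
  classical
  obtain ⟨N, hN⟩ : ∃ N : Subgroup G, N = normalizer (F.J : Set G) := ⟨_, rfl⟩
  have := Fintype.ofFinite G
  have := Fintype.ofFinite (G ⧸ N)
  have hg₀N : g₀ ∉ N := by
    intro h
    obtain ⟨n, hn', hn⟩ := F.mono g₀ (hN ▸ h)
    obtain ⟨n', hnn'⟩ : ∃ n', mulM n n' = 0 ∧ mulM n' n = 0 :=
      (show ∀ n : Fin 48, ∃ n', mulM n n' = 0 ∧ mulM n' n = 0 by decide +kernel) n
    exact one_facts.2.2.2.2.2.2.2 n n' (hk ▸ hn') hnn'.1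
      (F.acts_unique (F.acts_mul (F.acts_mul hn hta) (F.acts_inv hn hnn'.2)) hg₀)
  let base : G ⧸ N := ((1 : G) : G ⧸ N)
  have hfix : ∀ a h : G, a • (h : G ⧸ N) = h ↔ h⁻¹ * a * h ∈ N := fun a h => by
    rw [MulAction.Quotient.smul_coe, QuotientGroup.eq, smul_eq_mul,
      show (a * h)⁻¹ * h = (h⁻¹ * a * h)⁻¹ by group, inv_mem_iff]
  have hbase : ∀ a : G, a • base = base ↔ a ∈ N := fun a => by rw [hfix, inv_one, one_mul, mul_one]
  let Fx : Finset (G ⧸ N) := Finset.univ.filter fun q => F.e 13 • q = q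
  have hbx : base ∈ Fx := Finset.mem_filter.2 ⟨Finset.mem_univ _, (hbase _).2 (hN ▸ Subgroup.le_normalizer (F.e_mem 13))⟩
  have hg₀fix : ((g₀⁻¹ : G) : G ⧸ N) ∈ Fx := Finset.mem_filter.2 ⟨Finset.mem_univ _, (hfix _ _).2
    (hN ▸ (F.fix_diag hloc hk ht hta (h := g₀⁻¹) (by rwa [inv_inv])).1)⟩
  have hf2 : 2 ≤ Fx.card := Finset.one_lt_card.2 ⟨base, hbx, _, hg₀fix, fun e => hg₀N (by
    have := QuotientGroup.eq.1 e
    rwa [inv_one, one_mul, inv_mem_iff] at this)⟩
  -- at most ten fixed cosets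
  have hNc : Nat.card N = 324 := by rw [hN, F.card_normalizer, hk]; rfl
  have hf10 : Fx.card ≤ 10 := by
    have hC : Nat.card (centralizer ({F.e 13} : Set G)) ≤ 162 := by
      choose f hf using fun c : centralizer ({F.e 13} : Set G) =>
        (show ∃ q : Fin 27 × Fin 6, F.e q.1 * F.s q.2 = c from
          let ⟨v, p, e⟩ := F.cent c (mem_centralizer_singleton_iff.1 c.2); ⟨(v, p), e.symm⟩)
      refine (Nat.card_le_card_of_injective f fun a b h => Subtype.ext (by rw [← hf a, ← hf b, h])).trans ?_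
      simp
    have h1 : Nat.card (QuotientGroup.mk ⁻¹' (Fx : Set (G ⧸ N))) = 324 * Fx.card := by
      rw [Nat.card_congr (QuotientGroup.preimageMkEquivSubgroupProdSet N _), Nat.card_prod, hNc,
        Nat.card_coe_set_eq, Set.ncard_coe_finset]
    have h2 : Nat.card (QuotientGroup.mk ⁻¹' (Fx : Set (G ⧸ N))) ≤
        {u : G | IsConj (F.e 13) u ∧ u ∈ normalizer (F.J : Set G)}.ncard * Nat.card (centralizer ({F.e 13} : Set G)) := by
      rw [← Nat.card_coe_set_eq {u : G | _}, ← Nat.card_prod]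
      let f : (QuotientGroup.mk ⁻¹' (Fx : Set (G ⧸ N))) →
          {u : G | IsConj (F.e 13) u ∧ u ∈ normalizer (F.J : Set G)} := fun g =>
        ⟨(g : G)⁻¹ * F.e 13 * g, isConj_iff.2 ⟨(g : G)⁻¹, by rw [inv_inv]⟩, hN ▸ (hfix _ _).1 (Finset.mem_filter.1 g.2).2⟩
      choose r hr using fun u : {u : G | IsConj (F.e 13) u ∧ u ∈ normalizer (F.J : Set G)} => isConj_iff.1 u.2.1
      refine Nat.card_le_card_of_injective (fun g => (f g, (⟨(g : G) * r (f g), mem_centralizer_singleton_iff.2 ?_⟩ :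
        centralizer ({F.e 13} : Set G)))) fun g g' h => ?_
      · have e : r (f g) * F.e 13 * (r (f g))⁻¹ = (g : G)⁻¹ * F.e 13 * g := hr (f g)
        calc (g : G) * r (f g) * F.e 13 = (g : G) * (r (f g) * F.e 13 * (r (f g))⁻¹) * r (f g) := by group
          _ = _ := by rw [e]; group
      · obtain ⟨h1, h2⟩ := Prod.ext_iff.1 h
        have h3 := congrArg Subtype.val h2
        simp only at h3 h1
        rw [h1] at h3
        exact Subtype.ext (mul_right_cancel h3)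
    have := Nat.mul_le_mul (F.card_conj_diag hk) hC
    omega
  -- conjugates of the transposition moving a coset
  let Cl : Finset G := Finset.univ.filter fun v => IsConj t v
  let M : Finset G := Cl.filter fun v => v ∉ N
  have hindex : 9 * Fintype.card (G ⧸ N) ≤ Cl.card := by
    have h1 := card_class_all (F := F) (t := t)
    rw [F.card_cent_transp hloc ht hta, hk, Subgroup.card_eq_card_quotient_mul_card_subgroup N, hNc,
      Nat.card_eq_fintype_card, show ({u : G | IsConj t u} : Set G) = ↑Cl by ext; simp [Cl], Set.ncard_coe_finset,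
      show centC 1 2 = 4 by decide +kernel] at h1
    omega
  have hMc : Cl.card ≤ M.card + 36 := by
    have h1 := Finset.card_filter_add_card_filter_not (s := Cl) fun v => v ∉ N
    have h2 : (Cl.filter fun v => ¬ v ∉ N).card ≤ 36 := by
      refine le_trans (le_of_eq ?_) (F.card_class_inN hloc hk ht hta)
      rw [show ({u : G | IsConj t u ∧ u ∈ normalizer (F.J : Set G)} : Set G) = ↑(Cl.filter fun v => ¬ v ∉ N) by
        ext; simp [Cl, hN], Set.ncard_coe_finset]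
    change M.card + _ = _ at h1
    omega
  have hsq : ∀ v ∈ M, v * v = 1 ∧ v⁻¹ = v := fun v hv => by
    obtain ⟨c, rfl⟩ := isConj_iff.1 (Finset.mem_filter.1 (Finset.mem_filter.1 hv).1).2
    have e : c * t * c⁻¹ * (c * t * c⁻¹) = 1 := by
      rw [show c * t * c⁻¹ * (c * t * c⁻¹) = c * (t * t) * c⁻¹ by group, ht, mul_one, mul_inv_cancel]
    exact ⟨e, inv_eq_of_mul_eq_one_right e⟩
  have hcap : ∀ q ∈ (Finset.univ.erase base : Finset (G ⧸ N)),
      (M.filter fun v => v • base = q).card ≤ 6 + if q ∈ Fx then 6 else 0 := by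
    intro q hq
    rcases Finset.eq_empty_or_nonempty (M.filter fun v => v • base = q) with he | ⟨x, hx⟩
    · rw [he, Finset.card_empty]; exact Nat.zero_le _
    obtain ⟨hxM, hxq⟩ := Finset.mem_filter.1 hx
    have hxN : x ∉ normalizer (F.J : Set G) := hN ▸ (Finset.mem_filter.1 hxM).2
    have hd : ∀ {y}, y ∈ M.filter (fun v => v • base = q) → x * y ∈ N ∧ x * (x * y) * x = (x * y)⁻¹ := fun {y} hy => by
      obtain ⟨hyM, hyq⟩ := Finset.mem_filter.1 hy
      refine ⟨(hbase _).1 (by rw [mul_smul, hyq, ← hxq, ← mul_smul, (hsq x hxM).1, one_smul]), ?_⟩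
      rw [mul_inv_rev, (hsq x hxM).2, (hsq y hyM).2, ← mul_assoc x x y, (hsq x hxM).1, one_mul]
    let D : Subgroup G := normalizer (F.J : Set G) ⊓ (normalizer (F.J : Set G)).map (MulAut.conj x).toMonoidHom
    have hmemD : ∀ d, d ∈ D → d ∈ normalizer (F.J : Set G) ∧ x * d * x ∈ normalizer (F.J : Set G) := by
      rintro d ⟨h1, a, ha, rfl⟩
      refine ⟨h1, ?_⟩
      show x * (x * a * x⁻¹) * x ∈ normalizer (F.J : Set G)
      rwa [show x * (x * a * x⁻¹) * x = x * x * a by group, (hsq x hxM).1, one_mul]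
    obtain ⟨Y, hY, hY0, hYmul⟩ := F.exists_subgroup_acts D inf_le_left
    have hdD : ∀ {y}, y ∈ M.filter (fun v => v • base = q) → x * y ∈ D := fun {y} hy => by
      obtain ⟨h1, h2⟩ := hd hy
      refine ⟨hN ▸ h1, x * (x * y) * x, ?_, ?_⟩
      · rw [h2]; exact hN ▸ inv_mem h1
      · show x * (x * (x * y) * x) * x⁻¹ = x * y
        rw [show x * (x * (x * y) * x) * x⁻¹ = x * x * (x * y) by group, (hsq x hxM).1, one_mul]
    choose f hf using fun y : ↥(M.filter fun v => v • base = q) => F.mono _ (hdD y.2).1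
    have hfY : ∀ y, f y ∈ Y := fun y => (hY _).2 ⟨_, hdD y.2, (hf y).2⟩
    have hle : (M.filter fun v => v • base = q).card ≤ Y.card := by
      rw [← Nat.card_eq_finsetCard, ← Nat.card_eq_finsetCard]
      refine Nat.card_le_card_of_injective (fun y => (⟨f y, hfY y⟩ : Y)) fun y y' h => ?_
      have he : f y = f y' := congrArg Subtype.val h
      obtain ⟨n, hn⟩ : ∃ n, mulM n (f y) = 0 := (show ∀ y : Fin 48, ∃ y', mulM y' y = 0 by decide +kernel) _
      obtain ⟨d, hdd⟩ : ∃ d, d = x * (y : G) := ⟨_, rfl⟩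
      obtain ⟨d', hdd'⟩ : ∃ d', d' = x * (y' : G) := ⟨_, rfl⟩
      have hi := (hd y.2).2
      have hi' := (hd y'.2).2
      rw [← hdd] at hi
      rw [← hdd'] at hi'
      have hd1 : F.Acts d (f y) := by rw [hdd]; exact (hf y).2
      have hd2 : F.Acts d' (f y) := by rw [hdd', he]; exact (hf y').2
      have hj : d⁻¹ * d' ∈ F.J := F.ker (hn ▸ F.acts_mul (F.acts_inv hd1 hn) hd2)
      by_contra hne
      refine hxN (F.mem_of_conj_J hloc hj (fun e => hne ?_) ?_)
      · have e' : d = d' := inv_mul_eq_one.1 e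
        rw [hdd, hdd'] at e'
        exact Subtype.ext (mul_left_cancel e')
      · have e1 : x * (d⁻¹ * d') * x⁻¹ = d * (d⁻¹ * d')⁻¹ * d⁻¹ := by
          calc x * (d⁻¹ * d') * x⁻¹ = (x * d * x)⁻¹ * (x * d' * x) := by
                rw [show (x * d * x)⁻¹ * (x * d' * x) = x⁻¹ * (d⁻¹ * d') * x by group, (hsq x hxM).2]
            _ = _ := by rw [hi, hi']; group
        rw [e1]
        exact (mem_normalizer_iff.1 (show d ∈ normalizer (F.J : Set G) by rw [hdd, ← hN]; exact (hd y.2).1) _).1 (inv_mem hj)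
    have hXsub : Y ⊆ Finset.univ.filter fun m : Fin 48 => inX 1 m := fun m hm => by
      obtain ⟨d, -, hd⟩ := (hY m).1 hm
      exact Finset.mem_filter.2 ⟨Finset.mem_univ _, hk ▸ F.acts_inX hd⟩
    have hY12 := (Finset.card_le_card hXsub).trans one_facts.2.2.2.2.2.2.1.le
    by_cases hqx : q ∈ Fx
    · rw [if_pos hqx]; omega
    rw [if_neg hqx, add_zero]
    have hY2 : (2 : Fin 48) ∉ Y := by
      intro h2
      obtain ⟨d, hd', hda⟩ := (hY 2).1 h2
      have hdd : d * d ∈ F.J := F.ker (swap_facts.2.1 ▸ F.acts_mul hda hda)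
      have hu : F.Acts (d * (d * d)) 2 := by
        have := F.acts_mul hda (F.acts_J hdd)
        rwa [(m_facts.1 2).2] at this
      have hu2 : d * (d * d) * (d * (d * d)) = 1 := by
        calc d * (d * d) * (d * (d * d)) = d * d * (d * d * (d * d)) := by group
          _ = 1 := F.J_cube hdd
      obtain ⟨j, hj, e⟩ := F.conj_of_acts ht hu2 hta hu
      obtain ⟨h, hhdef⟩ : ∃ h, h = j⁻¹ * x := ⟨_, rfl⟩
      have hh : h⁻¹ * t * h ∈ normalizer (F.J : Set G) := by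
        rw [hhdef, show (j⁻¹ * x)⁻¹ * t * (j⁻¹ * x) = x⁻¹ * (j * t * j⁻¹) * x by group, e, (hsq x hxM).2]
        exact (hmemD _ (mul_mem hd' (mul_mem hd' hd'))).2
      obtain ⟨m, -, hm⟩ := F.mono _ hh
      have hh2 : h⁻¹ * t * h = h⁻¹ * t * h⁻¹⁻¹ := by rw [inv_inv]
      rcases F.class_transp hloc ht hta (g := h⁻¹) (hh2 ▸ hm) with hcj | ⟨rfl, -⟩
      · obtain ⟨k, hk', e'⟩ := F.conj_transp ht hta (by
          rw [show h⁻¹ * t * h * (h⁻¹ * t * h) = h⁻¹ * (t * t) * h by group, ht, mul_one, inv_mul_cancel]) hm hcj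
        have hc : h * k ∈ centralizer ({t} : Set G) := mem_centralizer_singleton_iff.2 (by
          calc h * k * t = h * (k * t * k⁻¹) * k := by group
            _ = _ := by rw [e']; group)
        refine hxN ?_
        have h3 := mul_mem (mul_mem (Subgroup.le_normalizer hj) (F.cent_transp hloc ht hta hc)) (inv_mem hk')
        rwa [hhdef, show j * (j⁻¹ * x * k) * k⁻¹ = x by group] at h3
      · refine hqx (Finset.mem_filter.2 ⟨Finset.mem_univ _, ?_⟩)
        rw [← hxq, MulAction.Quotient.smul_coe, smul_eq_mul, mul_one, hfix, hN]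
        have h3 := (F.fix_diag hloc hk ht hta hm).1
        rwa [hhdef, show (j⁻¹ * x)⁻¹ * F.e 13 * (j⁻¹ * x) = x⁻¹ * (j * F.e 13 * j⁻¹) * x by group,
          F.J_comm hj (F.e_mem 13), mul_inv_cancel_right] at h3
    have hinj : Function.Injective (mulM 2) := fun a b h => by
      have e := congrArg actE h
      rw [actE_mul, actE_mul] at e
      exact actE_inj (mul_left_cancel e)
    have hdis : Disjoint Y (Y.image (mulM 2)) := by
      rw [Finset.disjoint_left]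
      intro z hz hz'
      obtain ⟨y, hy, rfl⟩ := Finset.mem_image.1 hz'
      obtain ⟨d, hd', hda⟩ := (hY y).1 hy
      obtain ⟨y', hy'⟩ : ∃ y', mulM y' y = 0 := (show ∀ y : Fin 48, ∃ y', mulM y' y = 0 by decide +kernel) y
      refine hY2 ?_
      have := hYmul _ hz _ ((hY y').2 ⟨d⁻¹, inv_mem hd', F.acts_inv hda hy'⟩)
      rwa [(show ∀ y y' : Fin 48, mulM y' y = 0 → mulM (mulM 2 y) y' = 2 by decide +kernel) y y' hy'] at this
    have h2Y : Y ∪ Y.image (mulM 2) ⊆ Finset.univ.filter fun m : Fin 48 => inX 1 m := by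
      refine Finset.union_subset hXsub fun m hm => ?_
      obtain ⟨y, hy, rfl⟩ := Finset.mem_image.1 hm
      obtain ⟨d, -, hd'⟩ := (hY y).1 hy
      exact Finset.mem_filter.2 ⟨Finset.mem_univ _, hk ▸ F.acts_inX (F.acts_mul hta hd')⟩
    have h12 := (Finset.card_le_card h2Y).trans one_facts.2.2.2.2.2.2.1.le
    rw [Finset.card_union_of_disjoint hdis, Finset.card_image_of_injective _ hinj] at h12
    omega
  have hMsum : M.card ≤ 6 * (Fintype.card (G ⧸ N) - 1) + 6 * (Fx.card - 1) := by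
    have hmaps : Set.MapsTo (fun v => v • base) (M : Set G) ((Finset.univ.erase base : Finset (G ⧸ N)) : Set (G ⧸ N)) :=
      fun v hv => Finset.mem_coe.2 (Finset.mem_erase.2
        ⟨fun e => (Finset.mem_filter.1 (Finset.mem_coe.1 hv)).2 ((hbase v).1 e), Finset.mem_univ _⟩)
    rw [Finset.card_eq_sum_card_fiberwise hmaps]
    refine (Finset.sum_le_sum hcap).trans (le_of_eq ?_)
    rw [Finset.sum_add_distrib, Finset.sum_const, Finset.card_erase_of_mem (Finset.mem_univ _), Finset.card_univ,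
      smul_eq_mul, ← Finset.sum_filter, Finset.sum_const, smul_eq_mul]
    congr 1
    · ring
    rw [show (Finset.univ.erase base).filter (· ∈ Fx) = Fx.erase base by ext; simp, Finset.card_erase_of_mem hbx]
    ring
  -- every coset is fixed
  have hall : ∀ q : G ⧸ N, q ∈ Fx := by
    by_contra! hex
    obtain ⟨q₀, hq₀⟩ := hex
    obtain ⟨h, rfl⟩ := QuotientGroup.mk_surjective q₀
    have hmov : ∀ v : Fin 27, v ≠ 0 → h⁻¹ * F.e v * h ∉ N := by
      intro v hv hm
      refine hq₀ (Finset.mem_filter.2 ⟨Finset.mem_univ _, (hfix _ _).2 ?_⟩)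
      rw [hN] at hm ⊢
      have e : h⁻¹ * F.e v * h = h⁻¹ * F.e v * h⁻¹⁻¹ := by rw [inv_inv]
      by_cases hJ : h⁻¹ * F.e v * h ∈ F.J
      · have hi := F.mem_of_conj_J hloc (F.e_mem v) (F.e_ne hv) (e ▸ hJ)
        have h' := inv_mem hi
        rw [inv_inv] at h'
        exact mul_mem (mul_mem hi (Subgroup.le_normalizer (F.e_mem 13))) h'
      obtain ⟨m, hm', hma⟩ := F.mono _ hm
      rcases one_facts.2.2.2.1 m (hk ▸ hm') (F.acts_cube (n := 1) hma (by
        rw [pow_one, e, conj_pow, pow_succ', pow_two, F.J_cube (F.e_mem v), mul_one, mul_inv_cancel])) with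
        rfl | ⟨p, hp, rfl⟩
      · exact absurd (F.ker hma) hJ
      have hc13 : Commute (h⁻¹ * F.e v * h) (F.e 13) := by
        have e' := hma 13
        rw [ofP_spec, (one_facts.2.2.2.2.2.1.1 p hp).2, mul_inv_eq_iff_eq_mul] at e'
        exact e'
      have hnf : ¬ NoFix F.k v := fun hn => hJ (by
        rw [e]; exact F.conj_mem_J hloc hv hn (e ▸ hm) (e ▸ hc13))
      rcases one_facts.2.2.1 v hv (hk ▸ hnf) with rfl | rfl
      · exact hm
      · rw [← vec_kinds.2.2.2, F.e_inv] at hm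
        have := inv_mem hm
        rwa [show (h⁻¹ * (F.e 13)⁻¹ * h)⁻¹ = h⁻¹ * F.e 13 * h by group] at this
    let orb : Finset (G ⧸ N) := Finset.univ.image fun v : Fin 27 => F.e v • (h : G ⧸ N)
    have horb : orb.card = 27 := by
      rw [Finset.card_image_of_injective _ fun v w e => ?_, Finset.card_univ, Fintype.card_fin]
      by_contra hne
      refine hmov (ad (ng w) v) ?_ ((hfix _ _).1 ?_)
      · exact fun e' => hne ((show ∀ v w : Fin 27, ad (ng w) v = 0 → v = w by decide +kernel) v w e')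
      · rw [F.e_add, F.e_inv, mul_smul, inv_smul_eq_iff]; exact e
    have hdis : Disjoint Fx orb := by
      rw [Finset.disjoint_left]
      intro q hq hq'
      obtain ⟨v, -, rfl⟩ := Finset.mem_image.1 hq'
      refine hq₀ (Finset.mem_filter.2 ⟨Finset.mem_univ _, ?_⟩)
      have e := (Finset.mem_filter.1 hq).2
      rw [← mul_smul, F.J_comm (F.e_mem 13) (F.e_mem v), mul_smul] at e
      exact (smul_left_cancel_iff _).1 e
    have h27 := Finset.card_le_univ (Fx ∪ orb)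
    rw [Finset.card_union_of_disjoint hdis, horb] at h27
    omega
  -- the core
  have hcore : F.e 13 ∈ N.normalCore := fun b => by
    have := (hfix (F.e 13) b⁻¹).1 (Finset.mem_filter.1 (hall _)).2
    simpa using this
  let T : Subgroup G :=
    { carrier := {g | ∃ p : Fin 6, (p = 0 ∨ p = 3 ∨ p = 4) ∧ F.Acts g (ofP p)}
      one_mem' := ⟨0, Or.inl rfl, m_facts.2.symm ▸ F.acts_one⟩
      mul_mem' := by
        rintro a b ⟨p, hp, ha⟩ ⟨q, hq, hb⟩
        obtain ⟨r, hr, e⟩ : ∃ r : Fin 6, (r = 0 ∨ r = 3 ∨ r = 4) ∧ ofP r = mulM (ofP p) (ofP q) :=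
          (show ∀ p q : Fin 6, (p = 0 ∨ p = 3 ∨ p = 4) → (q = 0 ∨ q = 3 ∨ q = 4) →
            ∃ r : Fin 6, (r = 0 ∨ r = 3 ∨ r = 4) ∧ ofP r = mulM (ofP p) (ofP q) by decide +kernel) p q hp hq
        exact ⟨r, hr, e ▸ F.acts_mul ha hb⟩
      inv_mem' := by
        rintro a ⟨p, hp, ha⟩
        obtain ⟨r, hr, e⟩ : ∃ r : Fin 6, (r = 0 ∨ r = 3 ∨ r = 4) ∧ mulM (ofP r) (ofP p) = 0 :=
          (show ∀ p : Fin 6, (p = 0 ∨ p = 3 ∨ p = 4) →
            ∃ r : Fin 6, (r = 0 ∨ r = 3 ∨ r = 4) ∧ mulM (ofP r) (ofP p) = 0 by decide +kernel) p hp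
        exact ⟨r, hr, F.acts_inv ha e⟩ }
  have hcubeT : ∀ {g}, g ∈ N → g ^ 9 = 1 → g ∈ T := by
    intro g hg h9
    obtain ⟨m, hm', hm⟩ := F.mono g (hN ▸ hg)
    rcases one_facts.2.2.2.1 m (hk ▸ hm') (F.acts_cube (n := 2) hm h9) with rfl | ⟨p, hp, rfl⟩
    · exact ⟨0, Or.inl rfl, m_facts.2.symm ▸ hm⟩
    · exact ⟨p, Or.inr hp, hm⟩
  have hT9 : ∀ {g}, g ∈ T → g ^ 9 = 1 := by
    rintro g ⟨p, hp, hg⟩
    have h3 : mulM (ofP p) (mulM (ofP p) (ofP p)) = 0 :=
      (show ∀ p : Fin 6, (p = 0 ∨ p = 3 ∨ p = 4) → mulM (ofP p) (mulM (ofP p) (ofP p)) = 0 by decide +kernel) p hp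
    have hj : g ^ 3 ∈ F.J := by
      rw [pow_succ', pow_two]
      exact F.ker (h3 ▸ F.acts_mul hg (F.acts_mul hg hg))
    rw [show 9 = 3 * 3 from rfl, pow_mul, pow_succ', pow_two, F.J_cube hj]
  let Q : Subgroup G := N.normalCore ⊓ T
  haveI hQn : Q.Normal := ⟨fun q hq g => by
    have h1 : g * q * g⁻¹ ∈ N.normalCore := (inferInstance : N.normalCore.Normal).conj_mem q hq.1 g
    exact Subgroup.mem_inf.2 ⟨h1, hcubeT (N.normalCore_le h1) (by rw [conj_pow, hT9 hq.2, mul_one, mul_inv_cancel])⟩⟩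
  have hxQ : F.e 13 ∈ Q :=
    Subgroup.mem_inf.2 ⟨hcore, 0, Or.inl rfl, m_facts.2.symm ▸ F.acts_J (F.e_mem 13)⟩
  obtain ⟨hcN, hcJ⟩ := F.fix_diag hloc hk ht hta (h := g₀⁻¹) (by rwa [inv_inv])
  obtain ⟨c, hcdef⟩ : ∃ c, c = g₀⁻¹⁻¹ * F.e 13 * g₀⁻¹ := ⟨_, rfl⟩
  have hcQ : c ∈ Q := by
    have h := hQn.conj_mem _ hxQ g₀
    rwa [hcdef, inv_inv]
  rw [← hcdef] at hcN hcJ
  obtain ⟨q, hq, hcq⟩ := hcQ.2
  have hq34 : q = 3 ∨ q = 4 := by
    rcases hq with rfl | h
    · exact absurd (F.ker (m_facts.2 ▸ hcq)) hcJ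
    · exact h
  have hwd : F.e (ad 1 (ng (actP q 1))) ∈ Q := by
    have h := mul_mem (hQn.conj_mem c hcQ (F.e 1)) (inv_mem hcQ)
    rwa [show F.e 1 * c * (F.e 1)⁻¹ * c⁻¹ = F.e 1 * (c * F.e 1 * c⁻¹)⁻¹ by group, hcq, ofP_spec, ← F.e_inv,
      ← F.e_add] at h
  have hcen : ∀ g ∈ Q, (∀ a ∈ Q, g * a = a * g) → g = 1 ∨ g = F.e 13 ∨ g = F.e 26 := by
    intro g hg hcm
    obtain ⟨w, p, rfl⟩ := F.cent g (hcm _ hxQ)
    obtain ⟨p', hp', hgp⟩ := hg.2
    have hgp2 : F.Acts (F.e w * F.s p) (ofP p) := (m_facts.1 (ofP p)).1 ▸ F.acts_mul (F.acts_J (F.e_mem w)) (F.acts_s p)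
    have hpp : p = p' := Fin.ext (congrArg Fin.val (F.acts_unique hgp2 hgp) :)
    subst hpp
    have e := hgp (ad 1 (ng (actP q 1)))
    rw [hcm _ hwd, mul_inv_cancel_right, ofP_spec] at e
    have hp0 : p = 0 := (one_centre w p hp').1 q hq34 (F.e_inj e).symm
    subst hp0
    rw [F.s_zero, mul_one] at hcm ⊢
    have e2 := hcq w
    rw [← hcm c hcQ, mul_inv_cancel_right, ofP_spec] at e2
    rcases (one_centre w 0 (Or.inl rfl)).2 q hq34 (F.e_inj e2).symm with rfl | rfl | rfl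
    · exact Or.inl F.e_zero
    · exact Or.inr (Or.inl rfl)
    · exact Or.inr (Or.inr rfl)
  refine hg₀N ?_
  have hz : ∀ a ∈ Q, F.e 13 * a = a * F.e 13 := fun a ha => by
    obtain ⟨p, hp, hap⟩ := ha.2
    have e := hap 13
    rw [ofP_spec, actP_facts.2.1, mul_inv_eq_iff_eq_mul] at e
    exact e.symm
  rcases hcen (g₀ * F.e 13 * g₀⁻¹) (hQn.conj_mem _ hxQ g₀) (fun a ha => by
    have := hz (g₀⁻¹ * a * g₀⁻¹⁻¹) (hQn.conj_mem a ha g₀⁻¹)
    calc g₀ * F.e 13 * g₀⁻¹ * a = g₀ * (F.e 13 * (g₀⁻¹ * a * g₀⁻¹⁻¹)) * g₀⁻¹ := by group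
      _ = _ := by rw [this]; group) with e | e | e
  · exact absurd (conj_eq_one_iff.1 e) (F.e_ne (by decide))
  · exact hN ▸ F.mem_normalizer_diag hk (Or.inl e)
  · exact hN ▸ F.mem_normalizer_diag hk (Or.inr e)

/-- If all centralisers normalise the group it is normal. -/
theorem top_of_loc3 (hloc : F.Loc3) : normalizer (F.J : Set G) = ⊤ := by
  obtain ⟨t, ht, hta⟩ := F.exists_transp
  refine F.top_of_class hloc ht hta fun g m hm => ?_
  rcases F.class_transp hloc ht hta hm with h | ⟨rfl, hk⟩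
  · exact h
  · exact (F.not_fused hloc hk ht hta hm).elim

end Frame

end Cfsg.Lib.SymNineLocal
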