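import Cfsg.Agent.LocalThree.SymNineLocal.ClassifyTab

/-!
Vectors of length three over the field with three elements as numbers below `27`, signed permutations,
and linear maps given by the images of the unit vectors.
-/

set_option autoImplicit false
set_option maxRecDepth 8000
set_option synthInstance.maxSize 4000

namespace Cfsg.Lib.SymNineLocal

/-- A coordinate. -/
def dg (v : Fin 27) (i : ℕ) : ℕ := v.val / 3 ^ i % 3

/-- The vector with given coordinates. -/
def mk3 (a b c : ℕ) : Fin 27 :=
  ⟨a % 3 + 3 * (b % 3) + 9 * (c % 3), by omega⟩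

/-- The sum. -/
def ad (v w : Fin 27) : Fin 27 := mk3 (dg v 0 + dg w 0) (dg v 1 + dg w 1) (dg v 2 + dg w 2)

/-- The multiple. -/
def sc (a : ℕ) (v : Fin 27) : Fin 27 := mk3 (a * dg v 0) (a * dg v 1) (a * dg v 2)

/-- The negative. -/
def ng (v : Fin 27) : Fin 27 := sc 2 v

/-- The unit vectors. -/
def un (i : Fin 3) : Fin 27 := ⟨3 ^ i.val, by fin_cases i <;> norm_num⟩

/-- The six permutations in lexicographic order. -/
def pmT : List (List ℕ) := [[0, 1, 2], [0, 2, 1], [1, 0, 2], [1, 2, 0], [2, 0, 1], [2, 1, 0]]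

/-- The image of a place. -/
def pm (p : Fin 6) (i : ℕ) : ℕ := (pmT.getD p.val []).getD i 0

/-- A coordinate permutation. -/
def actP (p : Fin 6) (v : Fin 27) : Fin 27 := mk3 (dg v (pm p 0)) (dg v (pm p 1)) (dg v (pm p 2))

/-- The sign at a place. -/
def sgn (m : Fin 48) (i : ℕ) : ℕ := if m.val / 6 / 2 ^ i % 2 = 0 then 1 else 2

/-- The permutation part. -/
def prm (m : Fin 48) : Fin 6 := ⟨m.val % 6, by omega⟩

/-- A signed permutation. -/
def actM (m : Fin 48) (v : Fin 27) : Fin 27 :=
  mk3 (sgn m 0 * dg v (pm (prm m) 0)) (sgn m 1 * dg v (pm (prm m) 1)) (sgn m 2 * dg v (pm (prm m) 2))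

/-- The shear along the diagonal. -/
def sh (b : Fin 3) (v : Fin 27) : Fin 27 := ad v (sc (b.val * (dg v 0 + dg v 1 + dg v 2)) 13)

/-- The inverse shear. -/
def hs (b : Fin 3) (v : Fin 27) : Fin 27 := sh ⟨(3 - b.val) % 3, by omega⟩ v

/-- A unit vector up to sign. -/
def wOne (v : Fin 27) : Prop := v ∈ ([1, 2, 3, 6, 9, 18] : List (Fin 27))

instance : DecidablePred wOne := fun v => inferInstanceAs (Decidable (v ∈ _))

/-- Monomial after shearing. -/
def GoodAt (f : Fin 27 → Fin 27) (b : Fin 3) : Prop := ∀ i : Fin 3, wOne (hs b (f (sh b (un i))))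

instance (f : Fin 27 → Fin 27) : DecidablePred (GoodAt f) := fun _ => inferInstanceAs (Decidable (∀ _, _))

/-- Monomial after some shearing. -/
def Good (f : Fin 27 → Fin 27) : Prop := ∃ b : Fin 3, GoodAt f b

instance (f : Fin 27 → Fin 27) : Decidable (Good f) := inferInstanceAs (Decidable (∃ _, _))

/-- The linear map with given images of the unit vectors. -/
def appL (a b c : Fin 27) (v : Fin 27) : Fin 27 := ad (ad (sc (dg v 0) a) (sc (dg v 1) b)) (sc (dg v 2) c)

/-- A word in the permutations and a map. -/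
def evalW (h : Fin 27 → Fin 27) : List (Fin 6) → Fin 27 → Fin 27
  | [], v => v
  | p :: l, v => actP p (h (evalW h l v))

/-- The word number of a candidate. -/
def code (r : ℕ) (a b : Fin 27) : ℕ := ((certTab.getD r []).getD a.val 0) / 64 ^ b.val % 64

/-- A word which gives a map fixing the diagonal and no permutation. -/
def WordOK (h : Fin 27 → Fin 27) (k : ℕ) : Prop :=
  evalW h (words.getD k []) 13 = 13 ∧
    ∃ i : Fin 3, evalW h (words.getD k []) (un i) ∉ ([1, 3, 9] : List (Fin 27))

instance (h : Fin 27 → Fin 27) (k : ℕ) : Decidable (WordOK h k) := inferInstanceAs (Decidable (_ ∧ _))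

/-- The third column. -/
def third (r a b : Fin 27) : Fin 27 := ad r (ng (ad a b))

/-- The candidates of one orbit. -/
def CheckAt (n : ℕ) : Prop :=
  ∀ a b : Fin 27, a.val < b.val → b.val < (third (reps.getD n 0) a b).val →
    (∀ v : Fin 27, v ≠ 0 → appL a b (third (reps.getD n 0) a b) v ≠ 0) →
      Good (appL a b (third (reps.getD n 0) a b)) ∨ WordOK (appL a b (third (reps.getD n 0) a b)) (code n a b)

instance (n : ℕ) : Decidable (CheckAt n) := inferInstanceAs (Decidable (∀ _, _))

theorem check0 : CheckAt 0 := by decide +kernel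
theorem check1 : CheckAt 1 := by decide +kernel
theorem check2 : CheckAt 2 := by decide +kernel
theorem check3 : CheckAt 3 := by decide +kernel
theorem check4 : CheckAt 4 := by decide +kernel
theorem check5 : CheckAt 5 := by decide +kernel
theorem check6 : CheckAt 6 := by decide +kernel
theorem check7 : CheckAt 7 := by decide +kernel
theorem check8 : CheckAt 8 := by decide +kernel

theorem checkAll : ∀ n < 9, CheckAt n := by
  intro n hn
  interval_cases n
  exacts [check0, check1, check2, check3, check4, check5, check6, check7, check8]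

/-- A monomial map after shearing. -/
def sheared (b : Fin 3) (m : Fin 48) (v : Fin 27) : Fin 27 := sh b (actM m (hs b v))

/-- The alternative for one shear. -/
def CommonAt (b : Fin 3) : Prop := ∀ b' : Fin 3, ∀ m m' : Fin 48,
    (∃ c, GoodAt (sheared b m) c ∧ GoodAt (sheared b' m') c) ∨
      ¬ Good (fun v => sheared b m (sheared b' m' v))

instance (b : Fin 3) : Decidable (CommonAt b) := inferInstanceAs (Decidable (∀ _, _))

theorem common0 : CommonAt 0 := by decide +kernel
theorem common1 : CommonAt 1 := by decide +kernel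
theorem common2 : CommonAt 2 := by decide +kernel

theorem good_common : ∀ b b' : Fin 3, ∀ m m' : Fin 48,
    (∃ c, GoodAt (sheared b m) c ∧ GoodAt (sheared b' m') c) ∨
      ¬ Good (fun v => sheared b m (sheared b' m' v)) := by
  intro b
  fin_cases b
  exacts [common0, common1, common2]

theorem good_single : ∀ b : Fin 3, ∀ m : Fin 48, ∀ c : Fin 3,
    GoodAt (sheared b m) c → c ≠ b → ∀ d : Fin 3, GoodAt (sheared b m) d := by decide +kernel

theorem monomial_of : ∀ a b c : Fin 27, wOne a → wOne b → wOne c → (∀ v, v ≠ 0 → appL a b c v ≠ 0) →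
    ∃ m : Fin 48, actM m 1 = a ∧ actM m 3 = b ∧ actM m 9 = c := by
  have key : ∀ a ∈ ([1, 2, 3, 6, 9, 18] : List (Fin 27)), ∀ b ∈ ([1, 2, 3, 6, 9, 18] : List (Fin 27)),
      ∀ c ∈ ([1, 2, 3, 6, 9, 18] : List (Fin 27)), (∀ v, v ≠ 0 → appL a b c v ≠ 0) →
        ∃ m : Fin 48, actM m 1 = a ∧ actM m 3 = b ∧ actM m 9 = c := by decide +kernel
  exact fun a b c ha hb hc => key a ha b hb c hc

theorem ad_zero : ∀ v, ad v 0 = v ∧ ad 0 v = v ∧ ad v (ng v) = 0 ∧ ad (ng v) v = 0 ∧ sc 1 v = v ∧ sc 0 v = 0 ∧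
    ad v v = sc 2 v := by decide +kernel

theorem ad_assoc : ∀ u v w, ad (ad u v) w = ad u (ad v w) := by decide +kernel

theorem split_units : ∀ v, v = ad (ad (sc (dg v 0) 1) (sc (dg v 1) 3)) (sc (dg v 2) 9) := by decide +kernel

theorem sh_inv : ∀ b v, sh b (hs b v) = v ∧ hs b (sh b v) = v := by decide +kernel

theorem sh_add : ∀ b v w, sh b (ad v w) = ad (sh b v) (sh b w) := by decide +kernel

theorem actM_add : ∀ m v w, actM m (ad v w) = ad (actM m v) (actM m w) := by decide +kernel

theorem actP_facts : (∀ p v w, actP p (ad v w) = ad (actP p v) (actP p w)) ∧ (∀ p, actP p 13 = 13) ∧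
    (∀ p b v, actP p (sh b v) = sh b (actP p v)) ∧ (∀ p b v, actP p (hs b v) = hs b (actP p v)) ∧
    (∀ p i, ∃ j, actP p (un i) = un j) ∧ (∀ p : Fin 6, ∃ q, ∀ v, actP q (actP p v) = v ∧ actP p (actP q v) = v) ∧
    ∀ p v, wOne (actP p v) → wOne v := by decide +kernel

theorem rep_orbit : ∀ v : Fin 27, v ≠ 0 → ∃ p : Fin 6, actP p v ∈ reps := by decide +kernel

theorem reps_idx : ∀ v ∈ reps, ∃ n, n < 9 ∧ reps.getD n 0 = v := by decide +kernel

theorem units_sum : ∀ p : Fin 6, ad (ad (actP p 1) (actP p 3)) (actP p 9) = 13 ∧ ad (ad (1 : Fin 27) 3) 9 = 13 := by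
  decide +kernel

end Cfsg.Lib.SymNineLocal
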