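import Cfsg.Agent.LocalThree.SymNineLocal.Transp
import Cfsg.Agent.LocalThree.SymNineLocal.SixIso
import Mathlib.GroupTheory.Transfer

/-!
The splitting of the centraliser of a unit vector when it is an extension of the symmetric group of
degree six.
-/

set_option autoImplicit false
set_option linter.unusedSectionVars false
set_option maxRecDepth 8000
set_option synthInstance.maxSize 4000

namespace Cfsg.Lib.SymNineLocal

open Subgroup Equiv
open scoped Pointwise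

universe u

/-- The first coordinate. -/
def dz (v : Fin 27) : Multiplicative (ZMod 3) := Multiplicative.ofAdd (dg v 0 : ZMod 3)

theorem dz_facts : (∀ v w, dz (ad v w) = dz v * dz w) ∧ dz 1 ≠ 1 ∧ dz 0 = 1 ∧
    (∀ a : Multiplicative (ZMod 3), a = a⁻¹ → a = 1) ∧ (∀ a : Multiplicative (ZMod 3), a * a = 1 → a = 1) ∧
    (∀ a : Multiplicative (ZMod 3), a = 1 ∨ a = dz 1 ^ 80 ∨ a = dz 1 ^ 80 * dz 1 ^ 80) := by decide +kernel

theorem dz_order : (dz 1 ^ 80) ^ 3 = 1 ∧ dz 1 ^ 80 ≠ 1 := by decide +kernel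

theorem unit_codes : (actM 12 3 = ng 3 ∧ actM 12 9 = 9 ∧ actM 12 1 = 1 ∧ mulM 12 12 = 0) ∧
    (actM 1 1 = 1 ∧ actM 1 3 = 9 ∧ mulM 1 1 = 0) ∧ (actM 24 1 = 1 ∧ mulM (mulM 1 12) 1 = 24) ∧
    (actM 6 1 = ng 1 ∧ actM 6 3 = 3 ∧ actM 6 9 = 9 ∧ mulM 6 12 = mulM 12 6 ∧ mulM 6 1 = mulM 1 6 ∧ mulM 6 6 = 0) ∧
    ((9 : Fin 27) ≠ 3 ∧ (9 : Fin 27) ≠ ad 3 3) := by decide +kernel

/-- The data of the case. -/
structure Six {G : Type u} [Group G] (F : Frame G) where
  hk : F.k = 3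
  z : G
  hza : F.Acts z 42
  σ : Fin 48 → G
  σ_spec : ∀ m, F.Acts (σ m) m ∧ Commute (σ m) z
  σ_uniq : ∀ {g m}, F.Acts g m → Commute g z → g = σ m
  σ_mul : ∀ m n, σ (mulM m n) = σ m * σ n
  ψ : Perm (Fin 6) →* G
  ψ_inj : Function.Injective ψ
  ψ_cent : ∀ h, Commute (ψ h) (F.e 1)
  split : ∀ g, Commute g (F.e 1) → ∃ v ∈ ([0, 1, 2] : List (Fin 27)), ∃ h, g = F.e v * ψ h
  ψ_ca : ψ ca = F.e 3
  ψ_cb : ψ cb = F.e 9
  ψ_u : ψ (swap 0 1) = σ 12
  ψ_w : ψ bw = σ 1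

namespace Frame

variable {G : Type u} [Group G] [Finite G] (F : Frame G)

include F

theorem exists_six (hk : F.k = 3)
    (hn : ((zpowers (F.e 1)).subgroupOf (centralizer ({F.e 1} : Set G))).Normal)
    (hq : Nonempty (centralizer ({F.e 1} : Set G) ⧸ (zpowers (F.e 1)).subgroupOf (centralizer ({F.e 1} : Set G)) ≃*
        Perm (Fin 6))) : Nonempty (Six F) := by
  obtain ⟨e6⟩ := hq
  have hall : ∀ m : Fin 48, inX F.k m := fun m => hk ▸ inX_all m
  obtain ⟨z, hzz, hza⟩ := F.exists_neg (hall 42)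
  obtain ⟨σ, hσ, hσu, hσm⟩ := F.exists_section hzz hza
  have hσ' : ∀ m, F.Acts (σ m) m ∧ Commute (σ m) z := fun m => hσ m (hall m)
  have hσm' : ∀ m n, σ (mulM m n) = σ m * σ n := fun m n => hσm m n (hall m) (hall n)
  have hσ0 : σ 0 = 1 := (hσu F.acts_one (Commute.one_left z)).symm
  have : Fact (Nat.Prime 3) := ⟨Nat.prime_three⟩
  obtain ⟨C, hC⟩ : ∃ C : Subgroup G, C = centralizer ({F.e 1} : Set G) := ⟨_, rfl⟩
  obtain ⟨Z, hZ⟩ : ∃ Z : Subgroup C, Z = (zpowers (F.e 1)).subgroupOf C := ⟨_, rfl⟩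
  subst hC
  subst hZ
  have hJC : F.J ≤ centralizer ({F.e 1} : Set G) := fun a ha =>
    mem_centralizer_singleton_iff.2 (F.J_comm ha (F.e_mem 1))
  have hZJ : zpowers (F.e 1) ≤ F.J := zpowers_le.2 (F.e_mem 1)
  have ho : orderOf (F.e 1) = 3 := orderOf_eq_prime (by rw [pow_succ', pow_two, F.J_cube (F.e_mem 1)]) (F.e_ne (by decide))
  have hcardC : Nat.card (centralizer ({F.e 1} : Set G)) = 2160 := by
    rw [Subgroup.card_eq_card_quotient_mul_card_subgroup ((zpowers (F.e 1)).subgroupOf (centralizer ({F.e 1} : Set G))),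
      Nat.card_congr e6.toEquiv, Nat.card_congr (subgroupOfEquivOfLe (hZJ.trans hJC)).toEquiv, Nat.card_zpowers, ho,
      Nat.card_perm, Nat.card_fin]
    rfl
  -- the transfer to the first coordinate
  choose v hv using fun j : F.J.subgroupOf (centralizer ({F.e 1} : Set G)) => (F.memJ _).1 (mem_subgroupOf.1 j.2)
  let φ : F.J.subgroupOf (centralizer ({F.e 1} : Set G)) →* Multiplicative (ZMod 3) :=
    MonoidHom.mk' (fun j => dz (v j)) fun a b => by
      rw [← dz_facts.1]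
      exact congrArg dz (F.e_inj (by rw [F.e_add, hv, hv, hv]; rfl))
  let f : centralizer ({F.e 1} : Set G) →* Multiplicative (ZMod 3) := MonoidHom.transfer φ
  have he : F.e 1 ∈ centralizer ({F.e 1} : Set G) := hJC (F.e_mem 1)
  have hfe : f ⟨F.e 1, he⟩ = dz 1 ^ 80 := by
    have hidx : (F.J.subgroupOf (centralizer ({F.e 1} : Set G))).index = 80 := by
      have := (F.J.subgroupOf (centralizer ({F.e 1} : Set G))).card_mul_index
      rw [Nat.card_congr (subgroupOfEquivOfLe hJC).toEquiv, F.card_J, hcardC] at this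
      omega
    have key : ∀ (k : ℕ) (g₀ : centralizer ({F.e 1} : Set G)),
        g₀⁻¹ * (⟨F.e 1, he⟩ : centralizer ({F.e 1} : Set G)) ^ k * g₀ ∈ F.J.subgroupOf (centralizer ({F.e 1} : Set G)) →
        g₀⁻¹ * (⟨F.e 1, he⟩ : centralizer ({F.e 1} : Set G)) ^ k * g₀ = (⟨F.e 1, he⟩ : centralizer ({F.e 1} : Set G)) ^ k := by
      intro k g₀ _
      refine Subtype.ext ?_
      push_cast
      rw [mul_assoc, ← ((show Commute (g₀ : G) (F.e 1) from mem_centralizer_singleton_iff.1 g₀.2).pow_right k).eq,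
        inv_mul_cancel_left]
    have hmem : (⟨F.e 1, he⟩ : centralizer ({F.e 1} : Set G)) ∈ F.J.subgroupOf (centralizer ({F.e 1} : Set G)) :=
      mem_subgroupOf.2 (F.e_mem 1)
    show MonoidHom.transfer φ _ = _
    rw [MonoidHom.transfer_eq_pow φ _ key]
    conv_lhs => arg 2; rw [show (⟨(⟨F.e 1, he⟩ : centralizer ({F.e 1} : Set G)) ^
        (F.J.subgroupOf (centralizer ({F.e 1} : Set G))).index, _⟩ :
          F.J.subgroupOf (centralizer ({F.e 1} : Set G))) = ⟨_, hmem⟩ ^ 80 from Subtype.ext ((congrArg (fun n => (⟨F.e 1, he⟩ : centralizer ({F.e 1} : Set G)) ^ n) hidx).trans rfl)]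
    rw [map_pow]
    exact congrArg (· ^ 80) (congrArg dz (F.e_inj (hv ⟨_, hmem⟩)))
  have hmap : Function.Bijective ((QuotientGroup.mk' ((zpowers (F.e 1)).subgroupOf (centralizer ({F.e 1} : Set G)))).comp
      f.ker.subtype) := by
    constructor
    · rw [injective_iff_map_eq_one]
      intro h hh
      obtain ⟨i, hi⟩ := mem_subgroupOf.1 ((QuotientGroup.eq_one_iff _).1 hh)
      have hi' : (⟨F.e 1, he⟩ : centralizer ({F.e 1} : Set G)) ^ i = (h : centralizer ({F.e 1} : Set G)) :=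
        Subtype.ext (by simpa using hi)
      have hf0 : f (h : centralizer ({F.e 1} : Set G)) = 1 := h.2
      rw [← hi', map_zpow, hfe] at hf0
      have : orderOf (dz 1 ^ 80) = 3 := orderOf_eq_prime dz_order.1 dz_order.2
      have h3 := orderOf_dvd_iff_zpow_eq_one.2 hf0
      rw [this] at h3
      obtain ⟨r, rfl⟩ := h3
      refine Subtype.ext ?_
      rw [← hi', zpow_mul, show (⟨F.e 1, he⟩ : centralizer ({F.e 1} : Set G)) ^ ((3 : ℕ) : ℤ) = 1 from Subtype.ext (by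
        rw [zpow_natCast, SubmonoidClass.coe_pow, Subgroup.coe_one]
        exact orderOf_dvd_iff_pow_eq_one.1 (by rw [ho])), one_zpow]
      rfl
    · intro q
      obtain ⟨c, rfl⟩ := QuotientGroup.mk_surjective q
      obtain ⟨i, hi⟩ : ∃ i : ℕ, f c = f (⟨F.e 1, he⟩ ^ i) := by
        simp only [map_pow, hfe]
        rcases dz_facts.2.2.2.2.2 (f c) with e | e | e
        · exact ⟨0, by rw [e, pow_zero]⟩
        · exact ⟨1, by rw [e, pow_one]⟩
        · exact ⟨2, by rw [e, pow_two]⟩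
      refine ⟨⟨c * ((⟨F.e 1, he⟩ : centralizer ({F.e 1} : Set G)) ^ i)⁻¹, MonoidHom.mem_ker.2 (by
        rw [map_mul, map_inv, hi, mul_inv_cancel])⟩, ?_⟩
      refine QuotientGroup.eq.2 (mem_subgroupOf.2 ?_)
      show ((c * ((⟨F.e 1, he⟩ : centralizer ({F.e 1} : Set G)) ^ i)⁻¹)⁻¹ * c : centralizer ({F.e 1} : Set G)).1 ∈ _
      rw [mul_inv_rev, inv_inv, inv_mul_cancel_right]
      push_cast
      exact pow_mem (mem_zpowers _) i
  let eH : f.ker ≃* Perm (Fin 6) := (MulEquiv.ofBijective _ hmap).trans e6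
  -- the frame
  have hconj : ∀ a c : centralizer ({F.e 1} : Set G), c * a * c⁻¹ = a⁻¹ → f a = 1 := fun a c h => by
    refine dz_facts.2.2.2.1 _ ?_
    rw [← map_inv, ← h, map_mul, map_mul, map_inv, mul_comm (f c), mul_inv_cancel_right]
  have hinv : ∀ a : centralizer ({F.e 1} : Set G), a * a = 1 → f a = 1 := fun a h =>
    dz_facts.2.2.2.2.1 _ (by rw [← map_mul, h, map_one])
  have hsq : ∀ m, mulM m m = 0 → σ m * σ m = 1 := fun m h => by rw [← hσm', h, hσ0]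
  have hσC : ∀ m, actM m 1 = 1 → σ m ∈ centralizer ({F.e 1} : Set G) := fun m h => mem_centralizer_singleton_iff.2 (by
    have e := (hσ' m).1 1
    rwa [h, mul_inv_eq_iff_eq_mul] at e)
  obtain ⟨⟨u1, u2, u3, u4⟩, ⟨w1, w2, w3⟩, -, -, n1, n2⟩ := unit_codes
  let U : centralizer ({F.e 1} : Set G) := ⟨σ 12, hσC 12 u3⟩
  let W : centralizer ({F.e 1} : Set G) := ⟨σ 1, hσC 1 w1⟩
  let A : centralizer ({F.e 1} : Set G) := ⟨F.e 3, hJC (F.e_mem 3)⟩
  let B : centralizer ({F.e 1} : Set G) := ⟨F.e 9, hJC (F.e_mem 9)⟩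
  have hU : U ∈ f.ker := hinv U (Subtype.ext (hsq 12 u4))
  have hW : W ∈ f.ker := hinv W (Subtype.ext (hsq 1 w3))
  have hUA : U * A * U⁻¹ = A⁻¹ := Subtype.ext (by
    show σ 12 * F.e 3 * (σ 12)⁻¹ = (F.e 3)⁻¹
    rw [(hσ' 12).1, u1, F.e_inv])
  have hWA : W * A * W⁻¹ = B := Subtype.ext (by
    show σ 1 * F.e 3 * (σ 1)⁻¹ = F.e 9
    rw [(hσ' 1).1, w2])
  have hA : A ∈ f.ker := hconj A U hUA
  have hB : B ∈ f.ker := hWA ▸ mul_mem (mul_mem hW hA) (inv_mem hW)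
  obtain ⟨Φ, k1, k2, k3, k4⟩ := exists_iso eH ⟨A, hA⟩ ⟨B, hB⟩ ⟨U, hU⟩ ⟨W, hW⟩
    (Subtype.ext (Subtype.ext (F.J_cube (F.e_mem 3))))
    (fun h => F.e_ne (by decide : (3 : Fin 27) ≠ 0) (congrArg (fun x : f.ker => ((x : centralizer ({F.e 1} : Set G)) : G)) h))
    (Subtype.ext (Subtype.ext (F.J_cube (F.e_mem 9))))
    (fun h => F.e_ne (by decide : (9 : Fin 27) ≠ 0) (congrArg (fun x : f.ker => ((x : centralizer ({F.e 1} : Set G)) : G)) h))
    (fun h => n1 (F.e_inj (congrArg (fun x : f.ker => ((x : centralizer ({F.e 1} : Set G)) : G)) h)))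
    (fun h => n2 (F.e_inj ((congrArg (fun x : f.ker => ((x : centralizer ({F.e 1} : Set G)) : G)) h).trans
      (F.e_add 3 3).symm)))
    (Subtype.ext (Subtype.ext (F.J_comm (F.e_mem 3) (F.e_mem 9))))
    (Subtype.ext (Subtype.ext (hsq 12 u4))) (Subtype.ext hUA)
    (Subtype.ext (Subtype.ext (show σ 12 * F.e 9 * (σ 12)⁻¹ = F.e 9 by rw [(hσ' 12).1, u2])))
    (Subtype.ext (Subtype.ext (hsq 1 w3))) (Subtype.ext hWA)
  refine ⟨{ hk := hk, z := z, hza := hza, σ := σ, σ_spec := hσ'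
            σ_uniq := hσu, σ_mul := hσm'
            ψ := ((centralizer ({F.e 1} : Set G)).subtype.comp f.ker.subtype).comp Φ.toMonoidHom
            ψ_inj := ((Subgroup.subtype_injective _).comp (Subgroup.subtype_injective _)).comp Φ.injective
            ψ_cent := fun h => mem_centralizer_singleton_iff.1 ((Φ h : f.ker) : centralizer ({F.e 1} : Set G)).2
            split := fun g hg => ?_
            ψ_ca := congrArg (fun x : f.ker => ((x : centralizer ({F.e 1} : Set G)) : G)) k1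
            ψ_cb := congrArg (fun x : f.ker => ((x : centralizer ({F.e 1} : Set G)) : G)) k2
            ψ_u := congrArg (fun x : f.ker => ((x : centralizer ({F.e 1} : Set G)) : G)) k3
            ψ_w := congrArg (fun x : f.ker => ((x : centralizer ({F.e 1} : Set G)) : G)) k4 }⟩
  obtain ⟨h, hh⟩ := hmap.2 ((⟨g, mem_centralizer_singleton_iff.2 hg.eq⟩ : centralizer ({F.e 1} : Set G)) : _ ⧸ _)
  have hmem := mem_subgroupOf.1 (QuotientGroup.eq.1 hh)
  push_cast at hmem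
  obtain ⟨L, hL, hLm, -⟩ := F.exists_span 1 0
  obtain ⟨a, ha, hae⟩ := (hLm _).1 ((zpowers_le.2 ((hLm _).2 ⟨1, (span2_facts.2.2 1 0).1, rfl⟩)) hmem)
  refine ⟨a, (show ∀ a ∈ span2 1 0, a ∈ ([0, 1, 2] : List (Fin 27)) by decide +kernel) a ha, Φ.symm h, ?_⟩
  show g = F.e a * ((Φ (Φ.symm h) : centralizer ({F.e 1} : Set G)) : G)
  rw [Φ.apply_symm_apply]
  have hc : Commute ((h : centralizer ({F.e 1} : Set G)) : G) (F.e a) := by
    obtain ⟨i, hi⟩ := hmem
    have e : F.e a = F.e 1 ^ i := hae.trans hi.symm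
    exact e ▸ ((show Commute ((h : centralizer ({F.e 1} : Set G)) : G) (F.e 1) from
      mem_centralizer_singleton_iff.1 (h : centralizer ({F.e 1} : Set G)).2).zpow_right i)
  rw [← hc.eq, hae]
  exact (mul_inv_cancel_left _ _).symm

end Frame

namespace Six

variable {G : Type u} [Group G] [Finite G] {F : Frame G} (S : Six F)

include S

/-- The flip of the first coordinate. -/
abbrev s : G := S.σ 6

theorem hall (m : Fin 48) : inX F.k m := S.hk ▸ inX_all m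

theorem σ_zero : S.σ 0 = 1 := (S.σ_uniq F.acts_one (Commute.one_left _)).symm

theorem s_sq : S.s * S.s = 1 := by rw [s, ← S.σ_mul, unit_codes.2.2.2.1.2.2.2.2.2, S.σ_zero]

theorem s_e1 : S.s * F.e 1 * S.s⁻¹ = (F.e 1)⁻¹ := by
  rw [(S.σ_spec 6).1, unit_codes.2.2.2.1.1, F.e_inv]

theorem split_unique {v w : Fin 27} (hv : v ∈ ([0, 1, 2] : List (Fin 27))) (hw : w ∈ ([0, 1, 2] : List (Fin 27)))
    {h k : Perm (Fin 6)} (e : F.e v * S.ψ h = F.e w * S.ψ k) : v = w ∧ h = k := by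
  obtain ⟨u, hu, huvw⟩ : ∃ u ∈ ([0, 1, 2] : List (Fin 27)), u = ad (ng w) v :=
    (show ∀ v ∈ ([0, 1, 2] : List (Fin 27)), ∀ w ∈ ([0, 1, 2] : List (Fin 27)),
      ∃ u ∈ ([0, 1, 2] : List (Fin 27)), u = ad (ng w) v by decide +kernel) v hv w hw
  have e' : F.e u = S.ψ (k * h⁻¹) := by
    rw [huvw, F.e_add, F.e_inv, map_mul, map_inv, eq_mul_inv_iff_mul_eq, mul_assoc, e, inv_mul_cancel_left]
  have hcen : ∀ x, (k * h⁻¹) * x = x * (k * h⁻¹) := fun x => S.ψ_inj (by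
    rw [map_mul S.ψ (k * h⁻¹) x, map_mul S.ψ x, ← e']
    rcases (show ∀ u ∈ ([0, 1, 2] : List (Fin 27)), u = 0 ∨ u = 1 ∨ u = ad 1 1 by decide +kernel) u hu with
      rfl | rfl | rfl
    · rw [F.e_zero, one_mul, mul_one]
    · exact (S.ψ_cent x).symm.eq
    · rw [F.e_add]
      exact ((S.ψ_cent x).mul_right (S.ψ_cent x)).symm.eq)
  have hk : k * h⁻¹ = 1 := by
    have key : ∀ x : Perm (Fin 6), x * swap 0 1 = swap 0 1 * x → x * bw = bw * x → x * ca = ca * x →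
        x * cb = cb * x → x = 1 := by decide +kernel
    exact key _ (hcen _) (hcen _) (hcen _) (hcen _)
  rw [hk, map_one, ← F.e_zero] at e'
  have hu0 := F.e_inj e'
  refine ⟨(show ∀ v w : Fin 27, ad (ng w) v = 0 → v = w by decide +kernel) v w (huvw ▸ hu0), (mul_inv_eq_one.1 hk).symm⟩

theorem s_comm (h : Perm (Fin 6)) : Commute S.s (S.ψ h) := by
  have hconjC : ∀ h, Commute (S.s * S.ψ h * S.s⁻¹) (F.e 1) := fun h => by
    have e := SemiconjBy.conj_iff (a := S.ψ h) (x := (F.e 1)⁻¹) (y := (F.e 1)⁻¹) (b := S.s)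
    have e1 : Commute (S.s * S.ψ h * S.s⁻¹) (S.s * (F.e 1)⁻¹ * S.s⁻¹) := e.2 (S.ψ_cent h).inv_right
    rwa [show S.s * (F.e 1)⁻¹ * S.s⁻¹ = (S.s * F.e 1 * S.s⁻¹)⁻¹ by group, S.s_e1, inv_inv] at e1
  choose v hv k hk using fun h => S.split _ (hconjC h)
  have hmul : ∀ a b, v (a * b) = ad (v a) (v b) ∧ k (a * b) = k a * k b := fun a b => by
    refine S.split_unique (hv _)
      ((show ∀ v ∈ ([0, 1, 2] : List (Fin 27)), ∀ w ∈ ([0, 1, 2] : List (Fin 27)),
        ad v w ∈ ([0, 1, 2] : List (Fin 27)) by decide +kernel) _ (hv a) _ (hv b)) ?_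
    have hc : Commute (S.ψ (k a)) (F.e (v b)) := by
      rcases (show ∀ u ∈ ([0, 1, 2] : List (Fin 27)), u = 0 ∨ u = 1 ∨ u = ad 1 1 by decide +kernel) _ (hv b) with
        e | e | e <;> rw [e]
      · rw [F.e_zero]; exact Commute.one_right _
      · exact S.ψ_cent _
      · rw [F.e_add]; exact (S.ψ_cent _).mul_right (S.ψ_cent _)
    rw [← hk, map_mul, F.e_add, map_mul,
      show F.e (v a) * F.e (v b) * (S.ψ (k a) * S.ψ (k b)) = F.e (v a) * (F.e (v b) * S.ψ (k a)) * S.ψ (k b) by group,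
      ← hc.eq, show F.e (v a) * (S.ψ (k a) * F.e (v b)) * S.ψ (k b) = F.e (v a) * S.ψ (k a) * (F.e (v b) * S.ψ (k b)) by group,
      ← hk, ← hk]
    group
  have hv0 : ∀ a, v a = 0 := by
    intro a
    induction a using Equiv.Perm.swap_induction_on with
    | one =>
      have e := (hmul 1 1).1
      rw [mul_one] at e
      exact (show ∀ x : Fin 27, x = ad x x → x = 0 by decide +kernel) _ e
    | swap_mul f x y hxy ih =>
      have e := (hmul (swap x y) (swap x y)).1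
      rw [Equiv.swap_mul_self] at e
      have h1 : v 1 = 0 := by
        have e' := (hmul 1 1).1
        rw [mul_one] at e'
        exact (show ∀ x : Fin 27, x = ad x x → x = 0 by decide +kernel) _ e'
      rw [h1] at e
      rw [(hmul _ _).1, ih, (show ∀ x : Fin 27, 0 = ad x x → x = 0 by decide +kernel) _ e]
      rfl
  let α : Perm (Fin 6) →* Perm (Fin 6) := MonoidHom.mk' k fun a b => (hmul a b).2
  have hα : ∀ a, S.s * S.ψ a * S.s⁻¹ = S.ψ (α a) := fun a => by rw [hk a, hv0, F.e_zero, one_mul]; rfl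
  have hσs : ∀ m, mulM 6 m = mulM m 6 → S.s * S.σ m * S.s⁻¹ = S.σ m := fun m h => by
    rw [s, ← S.σ_mul, h, S.σ_mul, mul_inv_cancel_right]
  obtain ⟨-, -, -, ⟨-, c3, c9, c12, c1, -⟩, -⟩ := unit_codes
  have hfix := aut_trivial α
    (S.ψ_inj (by rw [← hα, S.ψ_ca, (S.σ_spec 6).1, c3]))
    (S.ψ_inj (by rw [← hα, S.ψ_cb, (S.σ_spec 6).1, c9]))
    (S.ψ_inj (by rw [← hα, S.ψ_u, hσs 12 c12]))
    (S.ψ_inj (by rw [← hα, S.ψ_w, hσs 1 c1]))
  show S.s * S.ψ h = S.ψ h * S.s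
  have := hα h
  rw [hfix] at this
  exact mul_inv_eq_iff_eq_mul.1 this

theorem ψ_v : S.ψ (swap 3 4) = S.σ 24 := by
  have e : S.σ 1 * S.σ 1 = 1 := by rw [← S.σ_mul, unit_codes.2.1.2.2, S.σ_zero]
  rw [← gen_words.2.1, map_mul, map_mul, map_inv, S.ψ_w, S.ψ_u, inv_eq_of_mul_eq_one_right e, ← S.σ_mul, ← S.σ_mul,
    unit_codes.2.2.1.2]

/-- The normaliser of the line of the unit vector. -/
theorem split_norm {g : G} (hg : g * F.e 1 * g⁻¹ = F.e 1 ∨ g * F.e 1 * g⁻¹ = (F.e 1)⁻¹) :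
    ∃ v ∈ ([0, 1, 2] : List (Fin 27)), ∃ h, g = F.e v * S.ψ h ∨ g = F.e v * (S.s * S.ψ h) := by
  rcases hg with e | e
  · obtain ⟨v, hv, h, rfl⟩ := S.split g (mul_inv_eq_iff_eq_mul.1 e)
    exact ⟨v, hv, h, Or.inl rfl⟩
  · have hsg : Commute (S.s * g) (F.e 1) := by
      show S.s * g * F.e 1 = F.e 1 * (S.s * g)
      calc S.s * g * F.e 1 = S.s * (g * F.e 1 * g⁻¹) * g := by group
        _ = (S.s * F.e 1 * S.s⁻¹)⁻¹ * (S.s * g) := by rw [e]; group
        _ = _ := by rw [S.s_e1, inv_inv]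
    obtain ⟨v, hv, h, hh⟩ := S.split _ hsg
    refine ⟨actM 6 v, (show ∀ v ∈ ([0, 1, 2] : List (Fin 27)), actM 6 v ∈ ([0, 1, 2] : List (Fin 27)) by decide +kernel) v hv,
      h, Or.inr ?_⟩
    rw [← (S.σ_spec 6).1 v]
    calc g = S.s⁻¹ * (S.s * g) := by group
      _ = S.s * (F.e v * S.ψ h) := by rw [hh, inv_eq_of_mul_eq_one_right S.s_sq]
      _ = _ := by group

end Six

end Cfsg.Lib.SymNineLocal
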