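import Cfsg.Agent.LocalThree.SymNineLocal.SixFusion

/-!
The centraliser of three commuting transpositions normalises the line of the unit vector.
-/

set_option autoImplicit false
set_option linter.unusedSectionVars false
set_option maxRecDepth 8000
set_option synthInstance.maxSize 4000

namespace Cfsg.Lib.SymNineLocal

open Subgroup Equiv
open scoped Pointwise

universe u

variable {G : Type u} [Group G] [Finite G]

theorem yh_twelve : ad 3 9 = 12 ∧ ad 12 12 = ng 12 ∧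
    (∀ v ∈ ([0, 1, 2] : List (Fin 27)), v = 0 ∨ v = 1 ∨ v = ad 1 1) := by decide +kernel

namespace Six

variable {F : Frame G} (S : Six F)

include S

theorem v_comm {v : Fin 27} (hv : v ∈ ([0, 1, 2] : List (Fin 27))) (k : Perm (Fin 6)) :
    Commute (F.e v) (S.ψ k) := by
  rcases yh_twelve.2.2 v hv with r | r | r <;> rw [r]
  · rw [F.e_zero]; exact Commute.one_left _
  · exact (S.ψ_cent k).symm
  · rw [F.e_add]; exact (S.ψ_cent k).symm.mul_left (S.ψ_cent k).symm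

theorem v_comm_e1 {v : Fin 27} (k : Perm (Fin 6)) : Commute (F.e v * S.ψ k) (F.e 1) :=
  (show Commute (F.e v) (F.e 1) from F.J_comm (F.e_mem v) (F.e_mem 1)).mul_left (S.ψ_cent k)

/-- The three transpositions generate this group. -/
theorem exists_three : ∃ T : Subgroup G, ∀ g, g ∈ T ↔ ∃ h, TH h ∧ S.ψ h = g := by
  refine ⟨{ carrier := {g | ∃ h, TH h ∧ S.ψ h = g}
            one_mem' := ⟨1, th_facts.2.1, map_one _⟩
            mul_mem' := ?_, inv_mem' := ?_ }, fun g => Iff.rfl⟩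
  · rintro _ _ ⟨a, ha, rfl⟩ ⟨b, hb, rfl⟩
    exact ⟨_, (th_facts.1 a b ha hb).1, map_mul _ _ _⟩
  · rintro _ ⟨a, ha, rfl⟩
    exact ⟨a, ha, by rw [← map_inv, (th_facts.1 a a ha ha).2]⟩

/-- The centraliser of the three transpositions normalises the line. -/
theorem cent_three {w : G} (h1 : Commute w (S.ψ (swap 0 1))) (h2 : Commute w (S.ψ (swap 3 4)))
    (h3 : Commute w (S.ψ (swap 2 5))) : w * F.e 1 * w⁻¹ = F.e 1 ∨ w * F.e 1 * w⁻¹ = (F.e 1)⁻¹ := by
  classical
  haveI : Fact (Nat.Prime 3) := ⟨Nat.prime_three⟩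
  obtain ⟨T, hT⟩ := S.exists_three
  obtain ⟨y, hy⟩ : ∃ y, y = S.ψ yh := ⟨_, rfl⟩
  obtain ⟨y3, -, y01, y34, y25, yT, g₀, hg₀⟩ := yh_facts
  have hy3 : y * (y * y) = 1 := by rw [hy, ← map_mul, ← map_mul, y3, map_one]
  let W : Subgroup G := centralizer (T : Set G)
  have hwW : ∀ u, (Commute u (S.ψ (swap 0 1)) ∧ Commute u (S.ψ (swap 3 4)) ∧ Commute u (S.ψ (swap 2 5))) ↔ u ∈ W := by
    intro u
    constructor
    · rintro ⟨u1, u2, u3⟩
      refine mem_centralizer_iff.2 fun a ha => ?_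
      obtain ⟨k, hk, rfl⟩ := (hT a).1 ha
      simp only [TH, thList, List.mem_cons, List.not_mem_nil, or_false] at hk
      rcases hk with rfl | rfl | rfl | rfl | rfl | rfl | rfl | rfl <;> (try simp only [map_mul, map_one])
      exacts [(Commute.one_right u).symm.eq, u1.symm.eq, u2.symm.eq, u3.symm.eq, (u1.mul_right u2).symm.eq,
        (u1.mul_right u3).symm.eq, (u2.mul_right u3).symm.eq, ((u1.mul_right u2).mul_right u3).symm.eq]
    · intro hu
      have h : ∀ k, TH k → Commute u (S.ψ k) := fun k hk =>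
        (mem_centralizer_iff.1 hu _ ((hT _).2 ⟨k, hk, rfl⟩)).symm
      exact ⟨h _ (by decide +kernel), h _ (by decide +kernel), h _ (by decide +kernel)⟩
  have hWe : ∀ u ∈ W, Commute u (F.e 1) → ∃ v ∈ ([0, 1, 2] : List (Fin 27)), ∃ k, TH k ∧ u = F.e v * S.ψ k := by
    intro u hu hue
    obtain ⟨v, hv, k, rfl⟩ := S.split u hue
    refine ⟨v, hv, k, ?_, rfl⟩
    obtain ⟨a1, a2, a3⟩ := (hwW _).2 hu
    have hk : ∀ b, Commute (F.e v * S.ψ k) (S.ψ b) → k * b = b * k := fun b hb => S.ψ_inj (by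
      rw [map_mul, map_mul]
      have := (S.v_comm hv b).inv_left.mul_left hb
      rwa [inv_mul_cancel_left] at this)
    refine th_facts.2.2.1 k fun b hb => ?_
    rcases hb with rfl | rfl | rfl
    exacts [hk _ a1, hk _ a2, hk _ a3]
  have hTW : T ≤ W := fun a ha => mem_centralizer_iff.2 fun b hb => by
    obtain ⟨i, hi, rfl⟩ := (hT a).1 ha
    obtain ⟨j, hj, rfl⟩ := (hT b).1 hb
    rw [← map_mul, ← map_mul]
    exact congrArg S.ψ (th_products i hi j hj).2.2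
  let C : Subgroup G := W ⊔ zpowers y
  have hyT : y ∈ normalizer (T : Set G) := by
    refine Subgroup.mem_normalizer_iff_map_conj_eq.2 (Subgroup.eq_of_le_of_card_ge ?_
      (le_of_eq (Subgroup.card_map_of_injective (MulAut.conj y).injective).symm))
    rintro _ ⟨a, ha, rfl⟩
    obtain ⟨k, hk, rfl⟩ := (hT a).1 ha
    refine (hT _).2 ⟨_, yT k hk, ?_⟩
    rw [hy]; show S.ψ (yh * k * yh⁻¹) = S.ψ yh * S.ψ k * (S.ψ yh)⁻¹
    rw [map_mul, map_mul, map_inv]
  have hWN : W ≤ normalizer (T : Set G) := centralizer_le_normalizer _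
  have hCN : C ≤ normalizer (T : Set G) := sup_le hWN (zpowers_le.2 hyT)
  haveI hTn : (T.subgroupOf C).Normal :=
    (Subgroup.normal_subgroupOf_iff_le_normalizer (hTW.trans le_sup_left)).2 hCN
  have hWC : W ≤ C := le_sup_left
  haveI hWn : (W.subgroupOf C).Normal := by
    refine (Subgroup.normal_subgroupOf_iff_le_normalizer hWC).2 fun u hu => ?_
    refine Subgroup.mem_normalizer_iff_map_conj_eq.2 (Subgroup.eq_of_le_of_card_ge ?_
      (le_of_eq (Subgroup.card_map_of_injective (MulAut.conj u).injective).symm))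
    rintro _ ⟨a, ha, rfl⟩
    refine mem_centralizer_iff.2 fun b hb => ?_
    have hb' : u⁻¹ * b * u ∈ T := by
      have := (mem_normalizer_iff.1 (inv_mem (hCN hu)) b).1 hb
      rwa [inv_inv] at this
    show b * (u * a * u⁻¹) = u * a * u⁻¹ * b
    calc b * (u * a * u⁻¹) = u * (u⁻¹ * b * u * a) * u⁻¹ := by group
      _ = u * (a * (u⁻¹ * b * u)) * u⁻¹ := by rw [mem_centralizer_iff.1 ha _ hb']
      _ = _ := by group
  have heW : F.e 1 ∈ W := (hwW _).1 ⟨(S.ψ_cent _).symm, (S.ψ_cent _).symm, (S.ψ_cent _).symm⟩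
  -- the noncyclic group
  obtain ⟨A, hA⟩ : ∃ A : Subgroup G, ∀ g, g ∈ A ↔ ∃ i j : Fin 3, g = F.e 1 ^ (i : ℕ) * y ^ (j : ℕ) := by
    have hc : Commute (F.e 1) y := hy ▸ (S.ψ_cent _).symm
    have hp : ∀ {x : G}, x ^ 3 = 1 → ∀ n : ℕ, x ^ n = x ^ (n % 3) := fun {x} hx n => by
      conv_lhs => rw [← Nat.mod_add_div n 3, pow_add, pow_mul, hx, one_pow, mul_one]
    have he3 : F.e 1 ^ 3 = 1 := by rw [pow_succ', pow_two, F.J_cube (F.e_mem 1)]
    have hy3' : y ^ 3 = 1 := by rw [pow_succ', pow_two, hy3]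
    refine ⟨{ carrier := {g | ∃ i j : Fin 3, g = F.e 1 ^ (i : ℕ) * y ^ (j : ℕ)}
              one_mem' := ⟨0, 0, by simp⟩
              mul_mem' := ?_, inv_mem' := ?_ }, fun g => Iff.rfl⟩
    · rintro _ _ ⟨i, j, rfl⟩ ⟨i', j', rfl⟩
      refine ⟨⟨((i : ℕ) + i') % 3, Nat.mod_lt _ (by norm_num)⟩, ⟨((j : ℕ) + j') % 3, Nat.mod_lt _ (by norm_num)⟩, ?_⟩
      show _ = F.e 1 ^ (((i : ℕ) + i') % 3) * y ^ (((j : ℕ) + j') % 3)
      rw [← hp he3, ← hp hy3', pow_add, pow_add,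
        show F.e 1 ^ (i : ℕ) * y ^ (j : ℕ) * (F.e 1 ^ (i' : ℕ) * y ^ (j' : ℕ)) =
          F.e 1 ^ (i : ℕ) * (y ^ (j : ℕ) * F.e 1 ^ (i' : ℕ)) * y ^ (j' : ℕ) by group, ← (hc.pow_pow _ _).eq]
      group
    · rintro _ ⟨i, j, rfl⟩
      refine ⟨⟨(2 * i : ℕ) % 3, Nat.mod_lt _ (by norm_num)⟩, ⟨(2 * j : ℕ) % 3, Nat.mod_lt _ (by norm_num)⟩, ?_⟩
      show _ = F.e 1 ^ ((2 * i : ℕ) % 3) * y ^ ((2 * j : ℕ) % 3)
      rw [← hp he3, ← hp hy3']
      refine inv_eq_of_mul_eq_one_right ?_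
      rw [show F.e 1 ^ (i : ℕ) * y ^ (j : ℕ) * (F.e 1 ^ (2 * i : ℕ) * y ^ (2 * j : ℕ)) =
          F.e 1 ^ (i : ℕ) * (y ^ (j : ℕ) * F.e 1 ^ (2 * i : ℕ)) * y ^ (2 * j : ℕ) by group, ← (hc.pow_pow _ _).eq,
        show F.e 1 ^ (i : ℕ) * (F.e 1 ^ (2 * i : ℕ) * y ^ (j : ℕ)) * y ^ (2 * j : ℕ) =
          F.e 1 ^ (i : ℕ) * F.e 1 ^ (2 * i : ℕ) * (y ^ (j : ℕ) * y ^ (2 * j : ℕ)) by group, ← pow_add, ← pow_add,
        show (i : ℕ) + 2 * i = 3 * i by ring, show (j : ℕ) + 2 * j = 3 * j by ring, pow_mul, pow_mul, he3, hy3',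
        one_pow, one_pow, one_mul]
  have heA : F.e 1 ∈ A := (hA _).2 ⟨1, 0, by simp⟩
  have hyA : y ∈ A := (hA _).2 ⟨0, 1, by simp⟩
  have hAC : A ≤ C := fun a ha => by
    obtain ⟨i, j, rfl⟩ := (hA a).1 ha
    exact mul_mem (pow_mem (hWC heW) _) (pow_mem (le_sup_right (a := W) (mem_zpowers y)) _)
  have hey : Commute (F.e 1) y := hy ▸ (S.ψ_cent _).symm
  have hAc : ∀ a ∈ A, ∀ b ∈ A, a * b = b * a := fun a ha b hb => by
    obtain ⟨i, j, rfl⟩ := (hA a).1 ha
    obtain ⟨i', j', rfl⟩ := (hA b).1 hb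
    exact (((Commute.refl (F.e 1)).pow_pow _ _).mul_right (hey.pow_pow _ _)).mul_left
      (((hey.symm).pow_pow _ _).mul_right ((Commute.refl y).pow_pow _ _)) |>.eq
  haveI : IsMulCommutative A := ⟨⟨fun a b => Subtype.ext (hAc _ a.2 _ b.2)⟩⟩
  have hA3 : ∀ a ∈ A, a ^ 3 = 1 := fun a ha => by
    obtain ⟨i, j, rfl⟩ := (hA a).1 ha
    rw [(hey.pow_pow _ _).mul_pow, ← pow_mul, ← pow_mul, mul_comm (i : ℕ), mul_comm (j : ℕ), pow_mul, pow_mul,
      pow_succ', pow_two, F.J_cube (F.e_mem 1), one_pow, pow_succ', pow_two, hy3, one_pow, one_mul]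
  have hnc : ¬ IsCyclic A := by
    intro hcyc
    obtain ⟨⟨g, hg⟩, hgen⟩ := hcyc.exists_generator
    have hgen' : ∀ a ∈ A, ∃ n : Fin 3, a = g ^ (n : ℕ) := fun a ha => by
      obtain ⟨n, hn⟩ := hgen ⟨a, ha⟩
      have e : g ^ n = a := congrArg Subtype.val hn
      refine ⟨⟨(n % 3).toNat, by omega⟩, ?_⟩
      show a = g ^ (n % 3).toNat
      rw [← zpow_natCast, Int.toNat_of_nonneg (Int.emod_nonneg _ (by norm_num)), ← e]
      conv_lhs => rw [← Int.emod_add_ediv_mul n 3, mul_comm (n / 3), zpow_add, zpow_mul,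
        show g ^ (3 : ℤ) = 1 by exact_mod_cast hA3 g hg, one_zpow, mul_one]
    have hyne : ∀ v ∈ ([0, 1, 2] : List (Fin 27)), y ≠ F.e v := by
      intro v hv e
      have := (S.split_unique (v := 0) (w := v) List.mem_cons_self hv (h := yh) (k := 1)
        (by rw [F.e_zero, one_mul, map_one, mul_one, ← hy, e])).2
      exact yh_facts.2.1 this
    obtain ⟨n, hn⟩ := hgen' _ heA
    obtain ⟨k, hk⟩ := hgen' _ hyA
    have hn0 : (n : ℕ) ≠ 0 := fun h => by
      rw [h, pow_zero] at hn; exact F.e_ne (by decide) hn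
    have hg' : g = F.e 1 ∨ g = F.e 1 * F.e 1 := by
      have : (n : ℕ) = 1 ∨ (n : ℕ) = 2 := by omega
      rcases this with e | e <;> rw [e] at hn
      · left; rw [hn, pow_one]
      · right
        calc g = g * (g ^ 3) := by rw [hA3 g hg, mul_one]
          _ = F.e 1 * F.e 1 := by rw [hn]; group
    have hk' : ∃ v ∈ ([0, 1, 2] : List (Fin 27)), g ^ (k : ℕ) = F.e v := by
      have : (k : ℕ) = 0 ∨ (k : ℕ) = 1 ∨ (k : ℕ) = 2 := by omega
      obtain ⟨a, ha, e⟩ : ∃ a ∈ ([1, 2] : List (Fin 27)), g = F.e a := by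
        rcases hg' with e | e
        · exact ⟨1, by decide, e⟩
        · exact ⟨2, by decide, by rw [e, ← F.e_add]; exact congrArg F.e (by decide +kernel)⟩
      rcases this with r | r | r <;> rw [r, e]
      · exact ⟨0, by decide, by rw [pow_zero, F.e_zero]⟩
      · exact ⟨a, List.mem_cons_of_mem _ ha, pow_one _⟩
      · refine ⟨ad a a, ?_, by rw [pow_two, F.e_add]⟩
        exact (show ∀ a ∈ ([1, 2] : List (Fin 27)), ad a a ∈ ([0, 1, 2] : List (Fin 27)) by decide +kernel) a ha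
    obtain ⟨v, hv, e⟩ := hk'
    exact hyne v hv (hk.trans e)
  -- subgroups of order prime to three
  have hfix : ∀ K : Subgroup G, K ≤ C → T ≤ K → A ≤ normalizer (K : Set G) → (Nat.card K).Coprime 3 → K ≤ W → K ≤ T := by
    intro K hKC hTK hAK hK hKW
    have hp3 : ∀ {q}, q ∈ K → q ^ 3 = 1 → q = 1 := fun {q} hq h3 => by
      refine orderOf_eq_one_iff.1 (Nat.eq_one_of_dvd_coprimes hK (Subgroup.orderOf_dvd_natCard _ hq)
        (orderOf_dvd_of_pow_eq_one h3))
    have hfin : ∀ q ∈ K, Commute q (F.e 1) → q ∈ T := by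
      intro q hq hqe
      obtain ⟨v, hv, k, hk, rfl⟩ := hWe q (hKW hq) hqe
      have hkT : S.ψ k ∈ T := (hT _).2 ⟨k, hk, rfl⟩
      have hv1 : F.e v = 1 := hp3 (by have := mul_mem hq (inv_mem (hTK hkT)); rwa [mul_inv_cancel_right] at this)
        (by rw [pow_succ', pow_two, F.J_cube (F.e_mem v)])
      rwa [hv1, one_mul]
    refine gen_fix hnc hAK ?_ fun a ha ha1 q hq hqa => ?_
    · obtain ⟨n, hn⟩ := IsPGroup.iff_card.1 (show IsPGroup 3 A from fun a => ⟨1, Subtype.ext (hA3 _ a.2)⟩)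
      rw [hn]
      exact (hK.symm).pow_left n
    obtain ⟨i, j, hij⟩ := (hA a).1 ha
    by_cases hj : (j : ℕ) = 0
    · rw [hj, pow_zero, mul_one] at hij
      refine hfin q hq ?_
      have hi : (i : ℕ) = 1 ∨ (i : ℕ) = 2 := by
        have : (i : ℕ) ≠ 0 := fun h => ha1 (by rw [hij, h, pow_zero])
        omega
      rcases hi with e | e <;> rw [hij, e] at hqa
      · rwa [pow_one] at hqa
      · have := hqa.mul_right hqa
        rwa [show F.e 1 ^ 2 * F.e 1 ^ 2 = F.e 1 * F.e 1 ^ 3 by group, pow_succ' (F.e 1) 2, pow_two,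
          F.J_cube (F.e_mem 1), mul_one] at this
    -- move into the elementary group
    obtain ⟨p, hp⟩ : ∃ p, p = S.ψ g₀ := ⟨_, rfl⟩
    have hpe : Commute p (F.e 1) := hp ▸ S.ψ_cent _
    have hy12 : p⁻¹ * y * p = F.e 12 := by
      rw [hy, hp, ← hg₀, map_mul, map_mul, map_inv, map_mul, S.ψ_ca, S.ψ_cb, ← F.e_add, yh_twelve.1]; group
    obtain ⟨w, hw, hwu⟩ : ∃ w, p⁻¹ * a * p = F.e w ∧ ∃ u ∈ ([0, 1, 2] : List (Fin 27)), ∃ r ∈ ([12, ng 12] : List (Fin 27)),
        w = ad u r := by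
      obtain ⟨u, hu, hue⟩ : ∃ u ∈ ([0, 1, 2] : List (Fin 27)), F.e 1 ^ (i : ℕ) = F.e u := by
        have : (i : ℕ) = 0 ∨ (i : ℕ) = 1 ∨ (i : ℕ) = 2 := by omega
        rcases this with r | r | r <;> rw [r]
        · exact ⟨0, by decide, by rw [pow_zero, F.e_zero]⟩
        · exact ⟨1, by decide, pow_one _⟩
        · exact ⟨ad 1 1, by decide +kernel, by rw [pow_two, F.e_add]⟩
      obtain ⟨r, hr, hre⟩ : ∃ r ∈ ([12, ng 12] : List (Fin 27)), F.e 12 ^ (j : ℕ) = F.e r := by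
        have : (j : ℕ) = 1 ∨ (j : ℕ) = 2 := by omega
        rcases this with r | r <;> rw [r]
        · exact ⟨12, by decide, pow_one _⟩
        · exact ⟨ng 12, by decide, by rw [pow_two, ← F.e_add, yh_twelve.2.1]⟩
      refine ⟨ad u r, ?_, u, hu, r, hr, rfl⟩
      rw [hij, F.e_add, ← hue, ← hre, ← hy12, show p⁻¹ * y * p = p⁻¹ * y * p⁻¹⁻¹ by group, conj_pow]
      calc p⁻¹ * (F.e 1 ^ (i : ℕ) * y ^ (j : ℕ)) * p = p⁻¹ * F.e 1 ^ (i : ℕ) * y ^ (j : ℕ) * p := by group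
        _ = F.e 1 ^ (i : ℕ) * p⁻¹ * y ^ (j : ℕ) * p := by rw [(hpe.inv_left.pow_right _).eq]
        _ = _ := by group
    obtain ⟨u, hu, r, hr, rfl⟩ := hwu
    have hcN : centralizer ({F.e (ad u r)} : Set G) ≤ normalizer (F.J : Set G) := by
      rcases pair_vectors u hu r hr with ⟨hn, hx⟩ | ⟨m, hm⟩
      · refine F.point_cent ?_ (S.hk ▸ hn) (S.hk ▸ hx)
        exact (show ∀ u ∈ ([0, 1, 2] : List (Fin 27)), ∀ r ∈ ([12, ng 12] : List (Fin 27)), ad u r ≠ 0 by decide +kernel) u hu r hr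
      · rw [← hm]
        exact F.cent_conj (S.σ_mul_acts m) F.cent_diag
    have hqN : p⁻¹ * q * p ∈ normalizer (F.J : Set G) := hcN (mem_centralizer_singleton_iff.2 (by
      rw [← hw, show p⁻¹ * q * p * (p⁻¹ * a * p) = p⁻¹ * (q * a) * p by group, hqa.eq]; group))
    have hkey : ∀ b ∈ A, p⁻¹ * b * p ∈ F.J → Commute q b := by
      intro b hb hbJ
      have h1 : q * b * q⁻¹ * b⁻¹ ∈ K := by
        rw [mul_assoc q b, mul_assoc q]
        exact mul_mem hq ((mem_normalizer_iff.1 (hAK hb) _).1 (inv_mem hq))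
      have h2 : p⁻¹ * (q * b * q⁻¹ * b⁻¹) * p ∈ F.J := by
        have := mul_mem ((mem_normalizer_iff.1 hqN _).1 hbJ) (inv_mem hbJ)
        rwa [show p⁻¹ * q * p * (p⁻¹ * b * p) * (p⁻¹ * q * p)⁻¹ * (p⁻¹ * b * p)⁻¹ =
          p⁻¹ * (q * b * q⁻¹ * b⁻¹) * p by group] at this
      have h4 := F.J_cube h2
      have h5 : q * b * q⁻¹ * b⁻¹ = 1 := hp3 h1 (by
        rw [pow_succ', pow_two]
        calc _ = p * (p⁻¹ * (q * b * q⁻¹ * b⁻¹) * p * (p⁻¹ * (q * b * q⁻¹ * b⁻¹) * p *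
            (p⁻¹ * (q * b * q⁻¹ * b⁻¹) * p))) * p⁻¹ := by group
          _ = 1 := by rw [h4, mul_one, mul_inv_cancel])
      exact mul_inv_eq_iff_eq_mul.1 (mul_inv_eq_one.1 h5)
    refine hfin q hq (hkey _ heA ?_)
    rw [mul_assoc, ← hpe.eq, inv_mul_cancel_left]
    exact F.e_mem 1
  -- the quotient
  set π := QuotientGroup.mk' (T.subgroupOf C)
  let Ab : Subgroup (C ⧸ T.subgroupOf C) := (A.subgroupOf C).map π
  let Mb : Subgroup (C ⧸ T.subgroupOf C) := (W.subgroupOf C).map π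
  let Xb : Subgroup (C ⧸ T.subgroupOf C) := zpowers (π ⟨F.e 1, hWC heW⟩)
  haveI : Mb.Normal := hWn.map π (QuotientGroup.mk'_surjective _)
  have hTord : ∀ {c}, c ∈ T → c ^ 3 = 1 → c = 1 := fun {c} hc h3 => by
    obtain ⟨k, hk, rfl⟩ := (hT c).1 hc
    rw [th_facts.2.2.2.2.2 k hk (S.ψ_inj (by rw [map_mul, map_mul, map_one, ← pow_two, ← pow_succ', h3])), map_one]
  have hX : Nat.card Xb = 3 := by
    rw [Nat.card_zpowers]
    refine orderOf_eq_prime ?_ fun h => ?_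
    · rw [← map_pow, show (⟨F.e 1, hWC heW⟩ : C) ^ 3 = 1 from
        Subtype.ext (by rw [SubmonoidClass.coe_pow]; exact (pow_succ' _ _).trans (by rw [pow_two]; exact F.J_cube (F.e_mem 1))), map_one]
    · have := mem_subgroupOf.1 ((QuotientGroup.eq_one_iff _).1 h)
      exact F.e_ne (by decide) (hTord this (by rw [pow_succ', pow_two]; exact F.J_cube (F.e_mem 1)))
  have hS : IsPGroup 3 Ab :=
    (show IsPGroup 3 (A.subgroupOf C) from fun a => ⟨1, Subtype.ext (Subtype.ext (hA3 _ (mem_subgroupOf.1 a.2)))⟩).map π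
  have hsig : SigFree Ab := by
    intro K hK hAK
    let K' : Subgroup G := (K.comap π).map C.subtype
    have hTK : T ≤ K' := fun c hc => ⟨⟨c, hWC (hTW hc)⟩, by
      show π _ ∈ K
      rw [show π ⟨c, hWC (hTW hc)⟩ = 1 from (QuotientGroup.eq_one_iff _).2 (mem_subgroupOf.2 hc)]
      exact one_mem _, rfl⟩
    have hK'C : K' ≤ C := Subgroup.map_subtype_le _
    have hcK : (Nat.card K').Coprime 3 := by
      rw [Subgroup.card_map_of_injective C.subtype_injective]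
      have e := Subgroup.card_mul_index ((T.subgroupOf C).subgroupOf (K.comap π))
      have hle : T.subgroupOf C ≤ K.comap π := fun c hc => by
        show π c ∈ K
        rw [show π c = 1 from (QuotientGroup.eq_one_iff _).2 hc]; exact one_mem _
      have hidx : ((T.subgroupOf C).subgroupOf (K.comap π)).index = Nat.card K := by
        show (T.subgroupOf C).relIndex (K.comap π) = Nat.card K
        conv_rhs => rw [← map_comap_eq_self_of_surjective (QuotientGroup.mk'_surjective (T.subgroupOf C)) K,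
          ← relIndex_ker, QuotientGroup.ker_mk']
      rw [hidx, Nat.card_congr (subgroupOfEquivOfLe hle).toEquiv,
        Nat.card_congr (subgroupOfEquivOfLe (hTW.trans hWC)).toEquiv] at e
      rw [← e]
      refine Nat.Coprime.mul_left ((Nat.prime_three.coprime_iff_not_dvd.2 fun h => ?_).symm) hK
      obtain ⟨⟨c, hc⟩, ho⟩ := exists_prime_orderOf_dvd_card' (G := T) 3 h
      rw [Subgroup.orderOf_mk] at ho
      rw [hTord hc (orderOf_dvd_iff_pow_eq_one.1 (by rw [ho])), orderOf_one] at ho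
      omega
    have hAK' : A ≤ normalizer (K' : Set G) := fun a ha => by
      refine Subgroup.mem_normalizer_iff_map_conj_eq.2 (Subgroup.eq_of_le_of_card_ge ?_
        (le_of_eq (Subgroup.card_map_of_injective (MulAut.conj a).injective).symm))
      rintro _ ⟨_, ⟨k, hk, rfl⟩, rfl⟩
      refine ⟨⟨a, hAC ha⟩ * k * ⟨a, hAC ha⟩⁻¹, ?_, rfl⟩
      show π (_ * k * _) ∈ K
      rw [map_mul, map_mul, map_inv]
      exact (mem_normalizer_iff.1 (hAK ⟨_, mem_subgroupOf.2 ha, rfl⟩) _).1 hk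
    have hKW : K' ≤ W := by
      intro c hc
      have hidx : (W.subgroupOf C).index ∣ 3 := by
        have hgen : ∀ u : C, ∃ n : Fin 3, (y ^ (n : ℕ))⁻¹ * (u : G) ∈ W := by
          intro u
          let D : Subgroup G :=
            { carrier := {g | g ∈ C ∧ ∃ n : Fin 3, (y ^ (n : ℕ))⁻¹ * g ∈ W}
              one_mem' := ⟨one_mem _, 0, by simp⟩
              mul_mem' := by
                rintro g g' ⟨hg, n, hn⟩ ⟨hg', n', hn'⟩
                refine ⟨mul_mem hg hg', ⟨((n : ℕ) + n') % 3, Nat.mod_lt _ (by norm_num)⟩, ?_⟩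
                show (y ^ (((n : ℕ) + n') % 3))⁻¹ * (g * g') ∈ W
                have hy' : y ^ (((n : ℕ) + n') % 3) = y ^ ((n : ℕ) + n') := by
                  conv_rhs => rw [← Nat.mod_add_div ((n : ℕ) + n') 3, pow_add _ (((n : ℕ) + n') % 3), pow_mul,
                    hA3 y hyA, one_pow, mul_one]
                rw [hy', pow_add]
                have h2 : (y ^ (n' : ℕ))⁻¹ * ((y ^ (n : ℕ))⁻¹ * g) * (y ^ (n' : ℕ)) ∈ W := by
                  have := hWn.conj_mem ⟨_, hWC hn⟩ (mem_subgroupOf.2 hn)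
                    ⟨(y ^ (n' : ℕ))⁻¹, inv_mem (pow_mem (hAC hyA) _)⟩
                  rw [mem_subgroupOf] at this
                  simpa using this
                have := mul_mem h2 hn'
                rwa [show (y ^ (n' : ℕ))⁻¹ * ((y ^ (n : ℕ))⁻¹ * g) * (y ^ (n' : ℕ)) * ((y ^ (n' : ℕ))⁻¹ * g') =
                  (y ^ (n : ℕ) * y ^ (n' : ℕ))⁻¹ * (g * g') by group] at this
              inv_mem' := by
                rintro g ⟨hg, n, hn⟩
                refine ⟨inv_mem hg, ⟨(2 * n : ℕ) % 3, Nat.mod_lt _ (by norm_num)⟩, ?_⟩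
                show (y ^ ((2 * n : ℕ) % 3))⁻¹ * g⁻¹ ∈ W
                have hy' : (y ^ ((2 * n : ℕ) % 3))⁻¹ = y ^ (n : ℕ) := by
                  refine inv_eq_of_mul_eq_one_right ?_
                  rw [show y ^ ((2 * n : ℕ) % 3) = y ^ (2 * n : ℕ) by
                    conv_rhs => rw [← Nat.mod_add_div (2 * n : ℕ) 3, pow_add, pow_mul, hA3 y hyA, one_pow, mul_one],
                    ← pow_add, show (2 * n : ℕ) + n = 3 * n by ring, pow_mul, hA3 y hyA, one_pow]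
                rw [hy']
                have h2 := hWn.conj_mem ⟨_, hWC hn⟩ (mem_subgroupOf.2 hn) ⟨y ^ (n : ℕ), pow_mem (hAC hyA) _⟩
                rw [mem_subgroupOf] at h2
                have := inv_mem h2
                simpa [mul_assoc] using this }
          have hle : C ≤ D := sup_le (fun g hg => ⟨hWC hg, 0, by simpa using hg⟩)
            (zpowers_le.2 ⟨hAC hyA, 1, by simp⟩)
          exact (hle u.2).2
        obtain ⟨m, hm⟩ : ∃ m : ℕ, m ≤ 3 ∧ (W.subgroupOf C).index = m := by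
          refine ⟨_, ?_, rfl⟩
          rw [Subgroup.index, ← Nat.card_fin 3]
          refine Nat.card_le_card_of_surjective
            (fun n : Fin 3 => ((⟨y ^ (n : ℕ), pow_mem (hAC hyA) _⟩ : C) : C ⧸ W.subgroupOf C)) fun q => ?_
          obtain ⟨u, rfl⟩ := QuotientGroup.mk_surjective q
          obtain ⟨n, hn⟩ := hgen u
          exact ⟨n, QuotientGroup.eq.2 (mem_subgroupOf.2 hn)⟩
        have hd : (W.subgroupOf C).index ∣ 3 ∨ (W.subgroupOf C).index = 2 := by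
          have h0 := Subgroup.index_ne_zero_of_finite (H := W.subgroupOf C)
          have : m = 1 ∨ m = 2 ∨ m = 3 := by omega
          rcases this with r | r | r <;> rw [hm.2, r] <;> norm_num
        rcases hd with h | h
        · exact h
        exfalso
        have h2 := Subgroup.sq_mem_of_index_two h ⟨y, hAC hyA⟩
        rw [mem_subgroupOf, SubmonoidClass.coe_pow, pow_two] at h2
        have hyW : y ∈ W := by
          have := mul_mem h2 h2
          rwa [show y * y * (y * y) = y * (y * y) * y by group, hy3, one_mul] at this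
        have e := (mem_centralizer_iff.1 hyW _ ((hT _).2 ⟨swap 0 1, by decide +kernel, rfl⟩))
        have e2 : S.ψ (swap 3 4) = S.ψ (swap 0 1) := by
          rw [← y01, map_mul, map_mul, map_inv, ← hy, ← e, mul_inv_cancel_right]
        exact absurd (S.ψ_inj e2) (by decide +kernel)
      obtain ⟨k, hk, rfl⟩ := hc
      have hord : orderOf (QuotientGroup.mk' (W.subgroupOf C) k) = 1 := by
        refine Nat.eq_one_of_dvd_coprimes hcK ?_ ((_root_.orderOf_dvd_natCard _).trans hidx)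
        refine (orderOf_map_dvd _ k).trans ?_
        rw [← orderOf_injective C.subtype C.subtype_injective k]
        exact Subgroup.orderOf_dvd_natCard K' ⟨k, hk, rfl⟩
      exact mem_subgroupOf.1 ((QuotientGroup.eq_one_iff k).1 (orderOf_eq_one_iff.1 hord))
    have hle := hfix K' hK'C hTK hAK' hcK hKW
    refine eq_bot_iff.2 fun q hq => ?_
    obtain ⟨k, rfl⟩ := QuotientGroup.mk_surjective q
    exact mem_bot.2 ((QuotientGroup.eq_one_iff k).2 (mem_subgroupOf.2 (hle ⟨k, hq, rfl⟩)))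
  have hcentW : ∀ q ∈ Mb, q ∈ centralizer (Xb : Set (C ⧸ T.subgroupOf C)) → q ∈ Xb := by
    rintro _ ⟨u, hu, rfl⟩ hq
    have h := mem_centralizer_iff.1 hq _ (mem_zpowers _)
    rw [← map_mul, ← map_mul] at h
    have hd := mem_subgroupOf.1 (QuotientGroup.eq.1 h)
    push_cast at hd
    obtain ⟨d, hddef⟩ : ∃ d, d = (F.e 1 * (u : G))⁻¹ * ((u : G) * F.e 1) := ⟨_, rfl⟩
    rw [← hddef] at hd
    have hde : Commute d (F.e 1) := by obtain ⟨k, -, rfl⟩ := (hT d).1 hd; exact S.ψ_cent k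
    have hconj : (u : G)⁻¹ * F.e 1 * u * d = F.e 1 := by rw [hddef]; group
    have h1 : (u : G)⁻¹ * F.e 1 * u = F.e 1 * d⁻¹ := eq_mul_inv_iff_mul_eq.2 hconj
    have hd1 : d⁻¹ = 1 := hTord (inv_mem hd) (by
      have h3 := congrArg (fun x => x ^ 3) h1
      simp only [(show Commute (F.e 1) d⁻¹ from hde.symm.inv_right).mul_pow] at h3
      rw [show (u : G)⁻¹ * F.e 1 * u = (u : G)⁻¹ * F.e 1 * (u : G)⁻¹⁻¹ by group, conj_pow,
        pow_succ' (F.e 1), pow_two, F.J_cube (F.e_mem 1), mul_one, mul_inv_cancel, one_mul] at h3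
      exact h3.symm)
    rw [hd1, mul_one] at h1
    obtain ⟨v, hv, k, hk, hku⟩ := hWe u (mem_subgroupOf.1 hu) (by
      show (u : G) * F.e 1 = F.e 1 * u
      conv_lhs => rw [← h1]
      group)
    obtain ⟨n, hn⟩ : ∃ n : ℕ, F.e v = F.e 1 ^ n := by
      rcases yh_twelve.2.2 v hv with r | r | r <;> rw [r]
      · exact ⟨0, by rw [pow_zero, F.e_zero]⟩
      · exact ⟨1, (pow_one _).symm⟩
      · exact ⟨2, by rw [pow_two, F.e_add]⟩
    refine ⟨(n : ℤ), ?_⟩
    show π ⟨F.e 1, hWC heW⟩ ^ (n : ℤ) = π u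
    rw [zpow_natCast, ← map_pow]
    refine QuotientGroup.eq.2 (mem_subgroupOf.2 ?_)
    push_cast
    rw [hku, hn, inv_mul_cancel_left]
    exact (hT _).2 ⟨k, hk, rfl⟩
  have hkey := three_normal Ab Mb Xb hS hsig (zpowers_le.2 ⟨_, mem_subgroupOf.2 heW, rfl⟩) hX hcentW
  have hwWm : w ∈ W := (hwW w).1 ⟨h1, h2, h3⟩
  have h := (mem_normalizer_iff.1 (hkey _ ⟨⟨w, hWC hwWm⟩, mem_subgroupOf.2 hwWm, rfl⟩) _).1 (mem_zpowers (π ⟨F.e 1, hWC heW⟩))
  obtain ⟨n, hn⟩ := h
  have hn' : π ⟨F.e 1, hWC heW⟩ ^ n = π (⟨w, hWC hwWm⟩ * ⟨F.e 1, hWC heW⟩ * ⟨w, hWC hwWm⟩⁻¹) := by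
    rw [map_mul, map_mul, map_inv]; exact hn
  rw [← map_zpow] at hn'
  have hd := mem_subgroupOf.1 (QuotientGroup.eq.1 hn')
  push_cast at hd
  obtain ⟨d, hddef⟩ : ∃ d, d = (F.e 1 ^ n)⁻¹ * (w * F.e 1 * w⁻¹) := ⟨_, rfl⟩
  rw [← hddef] at hd
  have hde : Commute d (F.e 1) := by obtain ⟨k, -, rfl⟩ := (hT d).1 hd; exact S.ψ_cent k
  have he3 : F.e 1 ^ 3 = 1 := by rw [pow_succ', pow_two, F.J_cube (F.e_mem 1)]
  have hconj : w * F.e 1 * w⁻¹ = F.e 1 ^ n * d := by rw [hddef, mul_inv_cancel_left]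
  have hd1 : d = 1 := hTord hd (by
    have h3 := congrArg (fun x => x ^ 3) hconj
    simp only [((hde.symm).zpow_left n).mul_pow] at h3
    rw [conj_pow, he3, mul_one, mul_inv_cancel, show (F.e 1 ^ n) ^ 3 = (F.e 1 ^ 3) ^ n by
      rw [← zpow_natCast, ← zpow_natCast, ← zpow_mul, ← zpow_mul, mul_comm], he3, one_zpow, one_mul] at h3
    exact h3.symm)
  rw [hd1, mul_one] at hconj
  have hn3 : n % 3 = 0 ∨ n % 3 = 1 ∨ n % 3 = 2 := by omega
  have hmod : F.e 1 ^ n = F.e 1 ^ (n % 3) := by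
    conv_lhs => rw [← Int.emod_add_ediv_mul n 3, mul_comm (n / 3), zpow_add, zpow_mul,
      show F.e 1 ^ (3 : ℤ) = 1 by exact_mod_cast he3, one_zpow, mul_one]
  rw [hmod] at hconj
  rcases hn3 with r | r | r <;> rw [r] at hconj
  · rw [zpow_zero, conj_eq_one_iff] at hconj
    exact absurd hconj (F.e_ne (by decide))
  · exact Or.inl (by rwa [zpow_one] at hconj)
  · refine Or.inr (hconj.trans (eq_inv_of_mul_eq_one_left ?_))
    rw [zpow_two, mul_assoc, F.J_cube (F.e_mem 1)]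

end Six

end Cfsg.Lib.SymNineLocal
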