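import Cfsg.Agent.LocalThree.SymNineLocal.Cents
import Cfsg.Agent.LocalThree.SymNineLocal.SixIso

/-!
Computations for the case of an extension of the symmetric group of degree six.
-/

set_option autoImplicit false
set_option maxRecDepth 100000
set_option synthInstance.maxSize 4096
set_option maxHeartbeats 1000000

namespace Cfsg.Lib.SymNineLocal

open Equiv

/-- The number of fixed vectors. -/
def fixC' (m : Fin 48) : ℕ := (Finset.univ.filter fun v : Fin 27 => actM m v = v).card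

/-- The central double transposition. -/
def dd : Perm (Fin 6) := swap 0 1 * swap 2 5

/-- Its centraliser. -/
def RH (h : Perm (Fin 6)) : Prop := h * dd = dd * h

instance : DecidablePred RH := fun _ => inferInstanceAs (Decidable (_ = _))

/-- The eight products of three transpositions. -/
def thList : List (Perm (Fin 6)) :=
  [1, swap 0 1, swap 3 4, swap 2 5, swap 0 1 * swap 3 4, swap 0 1 * swap 2 5, swap 3 4 * swap 2 5,
    swap 0 1 * swap 3 4 * swap 2 5]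

/-- The group of three transpositions. -/
def TH (h : Perm (Fin 6)) : Prop := h ∈ thList

instance : DecidablePred TH := fun _ => inferInstanceAs (Decidable (_ ∈ _))

/-- The element permuting the three transpositions. -/
def yh : Perm (Fin 6) := swap 0 3 * swap 3 2 * (swap 1 4 * swap 4 5)

theorem six_classes_mul : ∀ h : Perm (Fin 6), h * h = 1 → h ≠ 1 → ∃ g : Perm (Fin 6),
    g * h = swap 0 1 * g ∨ g * h = swap 0 1 * swap 3 4 * g ∨ g * h = bw * g := by decide +kernel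

theorem six_classes (h : Perm (Fin 6)) (h2 : h * h = 1) (hne : h ≠ 1) : ∃ g : Perm (Fin 6),
    g * h * g⁻¹ = swap 0 1 ∨ g * h * g⁻¹ = swap 0 1 * swap 3 4 ∨ g * h * g⁻¹ = bw := by
  obtain ⟨g, e⟩ := six_classes_mul h h2 hne
  exact ⟨g, by simpa only [mul_inv_eq_iff_eq_mul] using e⟩

theorem transps_list : ∀ a b : Fin 6, a ≠ b → RH (swap a b) →
    swap a b = swap 0 1 ∨ swap a b = swap 3 4 ∨ swap a b = swap 2 5 := by decide +kernel

theorem three_transps : (∀ h : Perm (Fin 6), (∃ a b : Fin 6, a ≠ b ∧ h = swap a b) → RH h →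
      h = swap 0 1 ∨ h = swap 3 4 ∨ h = swap 2 5) ∧
    RH (swap 0 1) ∧ RH (swap 3 4) ∧ RH (swap 2 5) ∧
    (∃ g : Perm (Fin 6), g * swap 0 1 * g⁻¹ = swap 2 5) :=
  ⟨fun h ⟨a, b, hab, e⟩ => e ▸ transps_list a b hab, by decide +kernel, by decide +kernel, by decide +kernel,
    ⟨swap 0 2 * swap 1 5, by decide +kernel⟩⟩

theorem is_swap : ∀ g : Perm (Fin 6), ∀ h : Perm (Fin 6), g * h * g⁻¹ = swap 0 1 → h = swap (g⁻¹ 0) (g⁻¹ 1) :=
  fun g h e => by
    rw [show h = g⁻¹ * (g * h * g⁻¹) * g by group, e, Equiv.swap_apply_apply]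
    group

theorem th_products : ∀ a ∈ thList, ∀ b ∈ thList, a * b ∈ thList ∧ a⁻¹ = a ∧ b * a = a * b := by decide +kernel

theorem th_elements : ∀ a ∈ thList, RH a ∧ (a * (a * a) = 1 → a = 1) ∧
    ∀ b ∈ ([swap 0 1, swap 3 4, swap 2 5] : List (Perm (Fin 6))), a * b = b * a := by decide +kernel

theorem th_centraliser : ∀ h : Perm (Fin 6), h * swap 0 1 = swap 0 1 * h → h * swap 3 4 = swap 3 4 * h →
    h * swap 2 5 = swap 2 5 * h → TH h := by decide +kernel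

theorem th_facts : (∀ a b, TH a → TH b → TH (a * b) ∧ a⁻¹ = a) ∧ TH 1 ∧
    (∀ h : Perm (Fin 6), (∀ a, a = swap 0 1 ∨ a = swap 3 4 ∨ a = swap 2 5 → h * a = a * h) → TH h) ∧
    (∀ a, TH a → RH a) ∧ (∀ a, TH a → ∀ b, b = swap 0 1 ∨ b = swap 3 4 ∨ b = swap 2 5 → a * b = b * a) ∧
    (∀ h, TH h → h * (h * h) = 1 → h = 1) :=
  ⟨fun a b ha hb => ⟨(th_products a ha b hb).1, (th_products a ha b hb).2.1⟩, List.mem_cons_self ..,
    fun h hh => th_centraliser h (hh _ (Or.inl rfl)) (hh _ (Or.inr (Or.inl rfl))) (hh _ (Or.inr (Or.inr rfl))),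
    fun a ha => (th_elements a ha).1, fun a ha b hb => (th_elements a ha).2.2 b (by simpa using hb),
    fun a ha => (th_elements a ha).2.1⟩

theorem th_central : ∀ d ∈ thList, d * (swap 0 2 * swap 1 5) = swap 0 2 * swap 1 5 * d →
    Perm.sign d = 1 → d ≠ 1 → d = dd := by decide +kernel

theorem rh_gens : RH (swap 0 1) ∧ RH (swap 3 4) ∧ RH (swap 2 5) ∧ RH (swap 0 2 * swap 1 5) ∧ dd ≠ 1 := by
  decide +kernel

theorem rh_norm (h : Perm (Fin 6)) (hh : ∀ a : Perm (Fin 6), RH a → RH (h * a * h⁻¹)) : RH h := by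
  have hc : ∀ a : Perm (Fin 6), RH a → h⁻¹ * dd * h * a = a * (h⁻¹ * dd * h) := fun a ha => by
    have e := congrArg (fun y => h⁻¹ * y * h) (hh a ha)
    rw [show h⁻¹ * (h * a * h⁻¹ * dd) * h = a * (h⁻¹ * dd * h) by group,
      show h⁻¹ * (dd * (h * a * h⁻¹)) * h = h⁻¹ * dd * h * a by group] at e
    exact e.symm
  obtain ⟨g1, g2, g3, g4, g5⟩ := rh_gens
  have hs : Perm.sign (h⁻¹ * dd * h) = 1 := by
    simp [dd, Perm.sign_swap, mul_comm, Int.units_mul_self]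
  have e := th_central _ (th_centraliser _ (hc _ g1) (hc _ g2) (hc _ g3)) (hc _ g4) hs fun e1 => g5 (by
    have := congrArg (fun y => h * y * h⁻¹) e1
    simpa [mul_assoc] using this)
  show h * dd = dd * h
  calc h * dd = h * (h⁻¹ * dd * h) := by rw [e]
    _ = _ := by group

theorem rh_facts : RH 1 ∧ (∀ a b : Perm (Fin 6), a * dd = dd * a → b * dd = dd * b → (a * b) * dd = dd * (a * b)) ∧
    (Finset.univ.filter fun h : Perm (Fin 6) => RH h).card = 16 :=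
  ⟨by decide +kernel, fun a b ha hb => by rw [mul_assoc, hb, ← mul_assoc, ha, mul_assoc], by decide +kernel⟩

theorem yh_facts : yh * (yh * yh) = 1 ∧ yh ≠ 1 ∧ yh * swap 0 1 * yh⁻¹ = swap 3 4 ∧
    yh * swap 3 4 * yh⁻¹ = swap 2 5 ∧ yh * swap 2 5 * yh⁻¹ = swap 0 1 ∧ (∀ h, TH h → TH (yh * h * yh⁻¹)) ∧
    (∃ g : Perm (Fin 6), g * (ca * cb) * g⁻¹ = yh) := by decide +kernel

theorem double_cube : ∀ h : Perm (Fin 6), h * (swap 0 1 * swap 3 4) = swap 0 1 * swap 3 4 * h →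
    h * (h * h) = 1 → h = 1 := by decide +kernel

theorem code_facts : (∀ w : Fin 27, actM 6 w = w ↔ w ∈ span2 3 9) ∧ fixC' 6 = 9 ∧
    (∀ n : Fin 48, mulM n 6 = mulM 6 n → mulM n (mulM n n) = 0 → n = 0) ∧
    (∀ m : Fin 48, ∀ w ∈ span2 3 9, actM m 13 ≠ w) ∧
    (∀ w ∈ span2 3 9, w ≠ 0 → NoFix 3 w) ∧
    (NoFix 3 12 ∧ ExpTwo 3 12 ∧ fixC' 7 = 3 ∧ actM 7 12 = 12 ∧ actM 36 1 = 1 ∧ fixC' 36 = 3) ∧
    (mulM 12 24 = 36 ∧ mulM 6 12 = 18 ∧ mulM 6 36 = 42 ∧ mulM 6 1 = 7 ∧ actM 1 13 = 13) ∧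
    (∃ n n', mulM n n' = 0 ∧ mulM n' n = 0 ∧ mulM (mulM n 18) n' = 36) ∧
    (∃ n n', mulM n n' = 0 ∧ mulM n' n = 0 ∧ mulM (mulM n 6) n' = 12) ∧
    (mulM (ofP 3) 42 = mulM 42 (ofP 3) ∧ ofP 3 ≠ 0 ∧ actM (ofP 3) 13 = 13 ∧ mulM (ofP 3) (mulM (ofP 3) (ofP 3)) = 0) := by
  decide +kernel

theorem pair_vectors : ∀ u ∈ ([0, 1, 2] : List (Fin 27)), ∀ i ∈ ([12, ng 12] : List (Fin 27)),
    (NoFix 3 (ad u i) ∧ ExpTwo 3 (ad u i)) ∨ ∃ m, actM m 13 = ad u i := by decide +kernel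

end Cfsg.Lib.SymNineLocal
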