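import Cfsg.Agent.LocalThree.SymNineLocal.SixTransfer
import Cfsg.Agent.LocalThree.AltNineLocal.Main
import Cfsg.Agent.SolvStruct.AltAut

/-!
Recognition of the symmetric group of degree nine through its subgroup of index two.
-/

set_option autoImplicit false
set_option linter.unusedSectionVars false
set_option maxRecDepth 8000
set_option synthInstance.maxSize 4000

namespace Cfsg.Lib.SymNineLocal

open Subgroup Equiv
open scoped Pointwise

universe u

/-- The code of an element of the monomial group. -/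
def monCode (a : Fin 24) : Fin 48 :=
  Fin.ofNat 48 (((List.range 48).find? fun m => (List.range 27).all fun v =>
    decide (Cfsg.Lib.Monomial.actV a (Fin.ofNat 27 v) = actM (Fin.ofNat 48 m) (Fin.ofNat 27 v))).getD 0)

/-- The sign of a code as a permutation of nine points. -/
def codeSign (m : Fin 48) : ℤˣ :=
  if (m.val / 6 % 2 + m.val / 6 / 2 % 2 + m.val / 6 / 4 % 2 + (if m.val % 6 ∈ [1, 2, 5] then 1 else 0)) % 2 = 0
  then 1 else -1

theorem mon_facts : (∀ v w : Fin 27, Cfsg.Lib.Monomial.addV v w = ad v w) ∧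
    (∀ a v, Cfsg.Lib.Monomial.actV a v = actM (monCode a) v) ∧
    (∀ a b, monCode (Cfsg.Lib.Monomial.mulA a b) = mulM (monCode a) (monCode b)) ∧
    (∀ a b, monCode a = monCode b → a = b) ∧ monCode Cfsg.Lib.Monomial.oneA = 0 ∧
    (∀ a, codeSign (monCode a) = 1) ∧ (∀ m, codeSign m = 1 → ∃ a, monCode a = m) := by decide +kernel

theorem sign_code : (∀ m n, codeSign (mulM m n) = codeSign m * codeSign n) ∧ codeSign 0 = 1 ∧ codeSign 6 = -1 ∧
    codeSign 1 = -1 ∧ codeSign 2 = -1 ∧ Perm.sign bw = -1 ∧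
    (∃ n n', mulM n n' = 0 ∧ mulM n' n = 0 ∧ mulM (mulM n 1) n' = 2) ∧
    (∀ p : Fin 6, ofP p = 0 ∨ ofP p = 1 ∨ ofP p = 2 ∨ ofP p = mulM 1 2 ∨ ofP p = mulM 2 1 ∨ ofP p = mulM 1 (mulM 2 1)) ∧
    (∀ k : Fin 4, inX k 6 → k = 3) ∧ ∀ v : Fin 27, (∀ m, codeSign m = 1 → actM m v = v) → v = 0 := by decide +kernel

namespace Six

variable {G : Type u} [Group G] [Finite G] {F : Frame G} (S : Six F)

include S

theorem value_ψ (V : G →* ℤˣ) (hV : V S.s = -1) : ∀ h, V (S.ψ h) = Perm.sign h := by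
  intro h
  induction h using Equiv.Perm.swap_induction_on with
  | one => rw [map_one, map_one, map_one]
  | swap_mul f a b hab ih =>
    rw [map_mul, map_mul, ih, map_mul, Perm.sign_swap hab]
    obtain ⟨c, hc⟩ := isConj_iff.1 (S.transp_conj a b hab)
    rw [← hc, map_mul, map_mul, map_inv, hV, mul_comm (V c) (-1), mul_assoc, mul_assoc, mul_inv_cancel_left]

theorem value_σ (V : G →* ℤˣ) (hV : V S.s = -1) : ∀ m, V (S.σ m) = codeSign m := by
  obtain ⟨hmul, h0, h6, h1, h2, hbw, ⟨n, n', hn, hn', e12⟩, hgen, hk, -⟩ := sign_code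
  have v1 : V (S.σ 1) = codeSign 1 := by rw [← S.ψ_w, S.value_ψ V hV, hbw, h1]
  have v6 : V (S.σ 6) = codeSign 6 := hV.trans h6.symm
  have v0 : V (S.σ 0) = codeSign 0 := by rw [S.σ_zero, map_one, h0]
  have v2 : V (S.σ 2) = codeSign 2 := by
    rw [← e12, ← S.conj_code n n' hn' 1, map_mul, map_mul, map_inv, mul_comm (V (S.σ n)), mul_inv_cancel_right, v1,
      e12, h1, h2]
  let X : Fin 48 → Prop := fun m => V (S.σ m) = codeSign m
  have hm : ∀ a b, X a → X b → X (mulM a b) := fun a b ha hb => by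
    show V (S.σ (mulM a b)) = codeSign (mulM a b)
    rw [S.σ_mul, map_mul, ha, hb, hmul]
  obtain ⟨k, hk'⟩ := exists_kind X (fun p => by
    rcases hgen p with e | e | e | e | e | e <;> rw [e]
    exacts [v0, v1, v2, hm _ _ v1 v2, hm _ _ v2 v1, hm _ _ v1 (hm _ _ v2 v1)]) hm
  have h3 := hk k ((hk' 6).1 v6)
  exact fun m => (hk' m).2 (h3 ▸ inX_all m)

/-- The recognition. -/
theorem recognise : F.J.Normal ∨ Nonempty (G ≃* Perm (Fin 9)) := by
  obtain ⟨V, hV⟩ := S.exists_sign
  have hσV := S.value_σ V hV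
  have hJV : ∀ a ∈ F.J, V a = 1 := fun a ha => by
    have h := congrArg V (F.J_cube ha)
    rw [map_mul, map_mul, map_one, Int.units_mul_self, mul_one] at h
    exact h
  let G0 : Subgroup G := V.ker
  have hJ0 : F.J ≤ G0 := fun a ha => MonoidHom.mem_ker.2 (hJV a ha)
  have hσ0 : ∀ a, S.σ (monCode a) ∈ G0 := fun a => MonoidHom.mem_ker.2 (by rw [hσV, mon_facts.2.2.2.2.2.1])
  let φ : Cfsg.Lib.Monomial.Mon →* G0 := MonoidHom.mk'
    (fun k => ⟨F.e k.v * S.σ (monCode k.a), mul_mem (hJ0 (F.e_mem _)) (hσ0 _)⟩) fun k l => Subtype.ext (by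
      show F.e (Cfsg.Lib.Monomial.addV k.v (Cfsg.Lib.Monomial.actV k.a l.v)) *
        S.σ (monCode (Cfsg.Lib.Monomial.mulA k.a l.a)) = F.e k.v * S.σ (monCode k.a) * (F.e l.v * S.σ (monCode l.a))
      rw [mon_facts.1, mon_facts.2.1, mon_facts.2.2.1, S.σ_mul, F.e_add, ← (S.σ_mul_acts (monCode k.a)) l.v]
      group)
  have hacts : ∀ k, F.Acts (φ k : G) (monCode k.a) := fun k => by
    have := F.acts_mul (F.acts_J (F.e_mem k.v)) (S.σ_mul_acts (monCode k.a))
    rwa [(m_facts.1 _).1] at this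
  have hφ : Function.Injective φ := fun k l h => by
    have h' : (φ k : G) = φ l := congrArg Subtype.val h
    have ha : k.a = l.a := mon_facts.2.2.2.1 _ _ (F.acts_unique (hacts k) (h'.symm ▸ hacts l))
    refine Cfsg.Lib.Monomial.Mon.ext ?_ ha
    have e : F.e k.v * S.σ (monCode k.a) = F.e l.v * S.σ (monCode l.a) := h'
    rw [ha] at e
    exact F.e_inj (mul_right_cancel e)
  have hnorm : φ.range = normalizer ((F.J.subgroupOf G0 : Subgroup G0) : Set G0) := by
    rw [← Subgroup.subgroupOf_normalizer_eq hJ0]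
    refine le_antisymm (fun g ⟨k, hk⟩ => hk ▸ mem_subgroupOf.2 (F.acts_mem (hacts k))) fun g hg => ?_
    obtain ⟨m, -, hm⟩ := F.mono _ (mem_subgroupOf.1 hg)
    obtain ⟨n, hn⟩ : ∃ n, mulM m n = 0 := (show ∀ m, ∃ n, mulM m n = 0 by decide +kernel) m
    have hj : (g : G) * (S.σ m)⁻¹ ∈ F.J := by
      rw [show (S.σ m)⁻¹ = S.σ n from inv_eq_of_mul_eq_one_right (by rw [← S.σ_mul, hn, S.σ_zero])]
      exact F.ker (hn ▸ F.acts_mul hm (S.σ_mul_acts n))
    obtain ⟨v, hv⟩ := (F.memJ _).1 hj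
    have hg1 : (g : G) = F.e v * S.σ m := by rw [hv, inv_mul_cancel_right]
    have hs : codeSign m = 1 := by
      have := MonoidHom.mem_ker.1 g.2
      rwa [hg1, map_mul, hJV _ (F.e_mem v), one_mul, hσV] at this
    obtain ⟨a, rfl⟩ := mon_facts.2.2.2.2.2.2 m hs
    exact ⟨⟨v, a⟩, Subtype.ext hg1.symm⟩
  let L : Cfsg.Lib.AltNineLocal.Loc G0 :=
    { φ := φ, inj := hφ, J := F.J.subgroupOf G0, norm := hnorm
      memJ := fun k => by
        rw [mem_subgroupOf]
        constructor
        · intro h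
          show k.a = Cfsg.Lib.Monomial.oneA
          exact mon_facts.2.2.2.1 _ _ ((F.acts_unique (hacts k) (F.acts_J h)).trans mon_facts.2.2.2.2.1.symm)
        · intro h
          have h' : k.a = Cfsg.Lib.Monomial.oneA := h
          show F.e k.v * S.σ (monCode k.a) ∈ F.J
          rw [h', mon_facts.2.2.2.2.1, S.σ_zero, mul_one]
          exact F.e_mem _
      core := fun v hv => by
        obtain ⟨C, hC⟩ : ∃ C : Subgroup G0, C = centralizer ({φ (Cfsg.Lib.AltNineLocal.tv v)} : Set G0) := ⟨_, rfl⟩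
        rw [← hC]
        have hvJ : ((φ (Cfsg.Lib.AltNineLocal.tv v) : G0) : G) ∈ F.J := by
          show F.e v * S.σ (monCode Cfsg.Lib.Monomial.oneA) ∈ F.J
          rw [mon_facts.2.2.2.2.1, S.σ_zero, mul_one]
          exact F.e_mem v
        let K : Subgroup G := ((Cfsg.pPrimeCore 3 C).map C.subtype).map G0.subtype
        have hK : K = ⊥ := F.sig K (by
          rw [Subgroup.card_map_of_injective G0.subtype_injective, Subgroup.card_map_of_injective C.subtype_injective]
          exact Cfsg.Lib.Components.coprime_card_pPrimeCore 3) (fun a ha => by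
          have haC : (⟨a, hJ0 ha⟩ : G0) ∈ C := hC ▸ mem_centralizer_singleton_iff.2 (Subtype.ext (F.J_comm ha hvJ))
          refine Subgroup.mem_normalizer_iff_map_conj_eq.2 (Subgroup.eq_of_le_of_card_ge ?_
            (le_of_eq (Subgroup.card_map_of_injective (MulAut.conj a).injective).symm))
          rintro _ ⟨_, ⟨_, ⟨c, hc, rfl⟩, rfl⟩, rfl⟩
          exact ⟨_, ⟨(⟨_, haC⟩ : C) * c * (⟨_, haC⟩ : C)⁻¹, Subgroup.Normal.conj_mem inferInstance c hc _, rfl⟩, rfl⟩)
        rwa [Subgroup.map_eq_bot_iff, Subgroup.ker_subtype, le_bot_iff, Subgroup.map_eq_bot_iff, Subgroup.ker_subtype,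
          le_bot_iff] at hK }
  rcases L.outcome with htop | he9
  · left
    rw [← Subgroup.normalizer_eq_top_iff, eq_top_iff]
    have h0 : ∀ g : G, V g = 1 → g ∈ normalizer (F.J : Set G) := fun g hg => by
      obtain ⟨k, hk⟩ : (⟨g, MonoidHom.mem_ker.2 hg⟩ : G0) ∈ φ.range :=
        (show φ.range = ⊤ from htop).symm ▸ Subgroup.mem_top _
      have e : (φ k : G) = g := congrArg Subtype.val hk
      exact e ▸ F.acts_mem (hacts k)
    intro g _
    rcases Int.units_eq_one_or (V g) with h | h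
    · exact h0 g h
    · have := mul_mem (inv_mem (F.acts_mem (S.σ_mul_acts 6))) (h0 (S.s * g) (by rw [map_mul, hV, h]; decide))
      rwa [inv_mul_cancel_left] at this
  · right
    obtain ⟨e9⟩ := he9
    let eP := MulEquiv.ofBijective _ (Cfsg.Lib.SolvStruct.AltAut.conjNormal_bijective (n := 9) (by norm_num) (by norm_num))
    let f : G →* Perm (Fin 9) :=
      eP.symm.toMonoidHom.comp ((MulAut.congr e9).toMonoidHom.comp (MulAut.conjNormal : G →* MulAut G0))
    have hinj : Function.Injective f := by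
      rw [injective_iff_map_eq_one]
      intro g hg
      have hc : (MulAut.conjNormal g : MulAut G0) = 1 := by
        have h1 : (MulAut.congr e9) (MulAut.conjNormal g) = 1 := eP.symm.injective (hg.trans (map_one _).symm)
        exact (MulAut.congr e9).injective (h1.trans (map_one _).symm)
      have hcom : ∀ a ∈ G0, g * a = a * g := fun a ha => by
        have := congrArg Subtype.val (DFunLike.congr_fun hc ⟨a, ha⟩)
        simp only [MulAut.conjNormal_apply, MulAut.one_apply] at this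
        exact mul_inv_eq_iff_eq_mul.1 this
      obtain ⟨v, rfl⟩ := (F.memJ _).1 (F.cJ (mem_centralizer_iff.2 fun a ha => (hcom a (hJ0 ha)).symm))
      rw [sign_code.2.2.2.2.2.2.2.2.2 v fun m hm => ?_, F.e_zero]
      refine F.e_inj ?_
      rw [← S.σ_mul_acts m, ← hcom _ (MonoidHom.mem_ker.2 ((hσV m).trans hm)), mul_inv_cancel_right]
    refine ⟨MulEquiv.ofBijective f ((Nat.bijective_iff_injective_and_card _).2 ⟨hinj, ?_⟩)⟩
    have h2 : G0.index = 2 := by
      rw [Subgroup.index_ker, MonoidHom.range_eq_top.2 fun u => ?_, Nat.card_congr Subgroup.topEquiv.toEquiv,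
        Nat.card_eq_fintype_card]
      · rfl
      · rcases Int.units_eq_one_or u with rfl | rfl
        exacts [⟨1, map_one _⟩, ⟨S.s, hV⟩]
    rw [← G0.card_mul_index, h2, Nat.card_congr e9.toEquiv, mul_comm, two_mul_nat_card_alternatingGroup]

end Six

end Cfsg.Lib.SymNineLocal
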