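import Cfsg.Agent.LocalThree.SymNineLocal.Six
import Cfsg.Agent.LocalThree.SymNineLocal.SixData

/-!
The involutions of the normaliser of the line which are conjugate to the flip.
-/

set_option autoImplicit false
set_option linter.unusedSectionVars false
set_option maxRecDepth 8000
set_option synthInstance.maxSize 4000

namespace Cfsg.Lib.SymNineLocal

open Subgroup Equiv
open scoped Pointwise

universe u

variable {G : Type u} [Group G] [Finite G]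

/-- Three-subgroups of a group are conjugate into an absorbing one. -/
theorem conj_into_absorb (C P : Subgroup G) (hPC : P ≤ C) (hP : IsPGroup 3 P)
    (h : ∀ g ∈ C, g ∈ normalizer (P : Set G) → ∀ n : ℕ, g ^ 3 ^ n = 1 → g ∈ P)
    {Q : Subgroup G} (hQC : Q ≤ C) (hQ : IsPGroup 3 Q) : ∃ c ∈ C, ∀ a ∈ Q, c * a * c⁻¹ ∈ P := by
  haveI : Fact (Nat.Prime 3) := ⟨Nat.prime_three⟩
  obtain ⟨S, hS⟩ := sylow_of_absorb (P.subgroupOf C) (hP.comap_of_injective C.subtype C.subtype_injective) (by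
    intro g hg n hn
    rw [← Subgroup.subgroupOf_normalizer_eq hPC] at hg
    exact h g g.2 hg n (show (g : G) ^ 3 ^ n = 1 from congrArg Subtype.val hn))
  obtain ⟨T, hT⟩ := (hQ.comap_of_injective C.subtype C.subtype_injective).exists_le_sylow
  obtain ⟨c, hc⟩ := MulAction.exists_smul_eq C T S
  refine ⟨c, c.2, fun a ha => ?_⟩
  have hm : (c * ⟨a, hQC ha⟩ * c⁻¹ : C) ∈ (S : Subgroup C) := by
    rw [← hc, Sylow.coe_subgroup_smul]; exact ⟨⟨a, hQC ha⟩, hT ha, rfl⟩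
  rw [hS, mem_subgroupOf] at hm
  exact hm

namespace Six

variable {F : Frame G} (S : Six F)

include S

theorem σ_mul_acts (m : Fin 48) : F.Acts (S.σ m) m := (S.σ_spec m).1

theorem sq_of {g : G} (h : IsConj S.s g) : g * g = 1 := by
  obtain ⟨c, rfl⟩ := isConj_iff.1 h
  rw [show c * S.s * c⁻¹ * (c * S.s * c⁻¹) = c * (S.s * S.s) * c⁻¹ by group, S.s_sq, mul_one, mul_inv_cancel]

theorem exists_plane : ∃ P : Subgroup G, P ≤ F.J ∧ Nat.card P = 9 ∧ (∀ a ∈ P, Commute a S.s) ∧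
    ∀ g, g ∈ P ↔ ∃ w ∈ span2 3 9, F.e w = g := by
  obtain ⟨P, hPJ, hP, hPc⟩ := F.exists_span 3 9
  refine ⟨P, hPJ, hPc.trans (by decide +kernel), fun a ha => ?_, hP⟩
  obtain ⟨w, hw, rfl⟩ := (hP a).1 ha
  have e := S.σ_mul_acts 6 w
  rw [(code_facts.1 w).2 hw, mul_inv_eq_iff_eq_mul] at e
  exact e.symm

/-- A three-subgroup commuting with a conjugate of the flip is conjugate into the plane of the flip. -/
theorem into_plane {g : G} {Q : Subgroup G} (hQ : IsPGroup 3 Q) (hc : ∀ a ∈ Q, Commute a (g * S.s * g⁻¹)) :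
    ∃ c : G, ∀ a ∈ Q, ∃ w ∈ span2 3 9, c * a * c⁻¹ = F.e w := by
  obtain ⟨P, hPJ, hP9, hPs, hP⟩ := S.exists_plane
  obtain ⟨c, -, hcc⟩ := conj_into_absorb (centralizer ({S.s} : Set G)) P
    (fun a ha => mem_centralizer_singleton_iff.2 (hPs a ha).eq) (IsPGroup.of_card (n := 2) hP9) (by
      intro a ha haN n hn
      obtain ⟨m, -, hm⟩ := F.mono a (F.plane_norm hPJ hP9 haN)
      have hm0 := code_facts.2.2.1 m (F.acts_comm hm (S.σ_mul_acts 6) (mem_centralizer_singleton_iff.1 ha))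
        (F.acts_cube hm hn)
      obtain ⟨w, rfl⟩ := (F.memJ _).1 (F.ker (hm0 ▸ hm))
      refine (hP _).2 ⟨w, (code_facts.1 w).1 (F.e_inj ?_), rfl⟩
      rw [← S.σ_mul_acts 6, (mem_centralizer_singleton_iff.1 ha).symm, mul_inv_cancel_right])
    (Q := Q.map (MulAut.conj g⁻¹).toMonoidHom) (by
      rintro _ ⟨a, ha, rfl⟩
      refine mem_centralizer_singleton_iff.2 ?_
      show g⁻¹ * a * g⁻¹⁻¹ * S.s = S.s * (g⁻¹ * a * g⁻¹⁻¹)
      calc g⁻¹ * a * g⁻¹⁻¹ * S.s = g⁻¹ * (a * (g * S.s * g⁻¹)) * g := by group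
        _ = _ := by rw [(hc a ha).eq]; group) (hQ.map _)
  refine ⟨c * g⁻¹, fun a ha => ?_⟩
  obtain ⟨w, hw, e⟩ := (hP _).1 (hcc _ ⟨a, ha, rfl⟩)
  refine ⟨w, hw, ?_⟩
  rw [e]
  show c * g⁻¹ * a * (c * g⁻¹)⁻¹ = c * (g⁻¹ * a * g⁻¹⁻¹) * c⁻¹
  group

theorem zp3 {a : G} (ha : a ^ 3 = 1) : IsPGroup 3 (zpowers a) := fun ⟨b, hb⟩ => by
  obtain ⟨i, rfl⟩ := hb
  exact ⟨1, Subtype.ext (by
    rw [pow_one, SubmonoidClass.coe_pow, Subgroup.coe_one, ← zpow_natCast, ← zpow_mul, mul_comm, zpow_mul,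
      zpow_natCast, ha, one_zpow])⟩

theorem into_plane_one {g a : G} (ha : a ^ 3 = 1) (hc : Commute a (g * S.s * g⁻¹)) :
    ∃ c : G, ∃ w ∈ span2 3 9, c * a * c⁻¹ = F.e w := by
  obtain ⟨c, h⟩ := S.into_plane (zp3 S ha) (g := g) fun b hb => by
    obtain ⟨i, rfl⟩ := hb
    exact hc.zpow_left i
  exact ⟨c, h a (mem_zpowers a)⟩

theorem not_one (g : G) : g * S.s * g⁻¹ ≠ S.σ 1 := by
  intro e
  obtain ⟨c, w, hw, hcw⟩ := S.into_plane_one (g := g) (a := F.e 13)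
    (by rw [pow_succ', pow_two, F.J_cube (F.e_mem 13)]) (by
      rw [e]
      have h := S.σ_mul_acts 1 13
      rw [code_facts.2.2.2.2.2.2.1.2.2.2.2, mul_inv_eq_iff_eq_mul] at h
      exact h.symm)
  obtain ⟨h, hh, e'⟩ := F.fusion (F.e_mem 13) (g := c) (hcw ▸ F.e_mem w)
  obtain ⟨m, -, hm⟩ := F.mono h hh
  rw [hm 13, hcw] at e'
  exact code_facts.2.2.2.1 m w hw (F.e_inj e')

theorem not_neg (g : G) : g * S.s * g⁻¹ ≠ S.σ 42 := by
  intro e
  obtain ⟨-, -, -, -, hnf, -, -, -, -, ⟨o1, o2, o3, o4⟩⟩ := code_facts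
  obtain ⟨a, hadef⟩ : ∃ a, a = S.σ (ofP 3) := ⟨_, rfl⟩
  have ha3 : a ^ 3 = 1 := by rw [hadef, pow_succ', pow_two, ← S.σ_mul, ← S.σ_mul, o4, S.σ_zero]
  have hJ : a ∉ F.J := fun h => o2 (F.acts_unique (hadef ▸ S.σ_mul_acts _) (F.acts_J h))
  have ha13 : Commute a (F.e 13) := by
    have h := S.σ_mul_acts (ofP 3) 13
    rw [o3, mul_inv_eq_iff_eq_mul] at h
    exact hadef ▸ h
  obtain ⟨c, w, hw, hcw⟩ := S.into_plane_one (g := g) ha3 (by
    rw [e, hadef]; show S.σ _ * S.σ _ = S.σ _ * S.σ _; rw [← S.σ_mul, ← S.σ_mul, o1])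
  have hw0 : w ≠ 0 := fun h0 => by
    rw [h0, F.e_zero, conj_eq_one_iff] at hcw
    exact hJ (hcw ▸ one_mem _)
  have hwn : NoFix F.k w := S.hk ▸ hnf w hw hw0
  obtain ⟨k, hk, hkk⟩ := conj_into_absorb (centralizer ({F.e w} : Set G)) F.J
    (fun b hb => mem_centralizer_singleton_iff.2 (F.J_comm hb (F.e_mem w))) F.pgroup_J (by
      intro b hb hbN n hn
      obtain ⟨m, hm', hm⟩ := F.mono b hbN
      exact F.ker (hwn m hm' (F.acts_cube hm hn)
        (F.e_inj (by rw [← hm, mem_centralizer_singleton_iff.1 hb, mul_inv_cancel_right])) ▸ hm))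
    (Q := zpowers (c * F.e 13 * c⁻¹)) (by
      refine zpowers_le.2 (mem_centralizer_singleton_iff.2 ?_)
      rw [← hcw, show c * F.e 13 * c⁻¹ * (c * a * c⁻¹) = c * (F.e 13 * a) * c⁻¹ by group, ha13.symm.eq]
      group) (zp3 S (by rw [conj_pow, pow_succ', pow_two, F.J_cube (F.e_mem 13), mul_one, mul_inv_cancel]))
  have h13 : (k * c) * F.e 13 * (k * c)⁻¹ ∈ F.J := by
    have := hkk _ (mem_zpowers _)
    rwa [show k * (c * F.e 13 * c⁻¹) * k⁻¹ = k * c * F.e 13 * (k * c)⁻¹ by group] at this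
  have hka : (k * c) * a * (k * c)⁻¹ = F.e w := by
    rw [show k * c * a * (k * c)⁻¹ = k * (c * a * c⁻¹) * k⁻¹ by group, hcw, mem_centralizer_singleton_iff.1 hk,
      mul_inv_cancel_right]
  have hA : F.J.map (MulAut.conj (k * c)⁻¹).toMonoidHom = F.J := F.eq_J (by
      rintro _ ⟨b, hb, rfl⟩
      refine F.cent_diag (mem_centralizer_singleton_iff.2 ?_)
      show (k * c)⁻¹ * b * (k * c)⁻¹⁻¹ * F.e 13 = F.e 13 * ((k * c)⁻¹ * b * (k * c)⁻¹⁻¹)
      calc (k * c)⁻¹ * b * (k * c)⁻¹⁻¹ * F.e 13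
          = (k * c)⁻¹ * (b * (k * c * F.e 13 * (k * c)⁻¹)) * (k * c) := by group
        _ = (k * c)⁻¹ * (k * c * F.e 13 * (k * c)⁻¹ * b) * (k * c) := by rw [F.J_comm hb h13]
        _ = _ := by group)
    (F.pgroup_J.map _) (by rw [Subgroup.card_map_of_injective (MulAut.conj _).injective, F.card_J])
    (by rintro _ ⟨b, hb, rfl⟩ _ ⟨d, hd, rfl⟩; rw [← map_mul, ← map_mul, F.J_comm hb hd])
  refine hJ ?_
  rw [← hA]
  exact ⟨F.e w, F.e_mem w, by rw [← hka]; show (k * c)⁻¹ * (k * c * a * (k * c)⁻¹) * (k * c)⁻¹⁻¹ = a; group⟩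

/-- A conjugate of the flip commuting with a plane. -/
theorem plane_of_fixed (g : G) {a : G} (ha : a ^ 3 = 1) (hc : Commute a (g * S.s * g⁻¹)) :
    ∃ P : Subgroup G, Nat.card P = 9 ∧ a ∈ P ∧ (∀ b ∈ P, b ^ 3 = 1 ∧ Commute b a ∧ Commute b (g * S.s * g⁻¹)) := by
  obtain ⟨P, hPJ, hP9, hPs, hP⟩ := S.exists_plane
  obtain ⟨c, hcC, hcc⟩ := conj_into_absorb (centralizer ({S.s} : Set G)) P
    (fun b hb => mem_centralizer_singleton_iff.2 (hPs b hb).eq) (IsPGroup.of_card (n := 2) hP9) (by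
      intro b hb hbN n hn
      obtain ⟨m, -, hm⟩ := F.mono b (F.plane_norm hPJ hP9 hbN)
      have hm0 := code_facts.2.2.1 m (F.acts_comm hm (S.σ_mul_acts 6) (mem_centralizer_singleton_iff.1 hb))
        (F.acts_cube hm hn)
      obtain ⟨w, rfl⟩ := (F.memJ _).1 (F.ker (hm0 ▸ hm))
      refine (hP _).2 ⟨w, (code_facts.1 w).1 (F.e_inj ?_), rfl⟩
      rw [← S.σ_mul_acts 6, (mem_centralizer_singleton_iff.1 hb).symm, mul_inv_cancel_right])
    (Q := zpowers (g⁻¹ * a * g)) (by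
      refine zpowers_le.2 (mem_centralizer_singleton_iff.2 ?_)
      calc g⁻¹ * a * g * S.s = g⁻¹ * (a * (g * S.s * g⁻¹)) * g := by group
        _ = _ := by rw [hc.eq]; group) (zp3 S (by
      rw [show g⁻¹ * a * g = g⁻¹ * a * g⁻¹⁻¹ by group, conj_pow, ha, mul_one, mul_inv_cancel]))
  refine ⟨P.map (MulAut.conj (g * c⁻¹)).toMonoidHom,
    (Subgroup.card_map_of_injective (MulAut.conj _).injective).trans hP9,
    ⟨c * (g⁻¹ * a * g) * c⁻¹, hcc _ (mem_zpowers _), by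
      show g * c⁻¹ * (c * (g⁻¹ * a * g) * c⁻¹) * (g * c⁻¹)⁻¹ = a; group⟩, ?_⟩
  rintro _ ⟨b, hb, rfl⟩
  show (g * c⁻¹ * b * (g * c⁻¹)⁻¹) ^ 3 = 1 ∧ Commute (g * c⁻¹ * b * (g * c⁻¹)⁻¹) a ∧
    Commute (g * c⁻¹ * b * (g * c⁻¹)⁻¹) (g * S.s * g⁻¹)
  have hb' := hcc _ (mem_zpowers (g⁻¹ * a * g))
  refine ⟨by rw [conj_pow, pow_succ', pow_two, F.J_cube (hPJ hb), mul_one, mul_inv_cancel], ?_, ?_⟩
  · show g * c⁻¹ * b * (g * c⁻¹)⁻¹ * a = a * (g * c⁻¹ * b * (g * c⁻¹)⁻¹)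
    calc g * c⁻¹ * b * (g * c⁻¹)⁻¹ * a = g * c⁻¹ * (b * (c * (g⁻¹ * a * g) * c⁻¹)) * (g * c⁻¹)⁻¹ := by group
      _ = g * c⁻¹ * (c * (g⁻¹ * a * g) * c⁻¹ * b) * (g * c⁻¹)⁻¹ := by rw [F.J_comm (hPJ hb) (hPJ hb')]
      _ = _ := by group
  · have hcs : Commute c S.s := mem_centralizer_singleton_iff.1 hcC
    show g * c⁻¹ * b * (g * c⁻¹)⁻¹ * (g * S.s * g⁻¹) = g * S.s * g⁻¹ * (g * c⁻¹ * b * (g * c⁻¹)⁻¹)
    calc g * c⁻¹ * b * (g * c⁻¹)⁻¹ * (g * S.s * g⁻¹) = g * c⁻¹ * b * (c * S.s) * g⁻¹ := by group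
      _ = g * c⁻¹ * (b * S.s) * c * g⁻¹ := by rw [hcs.eq]; group
      _ = g * c⁻¹ * (S.s * b) * c * g⁻¹ := by rw [(hPs b hb).eq]
      _ = g * (c⁻¹ * S.s) * b * c * g⁻¹ := by group
      _ = g * (S.s * c⁻¹) * b * c * g⁻¹ := by rw [hcs.inv_left.eq]
      _ = _ := by group

theorem few {P : Subgroup G} (h9 : Nat.card P = 9) (L : Finset G) (hL : L.card ≤ 3) (h : ∀ b ∈ P, b ∈ L) : False := by
  have : Nat.card P ≤ L.card := by
    rw [← Nat.card_eq_finsetCard]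
    exact Nat.card_le_card_of_injective (fun b => ⟨b.1, h b.1 b.2⟩) fun a b e => Subtype.ext (congrArg Subtype.val e :)
  omega

theorem not_seven (g : G) : g * S.s * g⁻¹ ≠ S.σ 7 := by
  classical
  intro e
  obtain ⟨-, -, -, -, -, ⟨n12, x12, f7, a7, -, -⟩, -⟩ := code_facts
  obtain ⟨P, hP9, -, hP⟩ := S.plane_of_fixed g (a := F.e 12) (by rw [pow_succ', pow_two, F.J_cube (F.e_mem 12)]) (by
    rw [e]
    have h := S.σ_mul_acts 7 12
    rw [a7, mul_inv_eq_iff_eq_mul] at h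
    exact h.symm)
  refine S.few hP9 ((Finset.univ.filter fun v : Fin 27 => actM 7 v = v).image F.e)
    (Finset.card_image_le.trans (le_of_eq f7)) fun b hb => ?_
  obtain ⟨h3, hb12, hbv⟩ := hP b hb
  obtain ⟨m, hm', hm⟩ := F.mono b (F.point_cent (show (12 : Fin 27) ≠ 0 by decide) (S.hk ▸ n12) (S.hk ▸ x12)
    (mem_centralizer_singleton_iff.2 hb12.eq))
  have hm0 : m = 0 := n12 m (S.hk ▸ hm') (F.acts_cube (n := 1) hm (by rw [pow_one, h3]))
    (F.e_inj (by rw [← hm, hb12.eq, mul_inv_cancel_right]))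
  obtain ⟨w, rfl⟩ := (F.memJ _).1 (F.ker (hm0 ▸ hm))
  refine Finset.mem_image.2 ⟨w, Finset.mem_filter.2 ⟨Finset.mem_univ _, F.e_inj ?_⟩, rfl⟩
  rw [← S.σ_mul_acts 7, ← e, hbv.symm.eq, mul_inv_cancel_right]

theorem ψ_36 : S.ψ (swap 0 1 * swap 3 4) = S.σ 36 := by
  rw [map_mul, S.ψ_u, S.ψ_v, ← S.σ_mul, code_facts.2.2.2.2.2.2.1.1]

theorem not_double (g : G) : g * S.s * g⁻¹ ≠ S.σ 36 := by
  classical
  intro e
  obtain ⟨-, -, -, -, -, ⟨-, -, -, -, a36, -⟩, -⟩ := code_facts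
  obtain ⟨P, hP9, -, hP⟩ := S.plane_of_fixed g (a := F.e 1) (by rw [pow_succ', pow_two, F.J_cube (F.e_mem 1)]) (by
    rw [e]
    have h := S.σ_mul_acts 36 1
    rw [a36, mul_inv_eq_iff_eq_mul] at h
    exact h.symm)
  refine S.few hP9 {F.e 0, F.e 1, F.e 2} Finset.card_le_three fun b hb => ?_
  obtain ⟨h3, hb1, hbv⟩ := hP b hb
  obtain ⟨v, hv, h, rfl⟩ := S.split b hb1
  have hvc : ∀ k, Commute (F.e v) (S.ψ k) := fun k => by
    rcases (show ∀ u ∈ ([0, 1, 2] : List (Fin 27)), u = 0 ∨ u = 1 ∨ u = ad 1 1 by decide +kernel) v hv with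
      r | r | r <;> rw [r]
    · rw [F.e_zero]; exact Commute.one_left _
    · exact (S.ψ_cent k).symm
    · rw [F.e_add]; exact ((S.ψ_cent k).symm.mul_left (S.ψ_cent k).symm)
  have hev : Commute (F.e v) (g * S.s * g⁻¹) := by rw [e, ← S.ψ_36]; exact hvc _
  have hψ : Commute (S.ψ h) (g * S.s * g⁻¹) := by
    have := hev.inv_left.mul_left hbv
    rwa [inv_mul_cancel_left] at this
  have h1 : h = 1 := double_cube h (S.ψ_inj (by
    rw [map_mul, map_mul S.ψ _ h, S.ψ_36, ← e, hψ.eq])) (S.ψ_inj (by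
    rw [(hvc h).mul_pow, pow_succ' (F.e v), pow_two, F.J_cube (F.e_mem v), one_mul, pow_succ', pow_two] at h3
    rw [map_mul, map_mul, h3, map_one]))
  rw [h1, map_one, mul_one]
  simp only [Finset.mem_insert, Finset.mem_singleton]
  rcases List.mem_cons.1 hv with r | hv'
  · exact Or.inl (r ▸ rfl)
  rcases List.mem_cons.1 hv' with r | hv''
  · exact Or.inr (Or.inl (r ▸ rfl))
  · exact Or.inr (Or.inr (by rw [List.mem_singleton.1 hv'']))

theorem conj_code (n n' : Fin 48) (h : mulM n' n = 0) (m : Fin 48) :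
    S.σ n * S.σ m * (S.σ n)⁻¹ = S.σ (mulM (mulM n m) n') := by
  have hh : mulM n n' = 0 := (show ∀ a b : Fin 48, mulM b a = 0 → mulM a b = 0 by decide +kernel) n n' h
  rw [S.σ_mul, S.σ_mul, show (S.σ n)⁻¹ = S.σ n' from inv_eq_of_mul_eq_one_right (by rw [← S.σ_mul, hh, S.σ_zero])]

theorem transp_conj (a b : Fin 6) (hab : a ≠ b) : IsConj S.s (S.ψ (swap a b)) := by
  obtain ⟨n, n', hn, hn', e⟩ := code_facts.2.2.2.2.2.2.2.2.1
  have h1 : IsConj S.s (S.σ 12) := isConj_iff.2 ⟨S.σ n, by rw [s, S.conj_code n n' hn' 6, e]⟩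
  rw [← S.ψ_u] at h1
  exact h1.trans (MonoidHom.map_isConj S.ψ (Equiv.Perm.isConj_swap (show (0 : Fin 6) ≠ 1 by decide) hab))

/-- The conjugates of the flip in the normaliser of the line. -/
theorem conj_cases {v : Fin 27} (hv : v ∈ ([0, 1, 2] : List (Fin 27))) {h : Perm (Fin 6)} :
    (IsConj S.s (F.e v * S.ψ h) → v = 0 ∧ ∃ a b : Fin 6, a ≠ b ∧ h = swap a b) ∧
      (IsConj S.s (F.e v * (S.s * S.ψ h)) → h = 1) := by
  obtain ⟨-, -, -, -, -, -, ⟨c36, c18, c42, c7, -⟩, ⟨n, n', hn, hn', e18⟩, -⟩ := code_facts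
  have hvs : v = 0 ∨ v = 1 ∨ v = ad 1 1 :=
    (show ∀ u ∈ ([0, 1, 2] : List (Fin 27)), u = 0 ∨ u = 1 ∨ u = ad 1 1 by decide +kernel) v hv
  have hvc : ∀ k, Commute (F.e v) (S.ψ k) := fun k => by
    rcases hvs with r | r | r <;> rw [r]
    · rw [F.e_zero]; exact Commute.one_left _
    · exact (S.ψ_cent k).symm
    · rw [F.e_add]; exact ((S.ψ_cent k).symm.mul_left (S.ψ_cent k).symm)
  constructor
  · intro hcj
    have h2 := S.sq_of hcj
    rw [show F.e v * S.ψ h * (F.e v * S.ψ h) = F.e v * (S.ψ h * F.e v) * S.ψ h by group, ← (hvc h).eq,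
      show F.e v * (F.e v * S.ψ h) * S.ψ h = F.e v * F.e v * (S.ψ h * S.ψ h) by group, ← F.e_add, ← map_mul] at h2
    obtain ⟨e1, e2⟩ := S.split_unique
      ((show ∀ v ∈ ([0, 1, 2] : List (Fin 27)), ad v v ∈ ([0, 1, 2] : List (Fin 27)) by decide +kernel) v hv)
      List.mem_cons_self (h := h * h) (k := 1) (by rw [h2, F.e_zero, map_one, one_mul])
    have hv0 : v = 0 := (show ∀ x : Fin 27, ad x x = 0 → x = 0 by decide +kernel) v e1
    subst hv0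
    rw [F.e_zero, one_mul] at hcj
    refine ⟨rfl, ?_⟩
    have hne : h ≠ 1 := fun e => by
      rw [e, map_one] at hcj
      have := isConj_one_left.1 hcj
      exact absurd (F.acts_unique (S.σ_mul_acts 6) (this ▸ F.acts_one)) (by decide)
    obtain ⟨q, hq⟩ := six_classes h e2 hne
    obtain ⟨c, hc⟩ := isConj_iff.1 hcj
    have hcq : S.ψ (q * h * q⁻¹) = (S.ψ q * c) * S.s * (S.ψ q * c)⁻¹ := by
      rw [map_mul, map_mul, map_inv, ← hc]; group
    rcases hq with e | e | e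
    · exact ⟨_, _, fun r => absurd (q⁻¹.injective r) (by decide), is_swap q h e⟩
    · rw [e, S.ψ_36] at hcq; exact absurd hcq.symm (S.not_double _)
    · rw [e, S.ψ_w] at hcq; exact absurd hcq.symm (S.not_one _)
  · intro hcj
    obtain ⟨c, hc⟩ := isConj_iff.1 hcj
    have hsv : S.s * (F.e v)⁻¹ = F.e v * S.s := by
      rw [← F.e_inv, ← mul_inv_eq_iff_eq_mul (b := S.s), S.σ_mul_acts 6]
      exact congrArg F.e ((show ∀ u ∈ ([0, 1, 2] : List (Fin 27)), actM 6 (ng u) = u by decide +kernel) v hv)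
    have hc0 : (F.e v * c) * S.s * (F.e v * c)⁻¹ = S.s * S.ψ h := by
      calc (F.e v * c) * S.s * (F.e v * c)⁻¹ = F.e v * (c * S.s * c⁻¹) * (F.e v)⁻¹ := by group
        _ = F.e v * (F.e v * (S.s * S.ψ h)) * (F.e v)⁻¹ := by rw [hc]
        _ = F.e v * F.e v * (S.s * (S.ψ h * (F.e v)⁻¹)) := by group
        _ = F.e v * F.e v * ((S.s * (F.e v)⁻¹) * S.ψ h) := by rw [← (hvc h).inv_left.eq]; group
        _ = F.e v * (F.e v * F.e v) * (S.s * S.ψ h) := by rw [hsv]; group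
        _ = _ := by rw [F.J_cube (F.e_mem v), one_mul]
    have h2 : h * h = 1 := S.ψ_inj (by
      have := S.sq_of (isConj_iff.2 ⟨_, hc0⟩)
      rw [show S.s * S.ψ h * (S.s * S.ψ h) = S.s * (S.ψ h * S.s) * S.ψ h by group, ← (S.s_comm h).eq,
        show S.s * (S.s * S.ψ h) * S.ψ h = S.s * S.s * (S.ψ h * S.ψ h) by group, S.s_sq, one_mul] at this
      rw [map_mul, this, map_one])
    by_contra hne
    obtain ⟨q, hq⟩ := six_classes h h2 hne
    have hcq : S.s * S.ψ (q * h * q⁻¹) = (S.ψ q * (F.e v * c)) * S.s * (S.ψ q * (F.e v * c))⁻¹ := by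
      rw [show S.ψ q * (F.e v * c) * S.s * (S.ψ q * (F.e v * c))⁻¹ =
        S.ψ q * (F.e v * c * S.s * (F.e v * c)⁻¹) * (S.ψ q)⁻¹ by group, hc0, map_mul, map_mul, map_inv,
        show S.ψ q * (S.s * S.ψ h) * (S.ψ q)⁻¹ = (S.ψ q * S.s) * S.ψ h * (S.ψ q)⁻¹ by group, ← (S.s_comm q).eq]
      group
    rcases hq with e | e | e
    · rw [e, S.ψ_u, s, ← S.σ_mul, c18] at hcq
      have := congrArg (fun x => S.σ n * x * (S.σ n)⁻¹) hcq
      simp only [S.conj_code n n' hn', e18] at this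
      refine S.not_double (S.σ n * (S.ψ q * (F.e v * c))) ?_
      rw [this]; group
    · rw [e, S.ψ_36, s, ← S.σ_mul, c42] at hcq; exact S.not_neg _ hcq.symm
    · rw [e, S.ψ_w, s, ← S.σ_mul, c7] at hcq; exact S.not_seven _ hcq.symm

end Six

end Cfsg.Lib.SymNineLocal
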