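import Cfsg.Agent.LocalThree.SymNineLocal.SixCent

/-!
A subgroup of index two.
-/

set_option autoImplicit false
set_option linter.unusedSectionVars false
set_option maxRecDepth 8000
set_option synthInstance.maxSize 4000

namespace Cfsg.Lib.SymNineLocal

open Subgroup Equiv MulAction
open scoped Pointwise

universe u

variable {G : Type u} [Group G] [Finite G]

/-- The fifteen transpositions. -/
def swaps : Finset (Perm (Fin 6)) :=
  (Finset.univ.filter fun q : Fin 6 × Fin 6 => q.1 ≠ q.2).image fun q => swap q.1 q.2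

theorem swaps_facts : swaps.card = 15 ∧ (∀ h ∈ swaps, Perm.sign h = -1) ∧
    (∀ h, h ∈ swaps ↔ ∃ a b : Fin 6, a ≠ b ∧ h = swap a b) :=
  ⟨by decide +kernel, fun h hh => by
    obtain ⟨q, hq, rfl⟩ := Finset.mem_image.1 hh
    exact Perm.sign_swap (Finset.mem_filter.1 hq).2, fun h => by
    constructor
    · intro hh
      obtain ⟨q, hq, rfl⟩ := Finset.mem_image.1 hh
      exact ⟨q.1, q.2, (Finset.mem_filter.1 hq).2, rfl⟩
    · rintro ⟨a, b, hab, rfl⟩
      exact Finset.mem_image.2 ⟨(a, b), Finset.mem_filter.2 ⟨Finset.mem_univ _, hab⟩, rfl⟩⟩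

theorem line_facts : (∀ v ∈ ([0, 1, 2] : List (Fin 27)), ad v v = 0 → v = 0) ∧
    (∀ v ∈ ([0, 1, 2] : List (Fin 27)), ∀ w ∈ ([0, 1, 2] : List (Fin 27)),
      ad v w ∈ ([0, 1, 2] : List (Fin 27)) ∧ ng v ∈ ([0, 1, 2] : List (Fin 27)) ∧ actM 6 v = ng v) := by
  decide +kernel

namespace Six

variable {F : Frame G} (S : Six F)

include S

theorem e_two : F.e 2 = (F.e 1)⁻¹ := by rw [← F.e_inv]; exact congrArg F.e (by decide +kernel)

theorem s_line {v : Fin 27} (hv : v ∈ ([0, 1, 2] : List (Fin 27))) : S.s * F.e v = F.e (ng v) * S.s := by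
  have h := S.σ_mul_acts 6 v
  rw [(line_facts.2 v hv v hv).2.2, mul_inv_eq_iff_eq_mul] at h
  exact h

theorem not_cent (v : Fin 27) (h : Perm (Fin 6)) : ¬ Commute (F.e v * (S.s * S.ψ h)) (F.e 1) := by
  intro hc
  have h1 : Commute S.s (F.e 1) := by
    have := (show Commute (F.e v) (F.e 1) from F.J_comm (F.e_mem v) (F.e_mem 1)).inv_left.mul_left hc
    rw [inv_mul_cancel_left] at this
    have := this.mul_left (S.ψ_cent h).inv_left
    rwa [mul_inv_cancel_right] at this
  have h2 := S.s_e1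
  rw [h1.eq, mul_inv_cancel_right, ← F.e_inv] at h2
  exact absurd (F.e_inj h2) (by decide +kernel)

theorem split_two {v w : Fin 27} (hv : v ∈ ([0, 1, 2] : List (Fin 27))) (hw : w ∈ ([0, 1, 2] : List (Fin 27)))
    {h k : Perm (Fin 6)} (e : F.e v * (S.s * S.ψ h) = F.e w * (S.s * S.ψ k)) : v = w ∧ h = k := by
  have e' : F.e (ng v) * S.ψ h = F.e (ng w) * S.ψ k := by
    refine mul_left_cancel (a := S.s) ?_
    rw [← mul_assoc, ← mul_assoc, S.s_line (line_facts.2 v hv v hv).2.1, S.s_line (line_facts.2 w hw w hw).2.1,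
      (show ∀ x : Fin 27, ng (ng x) = x by decide +kernel) v, (show ∀ x : Fin 27, ng (ng x) = x by decide +kernel) w,
      mul_assoc, mul_assoc]
    exact e
  obtain ⟨a, b⟩ := S.split_unique (line_facts.2 v hv v hv).2.1 (line_facts.2 w hw w hw).2.1 e'
  exact ⟨by rw [← (show ∀ x : Fin 27, ng (ng x) = x by decide +kernel) v, a]; exact (show ∀ x : Fin 27, ng (ng x) = x by decide +kernel) w, b⟩

/-- A Sylow two-subgroup of the centraliser of the flip. -/
theorem exists_two_sylow :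
    ∃ R : Subgroup G, R ≤ centralizer ({S.s} : Set G) ∧ Nat.card R = 32 ∧ ¬ 2 ∣ R.relIndex (centralizer ({S.s} : Set G)) := by
  classical
  haveI : Fact (Nat.Prime 2) := ⟨Nat.prime_two⟩
  obtain ⟨R, hR⟩ : ∃ R : Subgroup G, ∀ g, g ∈ R ↔ ∃ h, RH h ∧ (g = S.ψ h ∨ g = S.s * S.ψ h) := by
    refine ⟨{ carrier := {g | ∃ h, RH h ∧ (g = S.ψ h ∨ g = S.s * S.ψ h)}
              one_mem' := ⟨1, rh_facts.1, Or.inl (map_one _).symm⟩
              mul_mem' := ?_, inv_mem' := ?_ }, fun g => Iff.rfl⟩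
    · rintro _ _ ⟨a, ha, e⟩ ⟨b, hb, e'⟩
      refine ⟨a * b, rh_facts.2.1 a b ha hb, ?_⟩
      rcases e with rfl | rfl <;> rcases e' with rfl | rfl
      · exact Or.inl (map_mul _ _ _).symm
      · refine Or.inr ?_
        rw [← mul_assoc, ← (S.s_comm a).eq, mul_assoc, map_mul]
      · exact Or.inr (by rw [mul_assoc, map_mul])
      · refine Or.inl ?_
        rw [show S.s * S.ψ a * (S.s * S.ψ b) = S.s * (S.ψ a * S.s) * S.ψ b by group, ← (S.s_comm a).eq, ← mul_assoc,
          S.s_sq, one_mul, map_mul]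
    · rintro _ ⟨a, ha, e⟩
      refine ⟨a⁻¹, ?_, ?_⟩
      · show a⁻¹ * dd = dd * a⁻¹
        exact (show Commute a dd from ha).inv_left.eq
      rcases e with rfl | rfl
      · exact Or.inl (map_inv _ _).symm
      · exact Or.inr (by rw [mul_inv_rev, inv_eq_of_mul_eq_one_right S.s_sq, map_inv]; exact ((S.s_comm a).inv_right).eq.symm)
  have hψs : ∀ h k, S.ψ h ≠ S.s * S.ψ k := fun h k e => S.not_cent 0 k (by
    rw [F.e_zero, one_mul, ← e]; exact S.ψ_cent h)
  have hsC : R ≤ centralizer ({S.s} : Set G) := fun g hg => mem_centralizer_singleton_iff.2 (by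
    obtain ⟨h, -, rfl | rfl⟩ := (hR g).1 hg
    · exact (S.s_comm h).symm.eq
    · exact ((Commute.refl S.s).mul_left (S.s_comm h).symm).eq)
  have hcard : Nat.card R = 32 := by
    have h32 : Nat.card (Fin 2 × {h : Perm (Fin 6) // RH h}) = 32 := by
      rw [Nat.card_prod, Nat.card_fin, Nat.card_eq_fintype_card, Fintype.card_subtype, rh_facts.2.2]
    rw [← h32]
    refine (Nat.card_eq_of_bijective (fun q : Fin 2 × {h : Perm (Fin 6) // RH h} =>
      (⟨if q.1 = 0 then S.ψ q.2 else S.s * S.ψ q.2, (hR _).2 ⟨q.2, q.2.2, by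
        by_cases e : q.1 = 0 <;> simp [e]⟩⟩ : R)) ⟨fun q q' e => ?_, fun g => ?_⟩).symm
    · have e' := congrArg Subtype.val e
      simp only at e'
      obtain ⟨a, b⟩ := q
      obtain ⟨a', b'⟩ := q'
      by_cases ha : a = 0 <;> by_cases ha' : a' = 0 <;> simp only [ha, ha', if_true, if_false] at e' ⊢
      · rw [Subtype.ext (S.ψ_inj e')]
      · exact absurd e' (hψs _ _)
      · exact absurd e'.symm (hψs _ _)
      · rw [Subtype.ext (S.ψ_inj (mul_left_cancel e')), show a = a' by omega]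
    · obtain ⟨h, hh, e | e⟩ := (hR g.1).1 g.2
      · exact ⟨(0, ⟨h, hh⟩), Subtype.ext (by simp [e])⟩
      · exact ⟨(1, ⟨h, hh⟩), Subtype.ext (by simp [e])⟩
  refine ⟨R, hsC, hcard, ?_⟩
  -- self-normalising in the centraliser
  have hmax : ∀ g ∈ centralizer ({S.s} : Set G), g ∈ normalizer (R : Set G) → g ∈ R := by
    intro g hg hgN
    have hgs := mem_centralizer_singleton_iff.1 hg
    let T3 : List (Perm (Fin 6)) := [swap 0 1, swap 3 4, swap 2 5]
    have hT3 : ∀ x ∈ T3, RH x ∧ ∃ a b, a ≠ b ∧ x = swap a b := by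
      intro x hx
      simp only [T3, List.mem_cons, List.not_mem_nil, or_false] at hx
      rcases hx with rfl | rfl | rfl
      exacts [⟨three_transps.2.1, 0, 1, by decide, rfl⟩, ⟨three_transps.2.2.1, 3, 4, by decide, rfl⟩,
        ⟨three_transps.2.2.2.1, 2, 5, by decide, rfl⟩]
    have hperm : ∀ u, Commute u S.s → u ∈ normalizer (R : Set G) → ∀ x ∈ T3, ∃ y ∈ T3, u * S.ψ x * u⁻¹ = S.ψ y := by
      intro u hus huN x hx
      obtain ⟨hxR, a, b, hab, rfl⟩ := hT3 x hx
      have hcj : IsConj S.s (u * S.ψ (swap a b) * u⁻¹) := (S.transp_conj a b hab).trans (isConj_iff.2 ⟨u, rfl⟩)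
      obtain ⟨h, hh, e | e⟩ := (hR _).1 ((mem_normalizer_iff.1 huN _).1 ((hR _).2 ⟨_, hxR, Or.inl rfl⟩))
      · have e0 : u * S.ψ (swap a b) * u⁻¹ = F.e 0 * S.ψ h := by rw [F.e_zero, one_mul, e]
        obtain ⟨-, a', b', hab', rfl⟩ := (S.conj_cases (v := 0) List.mem_cons_self).1 (e0 ▸ hcj)
        refine ⟨_, ?_, e⟩
        rcases three_transps.1 _ ⟨a', b', hab', rfl⟩ hh with r | r | r <;> simp [T3, r]
      · exfalso
        have e0 : u * S.ψ (swap a b) * u⁻¹ = F.e 0 * (S.s * S.ψ h) := by rw [F.e_zero, one_mul, e]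
        have hh1 : h = 1 := (S.conj_cases (v := 0) List.mem_cons_self).2 (e0 ▸ hcj)
        rw [hh1, map_one, mul_one] at e
        refine hψs (swap a b) 1 ?_
        rw [map_one, mul_one]
        calc S.ψ (swap a b) = u⁻¹ * (u * S.ψ (swap a b) * u⁻¹) * u := by group
          _ = u⁻¹ * (S.s * u) := by rw [e, mul_assoc]
          _ = S.s := by rw [← hus.eq]; group
    let c := g * F.e 1 * g⁻¹
    have hcc : ∀ x ∈ T3, Commute c (S.ψ x) := fun x hx => by
      obtain ⟨y, -, e⟩ := hperm g⁻¹ (show Commute g S.s from hgs).inv_left (inv_mem hgN) x hx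
      show g * F.e 1 * g⁻¹ * S.ψ x = S.ψ x * (g * F.e 1 * g⁻¹)
      calc g * F.e 1 * g⁻¹ * S.ψ x = g * (F.e 1 * (g⁻¹ * S.ψ x * g⁻¹⁻¹)) * g⁻¹ := by group
        _ = g * (g⁻¹ * S.ψ x * g⁻¹⁻¹ * F.e 1) * g⁻¹ := by rw [e, (S.ψ_cent y).symm.eq]
        _ = _ := by group
    have hc1 := hcc _ (show swap (0 : Fin 6) 1 ∈ T3 from List.mem_cons_self)
    have hc2 := hcc _ (show swap (3 : Fin 6) 4 ∈ T3 from List.mem_cons_of_mem _ List.mem_cons_self)
    have hc3 := hcc _ (show swap (2 : Fin 6) 5 ∈ T3 from List.mem_cons_of_mem _ (List.mem_cons_of_mem _ List.mem_cons_self))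
    have hce3 : c ^ 3 = 1 := by
      show (g * F.e 1 * g⁻¹) ^ 3 = 1
      rw [conj_pow, pow_succ', pow_two, F.J_cube (F.e_mem 1), mul_one, mul_inv_cancel]
    have hce : Commute c (F.e 1) := by
      rcases S.cent_three hc1 hc2 hc3 with e | e
      · exact mul_inv_eq_iff_eq_mul.1 e
      · exfalso
        have e' : c * (F.e 1)⁻¹ * c⁻¹ = F.e 1 := by
          rw [show c * (F.e 1)⁻¹ * c⁻¹ = (c * F.e 1 * c⁻¹)⁻¹ by group, e, inv_inv]
        have e3 : c ^ 3 * F.e 1 * (c ^ 3)⁻¹ = (F.e 1)⁻¹ := by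
          calc c ^ 3 * F.e 1 * (c ^ 3)⁻¹ = c * (c * (c * F.e 1 * c⁻¹) * c⁻¹) * c⁻¹ := by
                rw [pow_succ' c 2, pow_two]; group
            _ = c * (c * (F.e 1)⁻¹ * c⁻¹) * c⁻¹ := by rw [e]
            _ = c * F.e 1 * c⁻¹ := by rw [e']
            _ = _ := e
        rw [hce3, one_mul, inv_one, mul_one, ← F.e_inv] at e3
        exact absurd (F.e_inj e3) (by decide +kernel)
    obtain ⟨v, hv, k, hk⟩ := S.split c hce
    have hkc : ∀ x ∈ T3, k * x = x * k := fun x hx => S.ψ_inj (by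
      rw [map_mul, map_mul]
      have := (S.v_comm hv x).inv_left.mul_left (hk ▸ hcc x hx)
      rwa [inv_mul_cancel_left] at this)
    have hk1 : k = 1 := by
      refine th_facts.2.2.2.2.2 k (th_facts.2.2.1 k fun a ha => ?_) (S.ψ_inj ?_)
      · rcases ha with rfl | rfl | rfl <;> exact hkc _ (by simp [T3])
      · rw [hk, (S.v_comm hv k).mul_pow, pow_succ' (F.e v), pow_two, F.J_cube (F.e_mem v), one_mul, pow_succ',
          pow_two] at hce3
        rw [map_mul, map_mul, hce3, map_one]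
    rw [hk1, map_one, mul_one] at hk
    have hg1 : g * F.e 1 * g⁻¹ = F.e 1 ∨ g * F.e 1 * g⁻¹ = (F.e 1)⁻¹ := by
      rcases List.mem_cons.1 hv with r | hv'
      · exfalso
        rw [r, F.e_zero] at hk
        exact F.e_ne (by decide) (conj_eq_one_iff.1 hk)
      rcases List.mem_cons.1 hv' with r | hv''
      · exact Or.inl (hk.trans (congrArg F.e r))
      · exact Or.inr ((hk.trans (congrArg F.e (List.mem_singleton.1 hv''))).trans S.e_two)
    obtain ⟨v, hv, h, hgf⟩ := S.split_norm hg1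
    have hRh : ∀ h', (∃ u, (u = 1 ∨ u = S.s) ∧ g = u * S.ψ h') → g ∈ R := by
      rintro h' ⟨u, hu, rfl⟩
      have hu' : ∀ a, Commute u (S.ψ a) := fun a => by
        rcases hu with rfl | rfl
        exacts [Commute.one_left _, S.s_comm a]
      refine (hR _).2 ⟨h', rh_norm h' fun a ha => ?_, ?_⟩
      · have hm := (mem_normalizer_iff.1 hgN (S.ψ a)).1 ((hR _).2 ⟨a, ha, Or.inl rfl⟩)
        rw [show u * S.ψ h' * S.ψ a * (u * S.ψ h')⁻¹ = u * (S.ψ h' * S.ψ a * (S.ψ h')⁻¹) * u⁻¹ by group,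
          ← map_inv, ← map_mul, ← map_mul, (hu' _).eq, mul_inv_cancel_right] at hm
        obtain ⟨b, hb, e | e⟩ := (hR _).1 hm
        · exact S.ψ_inj e ▸ hb
        · exact absurd e (hψs _ _)
      · rcases hu with rfl | rfl
        · exact Or.inl (one_mul _)
        · exact Or.inr rfl
    rcases hgf with e | e
    · refine hRh h ⟨1, Or.inl rfl, ?_⟩
      have e2 : F.e (ng v) * (S.s * S.ψ h) = F.e v * (S.s * S.ψ h) := by
        rw [← mul_assoc, ← S.s_line hv, mul_assoc, ← e, ← hgs, e, mul_assoc, ← (S.s_comm h).eq]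
      have hv0 := (S.split_two (line_facts.2 v hv v hv).2.1 hv e2).1
      rw [e, (show ∀ x : Fin 27, ng x = x → x = 0 by decide +kernel) v hv0, F.e_zero]
    · refine hRh h ⟨S.s, Or.inr rfl, ?_⟩
      have e2 : F.e (ng v) * S.ψ h = F.e v * S.ψ h := by
        have h1 : g * S.s = F.e v * S.ψ h := by
          rw [e, mul_assoc, mul_assoc, ← (S.s_comm h).eq, ← mul_assoc S.s S.s, S.s_sq, one_mul]
        have h2 : S.s * g = F.e (ng v) * S.ψ h := by
          rw [e, ← mul_assoc, S.s_line hv, mul_assoc, ← mul_assoc S.s S.s, S.s_sq, one_mul]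
        rw [← h1, ← h2, hgs]
      have hv0 := (S.split_unique (line_facts.2 v hv v hv).2.1 hv e2).1
      rw [e, (show ∀ x : Fin 27, ng x = x → x = 0 by decide +kernel) v hv0, F.e_zero, one_mul]
  -- hence a Sylow subgroup
  have hp : IsPGroup 2 (R.subgroupOf (centralizer ({S.s} : Set G))) := IsPGroup.of_card (n := 5)
    ((Nat.card_congr (subgroupOfEquivOfLe hsC).toEquiv).trans hcard)
  obtain ⟨P, hP⟩ := hp.exists_le_sylow
  have hPR : (P : Subgroup (centralizer ({S.s} : Set G))) = R.subgroupOf (centralizer ({S.s} : Set G)) := by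
    refine le_antisymm ?_ hP
    haveI : Group.IsNilpotent (P : Subgroup (centralizer ({S.s} : Set G))) := P.2.isNilpotent
    have e : (R.subgroupOf (centralizer ({S.s} : Set G))).subgroupOf (P : Subgroup (centralizer ({S.s} : Set G))) = ⊤ := by
      refine normalizerCondition_iff_only_full_group_self_normalizing.1 Group.normalizerCondition_of_isNilpotent _
        (le_antisymm (fun a ha => ?_) Subgroup.le_normalizer)
      rw [← Subgroup.subgroupOf_normalizer_eq hP, mem_subgroupOf, ← Subgroup.subgroupOf_normalizer_eq hsC,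
        mem_subgroupOf] at ha
      exact mem_subgroupOf.2 (mem_subgroupOf.2 (hmax _ (a : centralizer ({S.s} : Set G)).2 ha))
    exact Subgroup.subgroupOf_eq_top.1 e
  show ¬ 2 ∣ (R.subgroupOf (centralizer ({S.s} : Set G))).index
  rw [← hPR]
  exact P.not_dvd_index

/-- A homomorphism onto the signs detecting the flip. -/
theorem exists_sign : ∃ V : G →* ℤˣ, V S.s = -1 := by
  classical
  let K0 : Subgroup G :=
    { carrier := {g | ∃ v ∈ ([0, 1, 2] : List (Fin 27)), g = F.e v ∨ g = F.e v * S.s}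
      one_mem' := ⟨0, List.mem_cons_self, Or.inl F.e_zero.symm⟩
      mul_mem' := by
        rintro _ _ ⟨v, hv, rfl | rfl⟩ ⟨w, hw, rfl | rfl⟩
        · exact ⟨_, (line_facts.2 v hv w hw).1, Or.inl (F.e_add _ _).symm⟩
        · exact ⟨_, (line_facts.2 v hv w hw).1, Or.inr (by rw [F.e_add, mul_assoc])⟩
        · refine ⟨_, (line_facts.2 v hv _ (line_facts.2 w hw w hw).2.1).1, Or.inr ?_⟩
          rw [mul_assoc, S.s_line hw, ← mul_assoc, F.e_add]
        · refine ⟨_, (line_facts.2 v hv _ (line_facts.2 w hw w hw).2.1).1, Or.inl ?_⟩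
          rw [mul_assoc, ← mul_assoc S.s, S.s_line hw, mul_assoc (F.e (ng w)), S.s_sq, mul_one, F.e_add]
      inv_mem' := by
        rintro _ ⟨v, hv, rfl | rfl⟩
        · exact ⟨_, (line_facts.2 v hv v hv).2.1, Or.inl (F.e_inv v).symm⟩
        · refine ⟨v, hv, Or.inr (inv_eq_of_mul_eq_one_right ?_)⟩
          rw [mul_assoc, ← mul_assoc S.s, S.s_line hv, mul_assoc (F.e (ng v)), S.s_sq, mul_one, F.e_inv, mul_inv_cancel] }
  have hK0 : ∀ a ∈ K0, ∀ k, Commute a (S.ψ k) := by
    rintro _ ⟨v, hv, rfl | rfl⟩ k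
    exacts [S.v_comm hv k, (S.v_comm hv k).mul_left (S.s_comm k)]
  have huniq : ∀ {a b : G} {h k : Perm (Fin 6)}, a ∈ K0 → b ∈ K0 → a * S.ψ h = b * S.ψ k → a = b ∧ h = k := by
    intro a b h k ha hb e
    have hu : S.ψ (k * h⁻¹) = b⁻¹ * a := by
      rw [map_mul, map_inv, eq_inv_mul_iff_mul_eq, ← mul_assoc, ← e, mul_inv_cancel_right]
    have hcen : ∀ x, (k * h⁻¹) * x = x * (k * h⁻¹) := fun x => S.ψ_inj (by
      rw [map_mul S.ψ (k * h⁻¹) x, map_mul S.ψ x, hu]
      exact (hK0 _ (mul_mem (inv_mem hb) ha) x).eq)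
    have hk : k * h⁻¹ = 1 := by
      have key : ∀ x : Perm (Fin 6), x * swap 0 1 = swap 0 1 * x → x * bw = bw * x → x * ca = ca * x →
          x * cb = cb * x → x = 1 := by decide +kernel
      exact key _ (hcen _) (hcen _) (hcen _) (hcen _)
    rw [hk, map_one] at hu
    exact ⟨(inv_mul_eq_one.1 hu.symm).symm, (mul_inv_eq_one.1 hk).symm⟩
  let M : Subgroup G :=
    { carrier := {g | ∃ a ∈ K0, ∃ h, g = a * S.ψ h}
      one_mem' := ⟨1, one_mem _, 1, by rw [map_one, mul_one]⟩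
      mul_mem' := by
        rintro _ _ ⟨a, ha, h, rfl⟩ ⟨b, hb, k, rfl⟩
        refine ⟨_, mul_mem ha hb, h * k, ?_⟩
        rw [map_mul, show a * S.ψ h * (b * S.ψ k) = a * (S.ψ h * b) * S.ψ k by group, ← (hK0 b hb h).eq]; group
      inv_mem' := by
        rintro _ ⟨a, ha, h, rfl⟩
        refine ⟨_, inv_mem ha, h⁻¹, ?_⟩
        rw [map_inv, mul_inv_rev]
        exact ((hK0 a ha h).inv_inv).symm.eq }
  choose fa hfa fh hfh using fun g : M => g.2
  let φ : M →* ℤˣ := MonoidHom.mk' (fun g => Perm.sign (fh g)) fun g g' => by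
    rw [← map_mul]
    refine congrArg Perm.sign (huniq (hfa (g * g')) (mul_mem (hfa g) (hfa g')) ?_).2
    rw [← hfh (g * g'), Subgroup.coe_mul, hfh g, hfh g', map_mul,
      show fa g * S.ψ (fh g) * (fa g' * S.ψ (fh g')) = fa g * (S.ψ (fh g) * fa g') * S.ψ (fh g') by group,
      ← (hK0 _ (hfa g') (fh g)).eq]
    group
  let K15 : Finset G := swaps.image S.ψ
  have hK15 : K15.card = 15 := by rw [Finset.card_image_of_injective _ S.ψ_inj, swaps_facts.1]
  have hK15M : ∀ u ∈ K15, u ∈ M := fun u hu => by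
    obtain ⟨h, -, rfl⟩ := Finset.mem_image.1 hu
    exact ⟨1, one_mem _, h, (one_mul _).symm⟩
  have hφ : ∀ u : M, IsConj S.s (u : G) → (φ u = -1 ↔ (u : G) ∈ K15) := by
    intro u hu
    constructor
    · intro h1
      obtain ⟨v, hv, e | e⟩ := hfa u
      · have he := hfh u
        rw [e] at he
        obtain ⟨hv0, a, b, hab, hh⟩ := (S.conj_cases hv).1 (he ▸ hu)
        refine Finset.mem_image.2 ⟨fh u, (swaps_facts.2.2 _).2 ⟨a, b, hab, hh⟩, ?_⟩
        rw [he, hv0, F.e_zero, one_mul]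
      · exfalso
        have he := hfh u
        rw [e, mul_assoc] at he
        have h2 : Perm.sign (fh u) = -1 := h1
        have hh1 : fh u = 1 := (S.conj_cases hv).2 (he ▸ hu)
        rw [hh1, map_one] at h2
        exact absurd h2 (by decide)
    · intro hK
      obtain ⟨h, hh, e⟩ := Finset.mem_image.1 hK
      show Perm.sign (fh u) = -1
      rw [← swaps_facts.2.1 h hh]
      exact congrArg _ (huniq (hfa u) (one_mem K0) (h := fh u) (k := h) (by rw [← hfh u, one_mul, e])).2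
  have hconjK : ∀ m ∈ M, ∀ u ∈ K15, m * u * m⁻¹ ∈ K15 := by
    rintro _ ⟨a, ha, k, rfl⟩ u hu
    obtain ⟨h, hh, rfl⟩ := Finset.mem_image.1 hu
    obtain ⟨x, y, hxy, rfl⟩ := (swaps_facts.2.2 h).1 hh
    refine Finset.mem_image.2 ⟨swap (k x) (k y), (swaps_facts.2.2 _).2 ⟨_, _, fun e => hxy (k.injective e), rfl⟩, ?_⟩
    rw [show a * S.ψ k * S.ψ (swap x y) * (a * S.ψ k)⁻¹ = a * (S.ψ k * S.ψ (swap x y) * (S.ψ k)⁻¹) * a⁻¹ by group,
      ← map_inv, ← map_mul, ← map_mul, (hK0 a ha _).eq, mul_inv_cancel_right, Equiv.swap_apply_apply]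
  refine ⟨MonoidHom.transfer φ, ?_⟩
  haveI : Fintype (Quotient (orbitRel (zpowers S.s) (G ⧸ M))) := Fintype.ofFinite _
  haveI : Fintype (G ⧸ M) := Fintype.ofFinite _
  haveI : Fintype G := Fintype.ofFinite _
  let Bad : Finset (G ⧸ M) := Finset.univ.filter fun x => x.out⁻¹ * S.s * x.out ∈ K15
  have hodd : Bad.card % 2 = 1 := by
    obtain ⟨R, hRC, hR, hRodd⟩ := S.exists_two_sylow
    have hsplit := Subgroup.card_mul_index (R.subgroupOf (centralizer ({S.s} : Set G)))
    rw [Nat.card_congr (subgroupOfEquivOfLe hRC).toEquiv, hR] at hsplit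
    have hpre : Nat.card (QuotientGroup.mk ⁻¹' (Bad : Set (G ⧸ M))) = Nat.card M * Bad.card := by
      rw [Nat.card_congr (QuotientGroup.preimageMkEquivSubgroupProdSet M _), Nat.card_prod, Nat.card_coe_set_eq,
        Set.ncard_coe_finset]
    have hiff : ∀ g : G, g ∈ QuotientGroup.mk ⁻¹' (Bad : Set (G ⧸ M)) ↔ g⁻¹ * S.s * g ∈ K15 := by
      intro g
      have hm : ((QuotientGroup.mk g : G ⧸ M).out)⁻¹ * g ∈ M := QuotientGroup.eq.1 (QuotientGroup.out_eq' _)
      show QuotientGroup.mk g ∈ Bad ↔ _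
      constructor
      · intro h
        have h2 := hconjK _ (inv_mem hm) _ (Finset.mem_filter.1 h).2
        rwa [show ((QuotientGroup.mk g : G ⧸ M).out⁻¹ * g)⁻¹ * ((QuotientGroup.mk g : G ⧸ M).out⁻¹ * S.s *
          (QuotientGroup.mk g : G ⧸ M).out) * ((QuotientGroup.mk g : G ⧸ M).out⁻¹ * g)⁻¹⁻¹ = g⁻¹ * S.s * g by group] at h2
      · intro h
        refine Finset.mem_filter.2 ⟨Finset.mem_univ _, ?_⟩
        have h2 := hconjK _ hm _ h
        rwa [show (QuotientGroup.mk g : G ⧸ M).out⁻¹ * g * (g⁻¹ * S.s * g) * ((QuotientGroup.mk g : G ⧸ M).out⁻¹ * g)⁻¹ =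
          (QuotientGroup.mk g : G ⧸ M).out⁻¹ * S.s * (QuotientGroup.mk g : G ⧸ M).out by group] at h2
    have hcj : ∀ u ∈ K15, ∃ g, g⁻¹ * S.s * g = u := fun u hu => by
      obtain ⟨h, hh, rfl⟩ := Finset.mem_image.1 hu
      obtain ⟨a, b, hab, rfl⟩ := (swaps_facts.2.2 h).1 hh
      obtain ⟨c, hc⟩ := isConj_iff.1 (S.transp_conj a b hab)
      exact ⟨c⁻¹, by rw [inv_inv]; exact hc⟩
    choose r hr using hcj
    have hbij : Nat.card (QuotientGroup.mk ⁻¹' (Bad : Set (G ⧸ M))) =
        15 * Nat.card (centralizer ({S.s} : Set G)) := by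
      rw [← hK15, ← Nat.card_eq_finsetCard, ← Nat.card_prod]
      have hmem : ∀ g : (QuotientGroup.mk ⁻¹' (Bad : Set (G ⧸ M))),
          (g : G) * (r _ ((hiff g).1 g.2))⁻¹ ∈ centralizer ({S.s} : Set G) := fun g => by
        have e := hr _ ((hiff g).1 g.2)
        refine mem_centralizer_singleton_iff.2 ?_
        generalize r _ ((hiff g).1 g.2) = c at e
        calc (g : G) * c⁻¹ * S.s = (g : G) * (c⁻¹ * S.s * c) * c⁻¹ := by group
          _ = _ := by rw [e]; group
      refine Nat.card_congr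
        { toFun := fun g => (⟨_, (hiff g).1 g.2⟩, ⟨_, hmem g⟩)
          invFun := fun q => ⟨(q.2 : G) * r q.1.1 q.1.2, (hiff _).2 ?_⟩
          left_inv := fun g => Subtype.ext (inv_mul_cancel_right _ _)
          right_inv := fun q => ?_ }
      · have e : ((q.2 : G) * r q.1.1 q.1.2)⁻¹ * S.s * ((q.2 : G) * r q.1.1 q.1.2) = q.1.1 := by
          calc _ = (r q.1.1 q.1.2)⁻¹ * ((q.2 : G)⁻¹ * (S.s * q.2)) * r q.1.1 q.1.2 := by group
            _ = _ := by rw [← mem_centralizer_singleton_iff.1 q.2.2, inv_mul_cancel_left, hr]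
        rw [e]; exact q.1.2
      · have e : ((q.2 : G) * r q.1.1 q.1.2)⁻¹ * S.s * ((q.2 : G) * r q.1.1 q.1.2) = q.1.1 := by
          calc _ = (r q.1.1 q.1.2)⁻¹ * ((q.2 : G)⁻¹ * (S.s * q.2)) * r q.1.1 q.1.2 := by group
            _ = _ := by rw [← mem_centralizer_singleton_iff.1 q.2.2, inv_mul_cancel_left, hr]
        refine Prod.ext (Subtype.ext e) (Subtype.ext ?_)
        show (q.2 : G) * r q.1.1 q.1.2 * (r _ _)⁻¹ = q.2
        simp only [e, mul_inv_cancel_right]
    have hM : Nat.card M = 4320 := by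
      have hK0c : Nat.card K0 = 6 := by
        have h6 : Nat.card ({v // v ∈ ([0, 1, 2] : List (Fin 27))} × Fin 2) = 6 := by
          rw [Nat.card_prod, Nat.card_fin, Nat.card_eq_fintype_card]; rfl
        rw [← h6]
        refine (Nat.card_eq_of_bijective (fun q : {v // v ∈ ([0, 1, 2] : List (Fin 27))} × Fin 2 =>
          (⟨if q.2 = 0 then F.e q.1 else F.e q.1 * S.s, q.1, q.1.2, by by_cases e : q.2 = 0 <;> simp [e]⟩ : K0))
          ⟨fun q q' e => ?_, fun g => ?_⟩).symm
        · have e' := congrArg Subtype.val e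
          simp only at e'
          obtain ⟨⟨v, hv⟩, a⟩ := q
          obtain ⟨⟨w, hw⟩, a'⟩ := q'
          by_cases ha : a = 0 <;> by_cases ha' : a' = 0 <;> simp only [ha, ha', if_true, if_false] at e' ⊢
          · simp [F.e_inj e']
          · exact absurd (F.ker (F.acts_J (F.e_mem v))) (fun _ => S.not_cent w 1 (by
              rw [map_one, mul_one, ← e']; exact F.J_comm (F.e_mem v) (F.e_mem 1)))
          · exact absurd (F.ker (F.acts_J (F.e_mem v))) (fun _ => S.not_cent v 1 (by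
              rw [map_one, mul_one, e']; exact F.J_comm (F.e_mem w) (F.e_mem 1)))
          · simp [F.e_inj (mul_right_cancel e'), show a = a' by omega]
        · obtain ⟨v, hv, e | e⟩ := g.2
          · exact ⟨(⟨v, hv⟩, 0), Subtype.ext (by simp [e])⟩
          · exact ⟨(⟨v, hv⟩, 1), Subtype.ext (by simp [e])⟩
      have h720 : Nat.card (K0 × Perm (Fin 6)) = 4320 := by
        rw [Nat.card_prod, hK0c, Nat.card_perm, Nat.card_fin]; rfl
      rw [← h720]
      refine Nat.card_congr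
        { toFun := fun g => (⟨fa g, hfa g⟩, fh g)
          invFun := fun q => ⟨q.1.1 * S.ψ q.2, q.1.1, q.1.2, q.2, rfl⟩
          left_inv := fun g => Subtype.ext (hfh g).symm
          right_inv := fun q => ?_ }
      obtain ⟨e1, e2⟩ := huniq (hfa ⟨q.1.1 * S.ψ q.2, q.1.1, q.1.2, q.2, rfl⟩) q.1.2 (hfh _).symm
      exact Prod.ext (Subtype.ext e1) e2
    rw [hpre, hM, ← hsplit] at hbij
    have hRo : (R.subgroupOf (centralizer ({S.s} : Set G))).index % 2 = 1 := by
      have : ¬ 2 ∣ (R.subgroupOf (centralizer ({S.s} : Set G))).index := hRodd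
      omega
    generalize (R.subgroupOf (centralizer ({S.s} : Set G))).index = n at hbij hRo
    omega
  have hfix : ∀ q : Quotient (orbitRel (zpowers S.s) (G ⧸ M)),
      (Function.minimalPeriod (S.s • ·) q.out = 1 ↔ S.s • q.out = q.out) := fun q => by
    rw [Function.minimalPeriod_eq_one_iff_isFixedPt]; rfl
  have hval : ∀ q : Quotient (orbitRel (zpowers S.s) (G ⧸ M)),
      φ ⟨q.out.out⁻¹ * S.s ^ Function.minimalPeriod (S.s • ·) q.out * q.out.out,
        QuotientGroup.out_conj_pow_minimalPeriod_mem M S.s q.out⟩ = if q.out ∈ Bad then -1 else 1 := by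
    intro q
    have hmem := QuotientGroup.out_conj_pow_minimalPeriod_mem M S.s q.out
    have hbadfix : q.out ∈ Bad → S.s • q.out = q.out := fun hb => by
      have h := hK15M _ (Finset.mem_filter.1 hb).2
      conv_lhs => rw [← QuotientGroup.out_eq' q.out]
      conv_rhs => rw [← QuotientGroup.out_eq' q.out]
      rw [MulAction.Quotient.smul_coe, smul_eq_mul, QuotientGroup.eq]
      rw [show (S.s * q.out.out)⁻¹ * q.out.out = (q.out.out⁻¹ * S.s * q.out.out)⁻¹ by group]
      exact inv_mem h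
    by_cases h1 : Function.minimalPeriod (S.s • ·) q.out = 1
    · rw [h1, pow_one] at hmem
      simp only [h1, pow_one]
      by_cases hb : q.out ∈ Bad
      · rw [if_pos hb]
        exact (hφ ⟨_, hmem⟩ (isConj_iff.2 ⟨q.out.out⁻¹, by rw [inv_inv]⟩)).2 (Finset.mem_filter.1 hb).2
      · rw [if_neg hb]
        refine (Int.units_eq_one_or _).resolve_right fun h => hb (Finset.mem_filter.2 ⟨Finset.mem_univ _, ?_⟩)
        exact (hφ ⟨_, hmem⟩ (isConj_iff.2 ⟨q.out.out⁻¹, by rw [inv_inv]⟩)).1 h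
    · rw [if_neg (fun hb => h1 ((hfix q).2 (hbadfix hb)))]
      have h2 : S.s ^ Function.minimalPeriod (S.s • ·) q.out = 1 := by
        have hdvd : Function.minimalPeriod (S.s • ·) q.out ∣ 2 := by
          refine Function.IsPeriodicPt.minimalPeriod_dvd ?_
          show S.s • S.s • q.out = q.out
          rw [smul_smul, S.s_sq, one_smul]
        rcases (Nat.dvd_prime Nat.prime_two).1 hdvd with e | e
        · exact absurd e h1
        · rw [e, pow_two, S.s_sq]
      rw [show (⟨q.out.out⁻¹ * S.s ^ Function.minimalPeriod (S.s • ·) q.out * q.out.out, hmem⟩ : M) = 1 from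
        Subtype.ext (show q.out.out⁻¹ * S.s ^ Function.minimalPeriod (S.s • ·) q.out * q.out.out = 1 by
          rw [h2, mul_one, inv_mul_cancel]), map_one]
  rw [MonoidHom.transfer_eq_prod_quotient_orbitRel_zpowers_quot, Finset.prod_congr rfl fun q _ => hval q,
    ← Finset.prod_filter, Finset.prod_const]
  have hc : (Finset.univ.filter fun q : Quotient (orbitRel (zpowers S.s) (G ⧸ M)) => q.out ∈ Bad).card = Bad.card := by
    refine Finset.card_bij (fun q _ => q.out) (fun q hq => (Finset.mem_filter.1 hq).2)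
      (fun a _ b _ e => by rw [← Quotient.out_eq a, e, Quotient.out_eq]) fun x hx => ?_
    have hxm := hK15M _ (Finset.mem_filter.1 hx).2
    have hsx : S.s • x = x := by
      conv_lhs => rw [← QuotientGroup.out_eq' x]
      conv_rhs => rw [← QuotientGroup.out_eq' x]
      rw [MulAction.Quotient.smul_coe, smul_eq_mul, QuotientGroup.eq]
      rw [show (S.s * x.out)⁻¹ * x.out = (x.out⁻¹ * S.s * x.out)⁻¹ by group]
      exact inv_mem hxm
    have hout : (Quotient.mk (orbitRel (zpowers S.s) (G ⧸ M)) x).out = x := by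
      obtain ⟨⟨c, hc⟩, e⟩ := orbitRel_apply.1 (Quotient.exact (Quotient.out_eq (Quotient.mk (orbitRel (zpowers S.s) (G ⧸ M)) x)))
      rw [← e]
      exact mem_stabilizer_iff.1 ((zpowers_le.2 (mem_stabilizer_iff.2 hsx)) hc)
    exact ⟨_, Finset.mem_filter.2 ⟨Finset.mem_univ _, hout.symm ▸ hx⟩, hout⟩
  rw [hc]
  obtain ⟨n, hn⟩ : ∃ n, Bad.card = 2 * n + 1 := ⟨Bad.card / 2, by omega⟩
  rw [hn, pow_add, pow_mul, pow_one]
  simp

end Six

end Cfsg.Lib.SymNineLocal
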