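import Cfsg.Agent.LocalThree.SymNineLocal.Cents
import Cfsg.Agent.LocalThree.Order9.Wrap

/-!
Either all centralisers of elements of the elementary group normalise it or the centraliser of a unit
vector is an extension of the symmetric group of degree six.
-/

set_option autoImplicit false
set_option linter.unusedSectionVars false
set_option maxRecDepth 8000
set_option synthInstance.maxSize 4000

namespace Cfsg.Lib.SymNineLocal

open Subgroup
open scoped Pointwise

universe u

theorem vec_kinds : (∀ k : Fin 4, ∀ v : Fin 27, v ≠ 0 → ¬ NoFix k v →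
      ∃ m, inX k m ∧ (actM m 13 = v ∨ actM m 26 = v)) ∧
    (∀ k : Fin 4, ∀ v : Fin 27, v ≠ 0 → NoFix k v → ¬ ExpTwo k v →
      k = 3 ∧ ∃ m, inX k m ∧ actM m 1 = v) ∧
    NoFix 3 1 ∧ ng 13 = 26 := by decide +kernel

/-- The code of an element of the dihedral group of order eight. -/
def dcode : DihedralGroup 4 → Fin 48
  | .r i => ([0, 13, mulM 13 13, mulM 13 (mulM 13 13)] : List (Fin 48)).getD i.val 0
  | .sr i => mulM 1 (([0, 13, mulM 13 13, mulM 13 (mulM 13 13)] : List (Fin 48)).getD i.val 0)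

theorem dcode_spec : (∀ a b, dcode (a * b) = mulM (dcode a) (dcode b)) ∧ (∀ a, actM (dcode a) 1 = 1) ∧
    (∀ a, dcode a = 0 → a = 1) ∧ (Finset.univ.filter fun m : Fin 48 => actM m 1 = 1).card = 8 := by decide +kernel

theorem neg_central : ∀ m : Fin 48, mulM 42 m = mulM m 42 ∧ (∀ v, actM 42 v = ng v) := by decide +kernel

theorem neg_power : mulM 42 42 = 0 ∧ mulM 42 (mulM 42 42) = 42 ∧ ∀ v : Fin 27, ng v = v → v = 0 := by decide +kernel

namespace Frame

variable {G : Type u} [Group G] [Finite G] (F : Frame G)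

include F

theorem exists_neg (hz : inX F.k 42) : ∃ z : G, z * z = 1 ∧ F.Acts z 42 := by
  obtain ⟨g, -, hg⟩ := F.lift 42 hz
  refine ⟨g * (g * g), ?_, ?_⟩
  · have h2 : g * g ∈ F.J := F.ker (neg_power.1 ▸ F.acts_mul hg hg)
    calc g * (g * g) * (g * (g * g)) = g * g * (g * g * (g * g)) := by group
      _ = 1 := F.J_cube h2
  · have := F.acts_mul hg (F.acts_mul hg hg)
    rwa [neg_power.2.1] at this

/-- The centraliser of an inverting involution is a complement. -/
theorem exists_section {z : G} (hz : z * z = 1) (hza : F.Acts z 42) :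
    ∃ σ : Fin 48 → G, (∀ m, inX F.k m → F.Acts (σ m) m ∧ Commute (σ m) z) ∧
      (∀ {g m}, F.Acts g m → Commute g z → g = σ m) ∧
      ∀ m n, inX F.k m → inX F.k n → σ (mulM m n) = σ m * σ n := by
  classical
  have huniq : ∀ {g g' m}, F.Acts g m → Commute g z → F.Acts g' m → Commute g' z → g = g' := by
    intro g g' m hg hgz hg' hgz'
    obtain ⟨n, hn⟩ : ∃ n, mulM n m = 0 := (show ∀ m, ∃ n, mulM n m = 0 by decide +kernel) m
    have hj : g⁻¹ * g' ∈ F.J := F.ker (hn ▸ F.acts_mul (F.acts_inv hg hn) hg')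
    obtain ⟨v, hv⟩ := (F.memJ _).1 hj
    have e : z * (g⁻¹ * g') * z⁻¹ = g⁻¹ * g' := by
      rw [← (hgz.inv_left.mul_left hgz').eq, mul_inv_cancel_right]
    rw [← hv, hza, (neg_central 42).2 v] at e
    rw [neg_power.2.2 v (F.e_inj e), F.e_zero] at hv
    exact inv_mul_eq_one.1 hv.symm
  have hex : ∀ m, ∃ g, inX F.k m → F.Acts g m ∧ Commute g z := by
    intro m
    by_cases hm : inX F.k m
    · obtain ⟨g, -, hg⟩ := F.lift m hm
      obtain ⟨n, hn⟩ : ∃ n, mulM n m = 0 := (show ∀ m, ∃ n, mulM n m = 0 by decide +kernel) m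
      have hg' : F.Acts g⁻¹ n := F.acts_inv hg hn
      have hc : F.Acts (g * z * g⁻¹) 42 := by
        have := F.acts_mul (F.acts_mul hg hza) hg'
        rwa [← (neg_central m).1, (show ∀ m n : Fin 48, mulM n m = 0 → mulM (mulM 42 m) n = 42 by decide +kernel) m n hn]
          at this
      obtain ⟨j, hj, e⟩ := F.conj_of_acts hz (by
        rw [show g * z * g⁻¹ * (g * z * g⁻¹) = g * (z * z) * g⁻¹ by group, hz, mul_one, mul_inv_cancel]) hza hc
      refine ⟨j⁻¹ * g, fun _ => ⟨?_, ?_⟩⟩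
      · have := F.acts_mul (F.acts_J (inv_mem hj)) hg
        rwa [(m_facts.1 m).1] at this
      · show j⁻¹ * g * z = z * (j⁻¹ * g)
        calc j⁻¹ * g * z = j⁻¹ * (g * z * g⁻¹) * g := by group
          _ = _ := by rw [← e]; group
    · exact ⟨1, fun h => absurd h hm⟩
  choose σ hσ using hex
  refine ⟨σ, hσ, fun {g m} hg hgz => huniq hg hgz (hσ m (F.acts_inX hg)).1 (hσ m (F.acts_inX hg)).2,
    fun m n hm hn => ?_⟩
  have ha := F.acts_mul (hσ m hm).1 (hσ n hn).1
  exact huniq (hσ _ (F.acts_inX ha)).1 (hσ _ (F.acts_inX ha)).2 ha ((hσ m hm).2.mul_left (hσ n hn).2)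

/-- The centraliser of a conjugate. -/
theorem cent_conj {g : G} {m : Fin 48} (hm : F.Acts g m) {v : Fin 27}
    (h : centralizer ({F.e v} : Set G) ≤ normalizer (F.J : Set G)) :
    centralizer ({F.e (actM m v)} : Set G) ≤ normalizer (F.J : Set G) := by
  intro u hu
  rw [mem_centralizer_singleton_iff, ← hm] at hu
  have hc : g⁻¹ * u * g ∈ centralizer ({F.e v} : Set G) := mem_centralizer_singleton_iff.2 (by
    calc g⁻¹ * u * g * F.e v = g⁻¹ * (u * (g * F.e v * g⁻¹)) * g := by group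
      _ = _ := by rw [hu]; group)
  have := mul_mem (mul_mem (F.acts_mem hm) (h hc)) (inv_mem (F.acts_mem hm))
  rwa [show g * (g⁻¹ * u * g) * g⁻¹ = u by group] at this

/-- The centralisers of all elements of the group normalise it. -/
def Loc3 : Prop := ∀ v : Fin 27, v ≠ 0 → centralizer ({F.e v} : Set G) ≤ normalizer (F.J : Set G)

theorem cent_diag : centralizer ({F.e 13} : Set G) ≤ normalizer (F.J : Set G) := by
  intro g hg
  obtain ⟨w, p, rfl⟩ := F.cent g (mem_centralizer_singleton_iff.1 hg)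
  exact mul_mem (Subgroup.le_normalizer (F.e_mem w)) (F.acts_mem (F.acts_s p))

theorem loc3_or_six : F.Loc3 ∨ (F.k = 3 ∧
    ∃ hn : ((zpowers (F.e 1)).subgroupOf (centralizer ({F.e 1} : Set G))).Normal,
      Nonempty (centralizer ({F.e 1} : Set G) ⧸ (zpowers (F.e 1)).subgroupOf (centralizer ({F.e 1} : Set G)) ≃*
        Equiv.Perm (Fin 6))) := by
  by_cases hloc : F.Loc3
  · exact Or.inl hloc
  refine Or.inr ?_
  simp only [Loc3, not_forall] at hloc
  obtain ⟨v, hv, hbad⟩ := hloc
  have hnf : NoFix F.k v := by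
    by_contra h
    obtain ⟨m, hm, e⟩ := vec_kinds.1 F.k v hv h
    obtain ⟨g, -, hg⟩ := F.lift m hm
    rcases e with e | e <;> rw [← e] at hbad <;> refine hbad (F.cent_conj hg ?_)
    · exact F.cent_diag
    · intro u hu
      refine F.cent_diag (mem_centralizer_singleton_iff.2 ?_)
      rw [← vec_kinds.2.2.2, F.e_inv] at hu
      exact (Commute.inv_right_iff.1 (mem_centralizer_singleton_iff.1 hu)).eq
  obtain ⟨hk, m, hm, e⟩ := vec_kinds.2.1 F.k v hv hnf fun h => hbad (F.point_cent hv hnf h)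
  refine ⟨hk, ?_⟩
  obtain ⟨g₀, -, hg₀⟩ := F.lift m hm
  have hbad1 : ¬ centralizer ({F.e 1} : Set G) ≤ normalizer (F.J : Set G) := fun h => hbad (e ▸ F.cent_conj hg₀ h)
  obtain ⟨h, h1, h2, h3, h4, h5⟩ := F.point_data (v := 1) (by decide) (hk ▸ vec_kinds.2.2.1)
  haveI hn := h.normalZ
  refine ⟨hn, ?_⟩
  obtain ⟨N, hN⟩ := exists_nine h h1 h2 h3 h4 h5
  have hall : ∀ m : Fin 48, inX F.k m := fun m => hk ▸ inX_all m
  obtain ⟨z, hz, hza⟩ := F.exists_neg (hall 42)
  obtain ⟨σ, hσ, -, hσm⟩ := F.exists_section hz hza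
  have hσC : ∀ a, σ (dcode a) ∈ centralizer ({F.e 1} : Set G) := fun a => mem_centralizer_singleton_iff.2 (by
    have e := (hσ _ (hall (dcode a))).1 1
    rwa [dcode_spec.2.1, mul_inv_eq_iff_eq_mul] at e)
  let j : DihedralGroup 4 →* centralizer ({F.e 1} : Set G) ⧸ (zpowers (F.e 1)).subgroupOf (centralizer ({F.e 1} : Set G)) :=
    (QuotientGroup.mk' _).comp (MonoidHom.mk' (fun a => (⟨σ (dcode a), hσC a⟩ : centralizer ({F.e 1} : Set G)))
      fun a b => Subtype.ext (by
        show σ (dcode (a * b)) = σ (dcode a) * σ (dcode b)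
        rw [dcode_spec.1, hσm _ _ (hall _) (hall _)]))
  have hcard : Nat.card (normalizer ((N.P : Subgroup (centralizer ({F.e 1} : Set G) ⧸
      (zpowers (F.e 1)).subgroupOf (centralizer ({F.e 1} : Set G)))) : Set (centralizer ({F.e 1} : Set G) ⧸
      (zpowers (F.e 1)).subgroupOf (centralizer ({F.e 1} : Set G))))) = 72 := by
    rw [hN]
    have hH : centralizer ({F.e 1} : Set G) ⊓ normalizer (F.J : Set G) ≤ normalizer (F.J : Set G) := inf_le_right
    have hc := F.card_split hH
    rw [show centralizer ({F.e 1} : Set G) ⊓ normalizer (F.J : Set G) ⊓ F.J = F.J from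
      le_antisymm inf_le_right (le_inf (le_inf h.le_C Subgroup.le_normalizer) le_rfl), F.card_J,
      show {m : Fin 48 | ∃ u ∈ centralizer ({F.e 1} : Set G) ⊓ normalizer (F.J : Set G), F.Acts u m} =
        ↑(Finset.univ.filter fun m : Fin 48 => actM m 1 = 1) by
        ext m
        simp only [Set.mem_setOf_eq, Finset.coe_filter, Finset.mem_univ, true_and]
        constructor
        · rintro ⟨u, ⟨hu, -⟩, hum⟩
          exact F.e_inj (by rw [← hum, mem_centralizer_singleton_iff.1 hu, mul_inv_cancel_right])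
        · intro hm
          refine ⟨σ m, ⟨mem_centralizer_singleton_iff.2 ?_, F.acts_mem (hσ m (hall m)).1⟩, (hσ m (hall m)).1⟩
          have e := (hσ m (hall m)).1 1
          rwa [hm, mul_inv_eq_iff_eq_mul] at e, Set.ncard_coe_finset, dcode_spec.2.2.2] at hc
    have e : normalizer ((bar (centralizer ({F.e 1} : Set G)) (zpowers (F.e 1)) F.J : Subgroup _) :
        Set (centralizer ({F.e 1} : Set G) ⧸ (zpowers (F.e 1)).subgroupOf (centralizer ({F.e 1} : Set G)))) =
        ((centralizer ({F.e 1} : Set G) ⊓ normalizer (F.J : Set G)).subgroupOf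
          (centralizer ({F.e 1} : Set G))).map (QuotientGroup.mk' _) := by
      ext q
      obtain ⟨u, rfl⟩ := QuotientGroup.mk_surjective q
      rw [norm_bar h]
      refine ⟨fun hu => ⟨u, mem_subgroupOf.2 ⟨u.2, hu⟩, rfl⟩, ?_⟩
      rintro ⟨w, hw, e⟩
      have hz' : (w : G)⁻¹ * u ∈ zpowers (F.e 1) := mem_subgroupOf.1 (QuotientGroup.eq.1 e)
      have := mul_mem (mem_subgroupOf.1 hw).2 (Subgroup.le_normalizer (h.Z_le hz'))
      rwa [mul_inv_cancel_left] at this
    rw [e, ← Subgroup.relIndex_ker, QuotientGroup.ker_mk', Subgroup.relIndex_subgroupOf inf_le_left]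
    have hle : zpowers (F.e 1) ≤ centralizer ({F.e 1} : Set G) ⊓ normalizer (F.J : Set G) :=
      le_inf (h.Z_le.trans h.le_C) (h.Z_le.trans Subgroup.le_normalizer)
    have e2 := Subgroup.card_mul_index ((zpowers (F.e 1)).subgroupOf
      (centralizer ({F.e 1} : Set G) ⊓ normalizer (F.J : Set G)))
    rw [Nat.card_congr (subgroupOfEquivOfLe hle).toEquiv, hc] at e2
    have h3z : Nat.card (zpowers (F.e 1)) = 3 := by rw [F.card_J] at h1; omega
    rw [h3z] at e2
    show Subgroup.index _ = 72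
    omega
  have hjN : ∀ a, j a ∈ normalizer ((N.P : Subgroup (centralizer ({F.e 1} : Set G) ⧸
      (zpowers (F.e 1)).subgroupOf (centralizer ({F.e 1} : Set G)))) : Set (centralizer ({F.e 1} : Set G) ⧸
      (zpowers (F.e 1)).subgroupOf (centralizer ({F.e 1} : Set G)))) := fun a => by
    rw [hN]; exact (norm_bar h ⟨σ (dcode a), hσC a⟩).2 (F.acts_mem (hσ _ (hall _)).1)
  have hjP : ∀ a, j a ∈ (N.P : Subgroup _) → a = 1 := fun a ha => by
    rw [hN] at ha
    exact dcode_spec.2.2.1 a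
      (F.acts_unique (hσ _ (hall _)).1 (F.acts_J ((mem_bar h ⟨σ (dcode a), hσC a⟩).1 ha)))
  rcases Cfsg.Lib.Order9.main8 N.P N.card9 N.cent N.hC j hjN hjP hcard with hnorm | hS
  · exfalso
    refine hbad1 fun u hu => (norm_bar h ⟨u, hu⟩).1 ?_
    rw [← hN, Subgroup.normalizer_eq_top]
    exact Subgroup.mem_top _
  · exact hS

end Frame

end Cfsg.Lib.SymNineLocal
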