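import Cfsg.Agent.LocalThree.SymNineLocal.Nine

/-!
A Sylow subgroup of order nine containing the centralisers of its nontrivial elements, with automizer
of exponent two, is normal.
-/

set_option autoImplicit false
set_option linter.unusedSectionVars false
set_option maxRecDepth 8000
set_option synthInstance.maxSize 4000

namespace Cfsg.Lib.SymNineLocal

open Subgroup Cfsg.Lib.Order9
open scoped Pointwise commutatorElement

universe u

/-- The negation. -/
def negM : Mt := ((-1, 0), (0, -1))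

theorem mat_line : ∀ R : Mt, comp R R = idm → R ≠ negM → ∃ w : Vec, ∀ v : Vec,
    v - app R v = 0 ∨ v - app R v = w ∨ v - app R v = -w := by decide +kernel

theorem mat_neg : ∀ R S : Mt, comp R R = idm → comp S S = idm → comp R S = comp S R → R ≠ idm → S ≠ idm → R ≠ S →
    R = negM ∨ S = negM ∨ comp R S = negM := by decide +kernel

theorem mat_four : ∀ R S : Mt, comp R R = idm → comp S S = idm → comp R S = comp S R → R ≠ idm → R ≠ negM →
    S = idm ∨ S = negM ∨ S = R ∨ S = comp negM R := by decide +kernel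

theorem mat_app : (∀ v, app negM v = -v) ∧
    ∀ v w : Vec, v = (1, 0) → w = (0, 1) → v + w = (1, 1) := by decide +kernel

theorem frame_ne : (∀ i : Fin 3, (![(1, 0), (0, 1), (1, 1)] i : Vec) ≠ 0) ∧
    ∀ i j : Fin 3, i ≠ j → (![(1, 0), (0, 1), (1, 1)] i : Vec) ≠ ![(1, 0), (0, 1), (1, 1)] j ∧
      (![(1, 0), (0, 1), (1, 1)] i : Vec) + ![(1, 0), (0, 1), (1, 1)] j ≠ 0 := by decide +kernel

variable {G : Type u} [Group G] [Finite G]

namespace Nine

variable (S : Nine G)

include S

theorem commute_mats (hsq : ∀ g ∈ normalizer ((S.P : Subgroup G) : Set G), g * g ∈ (S.P : Subgroup G))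
    (C : Coord (S.P : Subgroup G)) {g h : G} (hg : g ∈ normalizer ((S.P : Subgroup G) : Set G))
    (hh : h ∈ normalizer ((S.P : Subgroup G) : Set G)) :
    comp (C.mat hg) (C.mat hg) = idm ∧ comp (C.mat hg) (C.mat hh) = comp (C.mat hh) (C.mat hg) := by
  have hone : ∀ {k : G} (hk : k ∈ normalizer ((S.P : Subgroup G) : Set G)), k ∈ (S.P : Subgroup G) → C.mat hk = idm :=
    fun {k} hk hkP => app_inj_basis fun v => C.inj (by
      rw [C.el_mat, app_idm, S.comm hkP (C.mem v)]; group)
  have hinv : ∀ {k : G} (hk : k ∈ normalizer ((S.P : Subgroup G) : Set G)), comp (C.mat hk) (C.mat hk) = idm :=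
    fun {k} hk => by rw [← C.mat_mul hk hk]; exact hone _ (hsq k hk)
  refine ⟨hinv hg, app_inj_basis fun v => ?_⟩
  have h1 : ∀ R : Mt, comp R R = idm → ∀ w, app R (app R w) = w := fun R e w => by rw [← app_comp, e, app_idm]
  have h2 := h1 _ (hinv (mul_mem hg hh)) (app (C.mat hh) (app (C.mat hg) v))
  rw [C.mat_mul hg hh, app_comp, app_comp, h1 _ (hinv hh), h1 _ (hinv hg)] at h2
  rw [app_comp, app_comp]
  exact h2

set_option maxHeartbeats 1000000 in
/-- With automizer of exponent two the Sylow subgroup is normal. -/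
theorem normal_of_sq (hsq : ∀ g ∈ normalizer ((S.P : Subgroup G) : Set G), g * g ∈ (S.P : Subgroup G)) :
    (S.P : Subgroup G).Normal := by
  haveI : Fact (Nat.Prime 3) := ⟨Nat.prime_three⟩
  by_contra hnn
  have hbig : ∀ M : Subgroup G, M.Normal → M ≠ ⊥ → (S.P : Subgroup G) ≤ M := fun M hM h =>
    (S.normal_cases hsq M h).resolve_left hnn
  -- the stable term of the derived series
  obtain ⟨n, hn⟩ : ∃ n, derivedSeries G (n + 1) = derivedSeries G n := by
    by_contra h
    push_neg at h
    have hlt : ∀ n, Nat.card (derivedSeries G n) + n ≤ Nat.card G := by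
      intro n
      induction n with
      | zero => simp
      | succ n ih =>
        have hle : derivedSeries G (n + 1) ≤ derivedSeries G n := derivedSeries_antitone G (Nat.le_succ n)
        have := lt_of_le_of_ne hle (h n)
        have h2 : Nat.card (derivedSeries G (n + 1)) < Nat.card (derivedSeries G n) := by
          rcases lt_or_eq_of_le (Subgroup.card_le_of_le hle) with e | e
          · exact e
          · exact absurd (Subgroup.eq_of_le_of_card_ge hle e.ge) (h n)
        omega
    have h0 := hlt (Nat.card G + 1)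
    omega
  obtain ⟨R, hR⟩ : ∃ R : Subgroup G, R = derivedSeries G n := ⟨_, rfl⟩
  haveI hRn : R.Normal := hR ▸ inferInstance
  by_cases hR0 : R = ⊥
  · -- solvable
    obtain ⟨m, hm, hm1⟩ : ∃ m, derivedSeries G m ≠ ⊥ ∧ derivedSeries G (m + 1) = ⊥ := by
      by_contra h
      push_neg at h
      have : ∀ k, derivedSeries G k ≠ ⊥ := by
        intro k
        induction k with
        | zero =>
          rw [derivedSeries_zero]
          intro e
          refine hnn ?_
          rw [show (S.P : Subgroup G) = ⊥ from eq_bot_iff.2 (le_top.trans (le_of_eq e))]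
          infer_instance
        | succ k ih => exact h k ih
      exact this n (hR ▸ hR0)
    obtain ⟨D, hD⟩ : ∃ D : Subgroup G, D = derivedSeries G m := ⟨_, rfl⟩
    haveI hDn : D.Normal := hD ▸ inferInstance
    rw [← hD] at hm
    rw [derivedSeries_succ, ← hD] at hm1
    have hPD := hbig D hDn hm
    have hcommD : IsMulCommutative D := ⟨⟨fun a b => Subtype.ext (by
      have := mem_bot.1 (hm1 ▸ commutator_mem_commutator a.2 b.2 : ⁅(a : G), (b : G)⁆ ∈ (⊥ : Subgroup G))
      rw [Subgroup.coe_mul, Subgroup.coe_mul]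
      exact commutatorElement_eq_one_iff_mul_comm.1 this)⟩⟩
    refine hnn ?_
    let PD : Sylow 3 D := S.P.subtype hPD
    haveI hPn : (PD : Subgroup D).Normal := ⟨fun a ha g => by
      rwa [show g * a * g⁻¹ = a by rw [hcommD.is_comm.comm g a]; group]⟩
    haveI := Sylow.characteristic_of_normal PD hPn
    have := ConjAct.normal_of_characteristic_of_normal (G := G) (H := D) (K := (PD : Subgroup D))
    rwa [Sylow.coe_subtype, Subgroup.map_subgroupOf_eq_of_le hPD] at this
  have hPR := hbig R hRn hR0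
  have hperf : ⁅R, R⁆ = R := by rw [hR, ← derivedSeries_succ, hn]
  let PR : Sylow 3 R := S.P.subtype hPR
  have hPRm : ∀ a : R, a ∈ (PR : Subgroup R) ↔ (a : G) ∈ (S.P : Subgroup G) := fun a => by
    rw [Sylow.coe_subtype, mem_subgroupOf]
  have hnR : ∀ g : R, g ∈ normalizer ((PR : Subgroup R) : Set R) ↔ (g : G) ∈ normalizer ((S.P : Subgroup G) : Set G) :=
    fun g => by rw [Sylow.coe_subtype, ← Subgroup.subgroupOf_normalizer_eq hPR, mem_subgroupOf]
  have hPRc : IsMulCommutative (PR : Subgroup R) :=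
    ⟨⟨fun a b => Subtype.ext (Subtype.ext (S.comm ((hPRm a).1 a.2) ((hPRm b).1 b.2)))⟩⟩
  obtain ⟨C⟩ := exists_coord _ S.card9 S.cube
  -- an inverting element
  have hneg : ∃ t : R, ∃ ht : (t : G) ∈ normalizer ((S.P : Subgroup G) : Set G), C.mat ht = negM := by
    by_contra hno
    push_neg at hno
    have hfoc : ∀ a ∈ (S.P : Subgroup G), ∃ b : R, b ∈ ⁅(PR : Subgroup R), normalizer (PR : Set R)⁆ ∧
        (b : G) = a := by
      intro a ha
      refine ⟨⟨a, hPR ha⟩, ?_, rfl⟩
      rw [← Cfsg.Lib.Transfer.focal_eq_commutator_normalizer PR hPRc,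
        ← Subgroup.commutator_inf_eq_focalSubgroup PR]
      refine ⟨?_, (hPRm _).2 ha⟩
      have h' : a ∈ (commutator R).map R.subtype := by
        rw [map_subtype_commutator, hperf]; exact hPR ha
      obtain ⟨c, hc, hca⟩ := h'
      rwa [show (⟨a, hPR ha⟩ : R) = c from Subtype.ext hca.symm]
    obtain ⟨w, hw⟩ : ∃ w : Vec, ∀ g : R, ∀ hg : (g : G) ∈ normalizer ((S.P : Subgroup G) : Set G), ∀ v : Vec,
        v - app (C.mat hg) v = 0 ∨ v - app (C.mat hg) v = w ∨ v - app (C.mat hg) v = -w := by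
      by_cases hall : ∀ g : R, ∀ hg : (g : G) ∈ normalizer ((S.P : Subgroup G) : Set G), C.mat hg = idm
      · exact ⟨0, fun g hg v => Or.inl (by rw [hall g hg, app_idm, sub_self])⟩
      push_neg at hall
      obtain ⟨g₀, hg₀, hne⟩ := hall
      obtain ⟨w, hw⟩ := mat_line _ (S.commute_mats hsq C hg₀ hg₀).1 (hno g₀ hg₀)
      refine ⟨w, fun g hg v => ?_⟩
      by_cases h1 : C.mat hg = idm
      · exact Or.inl (by rw [h1, app_idm, sub_self])
      by_cases h2 : C.mat hg = C.mat hg₀
      · rw [h2]; exact hw v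
      exfalso
      have e := S.commute_mats hsq C hg hg₀
      rcases mat_neg _ _ e.1 (S.commute_mats hsq C hg₀ hg₀).1 e.2 h1 hne h2 with e' | e' | e'
      · exact hno g hg e'
      · exact hno g₀ hg₀ e'
      · rw [← C.mat_mul hg hg₀] at e'
        exact hno (g * g₀) (mul_mem hg hg₀) e'
    obtain ⟨L, hL⟩ : ∃ L : Subgroup G, L = zpowers (C.el w) := ⟨_, rfl⟩
    have hle : ⁅(PR : Subgroup R), normalizer (PR : Set R)⁆ ≤ L.comap R.subtype := by
      rw [commutator_le]
      intro p hp g hg
      show ((⁅p, g⁆ : R) : G) ∈ L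
      have hg' := (hnR g).1 hg
      obtain ⟨v, hv⟩ := C.surj _ ((hPRm p).1 hp)
      have e : ((⁅p, g⁆ : R) : G) = C.el (v - app (C.mat hg') v) := by
        rw [sub_eq_add_neg, C.add, show C.el (-app (C.mat hg') v) = (C.el (app (C.mat hg') v))⁻¹ from
          eq_inv_of_mul_eq_one_right (by rw [← C.add, add_neg_cancel, C.el_zero]), C.el_mat hg', hv]
        simp [commutatorElement_def, mul_assoc]
      rw [e, hL]
      rcases hw g hg' v with h | h | h <;> rw [h]
      · rw [C.el_zero]; exact one_mem _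
      · exact mem_zpowers _
      · rw [show C.el (-w) = (C.el w)⁻¹ from eq_inv_of_mul_eq_one_right (by rw [← C.add, add_neg_cancel, C.el_zero])]
        exact inv_mem (mem_zpowers _)
    have hPL : (S.P : Subgroup G) ≤ L := fun a ha => by
      obtain ⟨b, hb, rfl⟩ := hfoc a ha
      exact hle hb
    have := Subgroup.card_le_of_le hPL
    rw [S.card9, hL, Nat.card_zpowers] at this
    have h3 : orderOf (C.el w) ≤ 3 := Nat.le_of_dvd (by norm_num) (orderOf_dvd_of_pow_eq_one (by
      rw [pow_succ', pow_two]; exact S.cube _ (C.mem w)))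
    omega
  obtain ⟨t, ht, htn⟩ := hneg
  have hinvt : ∀ s ∈ (S.P : Subgroup G), (t : G) * s * (t : G)⁻¹ = s⁻¹ := fun s hs => by
    obtain ⟨v, rfl⟩ := C.surj s hs
    rw [← C.el_mat ht, htn, mat_app.1]
    exact eq_inv_of_mul_eq_one_right (by rw [← C.add, add_neg_cancel, C.el_zero])
  have hidmP : ∀ {g : R} (hg : (g : G) ∈ normalizer ((S.P : Subgroup G) : Set G)), C.mat hg = idm →
      (g : G) ∈ (S.P : Subgroup G) := fun {g} hg h => S.cent ▸ C.mat_eq_idm hg h
  have hcentR : centralizer (((PR : Subgroup R)) : Set R) = PR := by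
    refine le_antisymm (fun g hg => (hPRm g).2 (S.cent ▸ mem_centralizer_iff.2 fun a ha => ?_)) fun g hg => ?_
    · exact congrArg Subtype.val (mem_centralizer_iff.1 hg ⟨a, hPR ha⟩ ((hPRm _).2 ha))
    · exact mem_centralizer_iff.2 fun a ha => Subtype.ext (S.comm ((hPRm a).1 ha) ((hPRm g).1 hg))
  have hCR : ∀ a ∈ (PR : Subgroup R), a ≠ 1 →
      centralizer ({a} : Set R) ≤ normalizer ((PR : Subgroup R) : Set R) := fun a ha ha1 g hg =>
    (hnR g).2 (S.hC a ((hPRm a).1 ha) (fun e => ha1 (Subtype.ext e))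
      (mem_centralizer_singleton_iff.2 (congrArg Subtype.val (mem_centralizer_singleton_iff.1 hg))))
  have hcard9 : Nat.card (PR : Subgroup R) = 9 := by
    rw [Sylow.coe_subtype, Nat.card_congr (subgroupOfEquivOfLe hPR).toEquiv, S.card9]
  have hcube : ∀ a ∈ (PR : Subgroup R), a * (a * a) = 1 := fun a ha => Subtype.ext (S.cube _ ((hPRm a).1 ha))
  -- the Sylow subgroup is not normal in the perfect group
  have hPRn : normalizer ((PR : Subgroup R) : Set R) ≠ ⊤ := by
    intro h
    refine hnn ?_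
    haveI := Sylow.characteristic_of_normal PR (Subgroup.normalizer_eq_top_iff.1 h)
    have := ConjAct.normal_of_characteristic_of_normal (G := G) (H := R) (K := (PR : Subgroup R))
    rwa [Sylow.coe_subtype, Subgroup.map_subgroupOf_eq_of_le hPR] at this
  by_cases hsmall : ∀ g : R, g ∈ normalizer ((PR : Subgroup R) : Set R) →
      g ∈ (PR : Subgroup R) ∨ t⁻¹ * g ∈ (PR : Subgroup R)
  · -- inverting automizer
    obtain ⟨r0, hr0⟩ : ∃ r : R, (r : G) = C.el (1, 0) := ⟨⟨_, hPR (C.mem _)⟩, rfl⟩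
    obtain ⟨r1, hr1⟩ : ∃ r : R, (r : G) = C.el (0, 1) := ⟨⟨_, hPR (C.mem _)⟩, rfl⟩
    have hr : ∀ i : Fin 3, ((![r0, r1, r0 * r1] i : R) : G) = C.el (![(1, 0), (0, 1), (1, 1)] i) := by
      intro i
      fin_cases i
      · exact hr0
      · exact hr1
      · show ((r0 * r1 : R) : G) = C.el (1, 1)
        rw [Subgroup.coe_mul, hr0, hr1, ← C.add]; rfl
    have hne := frame_ne.1
    have hrm : ∀ i : Fin 3, ![r0, r1, r0 * r1] i ∈ (PR : Subgroup R) := fun i => (hPRm _).2 (hr i ▸ C.mem _)
    have hr1' : ∀ i : Fin 3, ![r0, r1, r0 * r1] i ≠ 1 := fun i h =>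
      hne i (C.inj (by rw [← hr i, h, C.el_zero]; rfl))
    let T : Cfsg.Lib.AltNineLocal.Three R :=
      { P := PR
        r := ![r0, r1, r0 * r1]
        r_two := rfl
        r_mem := hrm
        card9 := hcard9
        cube := hcube
        comm := fun s hs s' hs' => Subtype.ext (S.comm ((hPRm s).1 hs) ((hPRm s').1 hs'))
        r_ne := hr1'
        r_sep := fun i j hij => by
          have h := frame_ne.2
          refine ⟨fun e => (h i j hij).1 (C.inj (by rw [← hr i, ← hr j, e])), fun e => (h i j hij).2 (C.inj ?_)⟩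
          rw [C.add, ← hr i, ← hr j, e, C.el_zero]; simp
        cent := fun i => by
          refine le_antisymm (fun g hg => ?_) fun g hg =>
            mem_centralizer_singleton_iff.2 (Subtype.ext (S.comm ((hPRm g).1 hg) ((hPRm _).1 (hrm i))))
          rcases hsmall g (hCR _ (hrm i) (hr1' i) hg) with h | h
          · exact h
          · exfalso
            have hc : Commute ((t⁻¹ * g : R)) (![r0, r1, r0 * r1] i) :=
              Subtype.ext (S.comm ((hPRm _).1 h) ((hPRm _).1 (hrm i)))
            have hg' : Commute g (![r0, r1, r0 * r1] i) := mem_centralizer_singleton_iff.1 hg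
            have ht' : Commute t (![r0, r1, r0 * r1] i) := by
              have := (hg'.mul_left hc.inv_left)
              rwa [show g * (t⁻¹ * g)⁻¹ = t by group] at this
            have hi := hinvt _ ((hPRm _).1 (hrm i))
            rw [show (t : G) * ((![r0, r1, r0 * r1] i : R) : G) = ((![r0, r1, r0 * r1] i : R) : G) * t from
              congrArg Subtype.val ht'.eq, mul_inv_cancel_right] at hi
            refine hr1' i (Subtype.ext ?_)
            have h3 := S.cube _ ((hPRm _).1 (hrm i))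
            generalize ((![r0, r1, r0 * r1] i : R) : G) = x at hi h3 ⊢
            have hxx : x * x = 1 := by nth_rewrite 2 [hi]; exact mul_inv_cancel x
            rw [hxx, mul_one] at h3
            rw [h3]; rfl
        t := t
        inv := fun s hs => Subtype.ext (by simpa using hinvt _ ((hPRm s).1 hs))
        norm := hsmall
        core := by
          have h1 := Cfsg.Lib.Components.coprime_card_pPrimeCore (G := R) 3
          haveI := pPrimeCore_char 3 R
          haveI : ((Cfsg.pPrimeCore 3 R).map R.subtype).Normal := ConjAct.normal_of_characteristic_of_normal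
          have h2 := S.sig ((Cfsg.pPrimeCore 3 R).map R.subtype)
            (by rwa [Subgroup.card_map_of_injective R.subtype_injective])
            (by rw [Subgroup.normalizer_eq_top]; exact le_top)
          rwa [Subgroup.map_eq_bot_iff, Subgroup.ker_subtype, le_bot_iff] at h2 }
    exact hPRn T.normal
  -- four-group automizer
  push_neg at hsmall
  obtain ⟨g, hg, hgP, hgt⟩ := hsmall
  have hg' := (hnR g).1 hg
  have hg1 : C.mat hg' ≠ idm := fun h => hgP ((hPRm g).2 (hidmP hg' h))
  have hg2 : C.mat hg' ≠ negM := by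
    intro h
    refine hgt ((hPRm _).2 ?_)
    refine hidmP (g := t⁻¹ * g) (mul_mem (inv_mem ht) hg') ?_
    refine app_inj_basis fun v => C.inj ?_
    rw [C.el_mat, app_idm]
    have e := C.el_mat hg' v
    rw [h, mat_app.1] at e
    have e2 := hinvt _ (C.mem v)
    have e3 : (C.el v)⁻¹ = C.el (-v) :=
      (eq_inv_of_mul_eq_one_right (by rw [← C.add, add_neg_cancel, C.el_zero])).symm
    push_cast
    rw [show (t : G)⁻¹ * g * C.el v * ((t : G)⁻¹ * g)⁻¹ = (t : G)⁻¹ * (g * C.el v * (g : G)⁻¹) * t by group,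
      ← e, ← e3, ← e2]
    group
  have hN : ∀ x : R, x ∈ normalizer ((PR : Subgroup R) : Set R) → x * x ∈ (PR : Subgroup R) := fun x hx =>
    (hPRm _).2 (hsq _ ((hnR x).1 hx))
  let N := normalizer ((PR : Subgroup R) : Set R)
  let Pn := (PR : Subgroup R).subgroupOf N
  have htN : t ∈ N := (hnR t).2 ht
  have hcover : ∀ x : N, (x : N ⧸ Pn) = 1 ∨ (x : N ⧸ Pn) = (⟨t, htN⟩ : N) ∨ (x : N ⧸ Pn) = (⟨g, hg⟩ : N) ∨
      (x : N ⧸ Pn) = ((⟨t, htN⟩ * ⟨g, hg⟩ : N) : N ⧸ Pn) := by
    intro x
    have hx := (hnR x).1 x.2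
    have key : ∀ (y : N), C.mat hx = C.mat ((hnR y).1 y.2) → (x : N ⧸ Pn) = y := by
      intro y e
      refine (QuotientGroup.eq.2 ?_).symm
      refine mem_subgroupOf.2 ((hPRm _).2 (hidmP (g := ((y⁻¹ * x : N) : R)) (mul_mem (inv_mem ((hnR y).1 y.2)) hx) ?_))
      refine app_inj_basis fun v => C.inj ?_
      have e1 := C.el_mat hx v
      rw [e, C.el_mat] at e1
      rw [C.el_mat, app_idm]
      push_cast
      rw [show ((y : R) : G)⁻¹ * ((x : R) : G) * C.el v * (((y : R) : G)⁻¹ * ((x : R) : G))⁻¹ =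
        ((y : R) : G)⁻¹ * (((x : R) : G) * C.el v * ((x : R) : G)⁻¹) * ((y : R) : G) by group, ← e1]
      group
    rcases mat_four _ _ (S.commute_mats hsq C hg' hg').1 (S.commute_mats hsq C hx hx).1
      (S.commute_mats hsq C hg' hx).2 hg1 hg2 with e | e | e | e
    · refine Or.inl ((key 1 ?_).trans (QuotientGroup.mk_one _))
      exact e.trans (C.mat_one _).symm
    · exact Or.inr (Or.inl (key ⟨t, htN⟩ (e.trans htn.symm)))
    · exact Or.inr (Or.inr (Or.inl (key ⟨g, hg⟩ e)))
    · refine Or.inr (Or.inr (Or.inr (key (⟨t, htN⟩ * ⟨g, hg⟩) ?_)))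
      rw [e, ← htn, ← C.mat_mul ht hg']
  haveI hPn : Pn.Normal := Subgroup.normal_in_normalizer
  have hne : ∀ {y : N}, (y : N ⧸ Pn) = 1 → (y : R) ∈ (PR : Subgroup R) := fun {y} e =>
    mem_subgroupOf.1 ((QuotientGroup.eq_one_iff _).1 e)
  have htP : t ∉ (PR : Subgroup R) := by
    intro h
    have h1 : C.mat ht = idm := app_inj_basis fun v => C.inj (by
      rw [C.el_mat, app_idm, S.comm ((hPRm t).1 h) (C.mem v)]; group)
    rw [htn] at h1
    exact absurd h1 (by decide)
  have hcard : Nat.card (N ⧸ Pn) = 4 := by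
    classical
    refine le_antisymm ?_ ?_
    · refine le_trans (Nat.card_le_card_of_surjective
        (fun i : Fin 4 => (![(1 : N ⧸ Pn), ((⟨t, htN⟩ : N) : N ⧸ Pn), ((⟨g, hg⟩ : N) : N ⧸ Pn),
          ((⟨t, htN⟩ * ⟨g, hg⟩ : N) : N ⧸ Pn)] i)) fun q => ?_) (by simp)
      obtain ⟨x, rfl⟩ := QuotientGroup.mk_surjective q
      rcases hcover x with e | e | e | e
      exacts [⟨0, e.symm⟩, ⟨1, e.symm⟩, ⟨2, e.symm⟩, ⟨3, e.symm⟩]
    · have ho : ∀ y : N ⧸ Pn, y * y = 1 := fun y => by
        obtain ⟨x, rfl⟩ := QuotientGroup.mk_surjective y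
        rw [← QuotientGroup.mk_mul]
        exact (QuotientGroup.eq_one_iff _).2 (mem_subgroupOf.2 (hN x x.2))
      have hgP' : ((⟨g, hg⟩ : N) : N ⧸ Pn) ≠ 1 := fun e => hgP (hne e)
      have htP' : ((⟨t, htN⟩ : N) : N ⧸ Pn) ≠ 1 := fun e => htP (hne e)
      have hgt' : ((⟨t, htN⟩ : N) : N ⧸ Pn) ≠ ((⟨g, hg⟩ : N) : N ⧸ Pn) := fun e =>
        hgt (mem_subgroupOf.1 (QuotientGroup.eq.1 e))
      have hinj : Function.Injective (fun i : Fin 4 => (![(1 : N ⧸ Pn), ((⟨t, htN⟩ : N) : N ⧸ Pn),
          ((⟨g, hg⟩ : N) : N ⧸ Pn), ((⟨t, htN⟩ : N) : N ⧸ Pn) * ((⟨g, hg⟩ : N) : N ⧸ Pn)] i)) := by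
        generalize ((⟨t, htN⟩ : N) : N ⧸ Pn) = a at htP' hgt'
        generalize ((⟨g, hg⟩ : N) : N ⧸ Pn) = b at hgP' hgt'
        have hab : a * b ≠ 1 := fun e => hgt' (by
          rw [show b = a⁻¹ from eq_inv_of_mul_eq_one_right e, inv_eq_of_mul_eq_one_right (ho a)])
        have habA : a * b ≠ a := fun e => hgP' (mul_eq_left.1 e)
        have habB : a * b ≠ b := fun e => htP' (mul_eq_right.1 e)
        intro i j h
        fin_cases i <;> fin_cases j <;> first
          | rfl
          | exact absurd h (by simp [hgP', htP', hgt', hab, habA, habB, hgP'.symm, htP'.symm, hgt'.symm,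
              hab.symm, habA.symm, habB.symm])
      exact le_trans (by simp) (Nat.card_le_card_of_injective _ hinj)
  haveI : IsKleinFour (N ⧸ Pn) := ⟨hcard, by
    haveI : Nontrivial (N ⧸ Pn) := Finite.one_lt_card_iff_nontrivial.1 (by rw [hcard]; norm_num)
    refine (Monoid.exponent_eq_prime_iff Nat.prime_two).2 fun y hy => orderOf_eq_prime ?_ hy
    obtain ⟨x, rfl⟩ := QuotientGroup.mk_surjective y
    rw [pow_two, ← QuotientGroup.mk_mul]
    exact (QuotientGroup.eq_one_iff _).2 (mem_subgroupOf.2 (hN x x.2))⟩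
  obtain ⟨e⟩ := IsKleinFour.nonempty_mulEquiv (G₁ := N ⧸ Pn) (G₂ := DihedralGroup 2)
  obtain ⟨j, hj, hjP⟩ := exists_lift (PR : Subgroup R) hPn (by
    rw [hcard9, DihedralGroup.nat_card]; norm_num) e
  obtain ⟨T, hT⟩ := setup4 PR hcard9 hcube hCR hcentR j hj hjP (by
    have := Pn.card_mul_index
    rw [Nat.card_congr (subgroupOfEquivOfLe Subgroup.le_normalizer).toEquiv, hcard9, Subgroup.index, hcard] at this
    exact this.symm)
  exact klein_false T (hT ▸ hPRn)

end Nine

end Cfsg.Lib.SymNineLocal
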