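import Cfsg.Agent.LocalThree.SymNineLocal.Split

/-!
When all centralisers of elements of the elementary group normalise it, so does the centraliser of a
transposition, and this determines its conjugates in the normaliser.
-/

set_option autoImplicit false
set_option linter.unusedSectionVars false
set_option maxRecDepth 8000
set_option synthInstance.maxSize 4000

namespace Cfsg.Lib.SymNineLocal

open Subgroup
open scoped Pointwise

universe u

/-- Conjugate in the group. -/
def ConjX (k : Fin 4) (a b : Fin 48) : Prop :=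
  ∃ n n' : Fin 48, inX k n ∧ mulM n n' = 0 ∧ mulM (mulM n a) n' = b

instance (k : Fin 4) (a b : Fin 48) : Decidable (ConjX k a b) :=
  inferInstanceAs (Decidable (∃ n n' : Fin 48, inX k n ∧ mulM n n' = 0 ∧ mulM (mulM n a) n' = b))

/-- The number of fixed vectors. -/
def fixC (m : Fin 48) : ℕ := (Finset.univ.filter fun v : Fin 27 => actM m v = v).card

/-- The order of the centraliser in the group. -/
def centC (k : Fin 4) (m : Fin 48) : ℕ :=
  (Finset.univ.filter fun n : Fin 48 => inX k n ∧ mulM n m = mulM m n).card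

theorem swap_facts : (∀ k, inX k 2) ∧ mulM 2 2 = 0 ∧ fixC 2 = 9 ∧
    (∀ n : Fin 48, mulM n 2 = mulM 2 n → mulM n (mulM n n) = 0 → n = 0) ∧
    (∀ n : Fin 48, mulM n 2 = mulM 2 n → mulM n n = 0) ∧
    (∀ n : Fin 48, (∀ v ∈ span2 4 9, actM n v = v) → n = 0 ∨ n = 2) ∧
    (∀ v : Fin 27, v ∈ span2 4 9 ↔ actM 2 v = v) ∧ ofP 2 = 2 := by decide +kernel

theorem class_arith : ∀ k : Fin 4, ∀ m : Fin 48, inX k m → mulM m m = 0 → m ≠ 0 →
    ((m ≠ 42 → fixC m = 9 → fixC m * centC k m ∣ 9 * centC k 2 → ConjX k 2 m) ∧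
      (m = 42 → fixC m * centC k m ∣ 9 * centC k 2 → k = 1)) ∧
    (m ≠ 42 → fixC m ≠ 1) ∧
    (∀ n : Fin 48, mulM n (mulM n n) = 0 → mulM n m = mulM m n → ∀ v : Fin 27, v ≠ 0 → actM m v = v → actM n v = v → n = 0) := by
  decide +kernel

namespace Frame

variable {G : Type u} [Group G] [Finite G] (F : Frame G)

include F

theorem acts_comm {g h : G} {m n : Fin 48} (hg : F.Acts g m) (hh : F.Acts h n) (hc : Commute g h) :
    mulM m n = mulM n m := F.acts_unique (F.acts_mul hg hh) (hc.eq ▸ F.acts_mul hh hg)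

/-- Lifting centralising actions. -/
theorem lift_comm {v : G} {m : Fin 48} (hv : v * v = 1) (hm : F.Acts v m) {n : Fin 48} (hn : inX F.k n)
    (hc : mulM n m = mulM m n) : ∃ g, F.Acts g n ∧ Commute g v := by
  obtain ⟨g, -, hg⟩ := F.lift n hn
  obtain ⟨n', hn'⟩ : ∃ n', mulM n' n = 0 ∧ mulM n n' = 0 :=
    (show ∀ n, ∃ n', mulM n' n = 0 ∧ mulM n n' = 0 by decide +kernel) n
  have hgi := F.acts_inv hg hn'.1
  have hm' : F.Acts (g * v * g⁻¹) m := by
    have e := F.acts_mul (F.acts_mul hg hm) hgi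
    have : mulM (mulM n m) n' = m := by
      refine actE_inj ?_
      rw [actE_mul, hc, actE_mul, mul_assoc, ← actE_mul n n', hn'.2, actE_zero, mul_one]
    rwa [this] at e
  obtain ⟨j, hj, e⟩ := F.conj_of_acts hv (by
    rw [show g * v * g⁻¹ * (g * v * g⁻¹) = g * (v * v) * g⁻¹ by group, hv, mul_one, mul_inv_cancel]) hm hm'
  refine ⟨j⁻¹ * g, ?_, ?_⟩
  · have := F.acts_mul (F.acts_J (inv_mem hj)) hg
    rwa [(m_facts.1 n).1] at this
  · show j⁻¹ * g * v = v * (j⁻¹ * g)
    calc j⁻¹ * g * v = j⁻¹ * (g * v * g⁻¹) * g := by group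
      _ = _ := by rw [← e]; group

/-- The order of the centraliser of an involution in the normaliser. -/
theorem card_cent_inf {v : G} {m : Fin 48} (hv : v * v = 1) (hm : F.Acts v m) :
    Nat.card (centralizer ({v} : Set G) ⊓ normalizer (F.J : Set G) : Subgroup G) = fixC m * centC F.k m := by
  rw [F.card_split inf_le_right, fixC, centC, ← Nat.card_eq_finsetCard, ← Set.ncard_coe_finset]
  congr 1
  · refine Nat.card_congr
      { toFun := fun x => ⟨Classical.choose ((F.memJ x.1).1 x.2.2), Finset.mem_filter.2 ⟨Finset.mem_univ _, ?_⟩⟩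
        invFun := fun w => ⟨F.e w.1, ⟨mem_centralizer_singleton_iff.2 ?_, Subgroup.le_normalizer (F.e_mem _)⟩, F.e_mem _⟩
        left_inv := fun x => Subtype.ext (Classical.choose_spec ((F.memJ x.1).1 x.2.2))
        right_inv := fun w => Subtype.ext (F.e_inj (Classical.choose_spec ((F.memJ (F.e w.1)).1 (F.e_mem _)))) }
    · refine F.e_inj ?_
      rw [← hm, Classical.choose_spec ((F.memJ x.1).1 x.2.2), ← mem_centralizer_singleton_iff.1 x.2.1.1,
        mul_inv_cancel_right]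
    · have e := hm w.1
      rw [(Finset.mem_filter.1 w.2).2, mul_inv_eq_iff_eq_mul] at e
      exact e.symm
  · congr 1
    ext n
    simp only [Set.mem_setOf_eq, Finset.coe_filter, Finset.mem_univ, true_and]
    constructor
    · rintro ⟨g, ⟨hg, -⟩, hgn⟩
      exact ⟨F.acts_inX hgn, F.acts_comm hgn hm (mem_centralizer_singleton_iff.1 hg)⟩
    · rintro ⟨hn, hc⟩
      obtain ⟨g, hgn, hgv⟩ := F.lift_comm hv hm hn hc
      exact ⟨g, ⟨mem_centralizer_singleton_iff.2 hgv.eq, F.acts_mem hgn⟩, hgn⟩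

/-- The transposition. -/
theorem exists_transp : ∃ t : G, t * t = 1 ∧ F.Acts t 2 :=
  ⟨F.s 2, by rw [F.s_mul, show pc 2 2 = 0 by decide +kernel, F.s_zero], swap_facts.2.2.2.2.2.2.2 ▸ F.acts_s 2⟩

theorem cent_transp (hloc : F.Loc3) {t : G} (ht : t * t = 1) (hta : F.Acts t 2) :
    centralizer ({t} : Set G) ≤ normalizer (F.J : Set G) := by
  obtain ⟨P, hPJ, hP, hPc⟩ := F.exists_span 4 9
  have h9 : Nat.card P = 9 := hPc.trans (by decide +kernel)
  have hPt : ∀ {a}, a ∈ P ↔ a ∈ F.J ∧ Commute a t := by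
    intro a
    constructor
    · intro ha
      obtain ⟨v, hv, rfl⟩ := (hP a).1 ha
      refine ⟨F.e_mem v, ?_⟩
      have e := hta v
      rw [(swap_facts.2.2.2.2.2.2.1 v).1 hv, mul_inv_eq_iff_eq_mul] at e
      exact e.symm
    · rintro ⟨ha, hc⟩
      obtain ⟨v, rfl⟩ := (F.memJ a).1 ha
      refine (hP _).2 ⟨v, (swap_facts.2.2.2.2.2.2.1 v).2 (F.e_inj ?_), rfl⟩
      rw [← hta, hc.symm.eq, mul_inv_cancel_right]
  obtain ⟨Z, hZ⟩ : ∃ Z : Subgroup G, Z = zpowers t := ⟨_, rfl⟩
  have hZm : ∀ {z}, z ∈ Z ↔ z = 1 ∨ z = t := by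
    intro z
    rw [hZ]
    constructor
    · rintro ⟨i, rfl⟩
      rcases Int.even_or_odd' i with ⟨r, rfl | rfl⟩
      · left; show t ^ (2 * r) = 1; rw [zpow_mul, zpow_two, ht, one_zpow]
      · right; show t ^ (2 * r + 1) = t; rw [zpow_add, zpow_mul, zpow_two, ht, one_zpow, one_mul, zpow_one]
    · rintro (rfl | rfl)
      exacts [one_mem _, mem_zpowers _]
  obtain ⟨A, hA⟩ : ∃ A : Subgroup G, ∀ g, g ∈ A ↔ ∃ a ∈ P, g = a ∨ g = a * t := by
    refine ⟨{ carrier := {g | ∃ a ∈ P, g = a ∨ g = a * t}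
              one_mem' := ⟨1, one_mem _, Or.inl rfl⟩
              mul_mem' := ?_, inv_mem' := ?_ }, fun g => Iff.rfl⟩
    · rintro _ _ ⟨a, ha, rfl | rfl⟩ ⟨b, hb, rfl | rfl⟩
      · exact ⟨_, mul_mem ha hb, Or.inl rfl⟩
      · exact ⟨_, mul_mem ha hb, Or.inr (by rw [mul_assoc])⟩
      · exact ⟨_, mul_mem ha hb, Or.inr (by rw [mul_assoc, ← (hPt.1 hb).2.eq, ← mul_assoc])⟩
      · refine ⟨_, mul_mem ha hb, Or.inl ?_⟩
        rw [mul_assoc a t, ← mul_assoc t b t, ← (hPt.1 hb).2.eq, mul_assoc b t t, ht, mul_one]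
    · rintro _ ⟨a, ha, rfl | rfl⟩
      · exact ⟨_, inv_mem ha, Or.inl rfl⟩
      · refine ⟨_, inv_mem ha, Or.inr ?_⟩
        rw [mul_inv_rev, inv_eq_of_mul_eq_one_right ht]
        exact (hPt.1 ha).2.inv_left.eq.symm
  have hPA : P ≤ A := fun a ha => (hA a).2 ⟨a, ha, Or.inl rfl⟩
  have htA : t ∈ A := (hA t).2 ⟨1, one_mem _, Or.inr (one_mul t).symm⟩
  have htJ : t ∉ F.J := fun h => absurd (F.acts_unique hta (F.acts_J h)) (by decide)
  have hAP : ∀ {a}, a ∈ A → a * (a * a) = 1 → a ∈ P := by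
    intro a ha h3
    obtain ⟨b, hb, rfl | rfl⟩ := (hA a).1 ha
    · exact hb
    · exfalso
      have hc := (hPt.1 hb).2
      have e : b * t * (b * t * (b * t)) = b * (b * b) * t := by
        calc b * t * (b * t * (b * t)) = b * (t * b) * (t * b) * t := by group
          _ = b * (b * t) * (b * t) * t := by rw [hc.symm.eq]
          _ = b * b * (t * b) * (t * t) := by group
          _ = b * b * (b * t) := by rw [hc.symm.eq, ht, mul_one]
          _ = _ := by group
      rw [e, F.J_cube (hPJ hb), one_mul] at h3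
      exact htJ (h3 ▸ one_mem _)
  have hgN : ∀ g ∈ centralizer ({t} : Set G), g ∈ normalizer (A : Set G) → g ∈ normalizer (F.J : Set G) := by
    intro g _ hg
    refine F.plane_norm hPJ h9 (Subgroup.mem_normalizer_iff_map_conj_eq.2 (Subgroup.eq_of_le_of_card_ge ?_
      (le_of_eq (Subgroup.card_map_of_injective (MulAut.conj g).injective).symm)))
    rintro _ ⟨a, ha, rfl⟩
    refine hAP ((mem_normalizer_iff.1 hg a).1 (hPA ha)) ?_
    show g * a * g⁻¹ * (g * a * g⁻¹ * (g * a * g⁻¹)) = 1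
    calc g * a * g⁻¹ * (g * a * g⁻¹ * (g * a * g⁻¹)) = g * (a * (a * a)) * g⁻¹ := by group
      _ = 1 := by rw [F.J_cube (hPJ ha), mul_one, mul_inv_cancel]
  have hNg : ∀ g ∈ centralizer ({t} : Set G), g ∈ normalizer (F.J : Set G) → g ∈ normalizer (A : Set G) := by
    intro g hg hgJ
    have hgt : g * t * g⁻¹ = t := by rw [mem_centralizer_singleton_iff.1 hg, mul_inv_cancel_right]
    refine Subgroup.mem_normalizer_iff_map_conj_eq.2 (Subgroup.eq_of_le_of_card_ge ?_
      (le_of_eq (Subgroup.card_map_of_injective (MulAut.conj g).injective).symm))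
    rintro _ ⟨a, ha, rfl⟩
    obtain ⟨b, hb, hab⟩ := (hA a).1 ha
    have hb' : g * b * g⁻¹ ∈ P := hPt.2 ⟨(mem_normalizer_iff.1 hgJ b).1 (hPJ hb), by
      show g * b * g⁻¹ * t = t * (g * b * g⁻¹)
      conv_lhs => rw [← hgt]
      conv_rhs => rw [← hgt]
      rw [show g * b * g⁻¹ * (g * t * g⁻¹) = g * (b * t) * g⁻¹ by group, (hPt.1 hb).2.eq]; group⟩
    refine (hA _).2 ⟨_, hb', ?_⟩
    rcases hab with rfl | rfl
    · exact Or.inl rfl
    · refine Or.inr ?_
      show g * (b * t) * g⁻¹ = g * b * g⁻¹ * t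
      conv_rhs => rw [← hgt]
      group
  have hrel : ∀ {g a}, a ∈ A → g * a * g⁻¹ * a⁻¹ ∈ Z → a * a * (g * (a * a) * g⁻¹)⁻¹ = 1 ∧
      g * (a * a) * g⁻¹ = a * a := by
    intro g a ha hz
    have hta' : Commute a t := by
      obtain ⟨b, hb, rfl | rfl⟩ := (hA a).1 ha
      exacts [(hPt.1 hb).2, (hPt.1 hb).2.mul_left (Commute.refl t)]
    have e : g * (a * a) * g⁻¹ = a * a := by
      rw [show g * (a * a) * g⁻¹ = (g * a * g⁻¹) * (g * a * g⁻¹) by group]
      rcases hZm.1 hz with e | e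
      · rw [mul_inv_eq_one.1 e]
      · rw [mul_inv_eq_iff_eq_mul.1 e, mul_assoc t a, ← mul_assoc a t a, hta'.eq, mul_assoc t a a,
          ← mul_assoc t t, ht, one_mul]
    exact ⟨by rw [e, mul_inv_cancel], e⟩
  have hcf : ∀ {g m}, g ∈ centralizer ({t} : Set G) → F.Acts g m → mulM m 2 = mulM 2 m := fun {g m} hg hm =>
    F.acts_comm hm hta (mem_centralizer_singleton_iff.1 hg)
  have h : Over (centralizer ({t} : Set G)) Z A :=
    { le_C := fun a ha => by
        obtain ⟨b, hb, rfl | rfl⟩ := (hA a).1 ha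
        · exact mem_centralizer_singleton_iff.2 (hPt.1 hb).2.eq
        · exact mem_centralizer_singleton_iff.2 ((hPt.1 hb).2.mul_left (Commute.refl t)).eq
      Z_le := by rw [hZ]; exact zpowers_le.2 htA
      central := fun z hz g hg => by
        rcases hZm.1 hz with rfl | rfl
        · rw [one_mul, mul_one]
        · exact (mem_centralizer_singleton_iff.1 hg).symm
      comm := fun a ha b hb => by
        obtain ⟨a', ha', rfl | rfl⟩ := (hA a).1 ha <;> obtain ⟨b', hb', rfl | rfl⟩ := (hA b).1 hb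
        · exact F.J_comm (hPJ ha') (hPJ hb')
        · exact ((show Commute a b' from F.J_comm (hPJ ha') (hPJ hb')).mul_right (hPt.1 ha').2).eq
        · exact ((show Commute a' b from F.J_comm (hPJ ha') (hPJ hb')).mul_left (hPt.1 hb').2.symm).eq
        · exact (((show Commute a' b' from F.J_comm (hPJ ha') (hPJ hb')).mul_right (hPt.1 ha').2).mul_left
            ((hPt.1 hb').2.symm.mul_right (Commute.refl t))).eq }
  haveI := h.normalZ
  have ht1 : t ≠ 1 := fun e => htJ (e ▸ one_mem _)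
  have hZ2 : Nat.card Z = 2 := by
    have : Fact (Nat.Prime 2) := ⟨Nat.prime_two⟩
    rw [hZ, Nat.card_zpowers, orderOf_eq_prime (by rw [pow_two, ht]) ht1]
  have hA18 : Nat.card A = 9 * Nat.card Z := by
    rw [hZ2, ← h9, ← Subgroup.card_mul_index (P.subgroupOf A),
      Nat.card_congr (subgroupOfEquivOfLe hPA).toEquiv]
    congr 1
    rw [Subgroup.index_eq_two_iff]
    refine ⟨⟨t, htA⟩, fun b => ?_⟩
    obtain ⟨a, ha, e | e⟩ := (hA b).1 b.2
    · refine Or.inr ⟨?_, ?_⟩
      · rw [mem_subgroupOf, e]; exact ha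
      · intro h'
        rw [mem_subgroupOf, Subgroup.coe_mul, e] at h'
        exact htJ (hPJ ((P.mul_mem_cancel_left ha).1 h'))
    · refine Or.inl ⟨?_, ?_⟩
      · rw [mem_subgroupOf, Subgroup.coe_mul, e, mul_assoc, ht, mul_one]; exact ha
      · intro h'
        rw [mem_subgroupOf, e] at h'
        exact htJ (hPJ ((P.mul_mem_cancel_left ha).1 h'))
  have hkey := le_normalizer_of_sq h hA18 (fun a ha => ?_) ?_ ?_ ?_ ?_
  · exact fun g hg => hgN g hg (hkey hg)
  · obtain ⟨b, hb, rfl | rfl⟩ := (hA a).1 ha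
    · rw [F.J_cube (hPJ hb)]; exact one_mem _
    · refine hZm.2 (Or.inr ?_)
      have hc := (hPt.1 hb).2
      calc b * t * (b * t * (b * t)) = b * (t * b) * (t * b) * t := by group
        _ = b * (b * t) * (b * t) * t := by rw [hc.symm.eq]
        _ = b * b * (t * b) * (t * t) := by group
        _ = b * b * (b * t) := by rw [hc.symm.eq, ht, mul_one]
        _ = b * (b * b) * t := by group
        _ = t := by rw [F.J_cube (hPJ hb), one_mul]
  · intro g hg hgA n hn
    obtain ⟨m, -, hm⟩ := F.mono g (hgN g hg hgA)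
    have h2 : (g * g) ^ 3 ^ n = 1 := by
      rw [← pow_two, ← pow_mul, mul_comm, pow_mul, pow_two]
      rcases hZm.1 hn with e | e <;> rw [e]
      exacts [one_mul 1, ht]
    have hm2 := F.acts_mul hm hm
    have hgg : g * g ∈ P := by
      have hc := hcf (mul_mem hg hg) hm2
      exact hPt.2 ⟨F.ker (swap_facts.2.2.2.1 _ hc (F.acts_cube hm2 h2) ▸ hm2),
        mem_centralizer_singleton_iff.1 (mul_mem hg hg)⟩
    obtain ⟨r, hr⟩ : ∃ r, 3 ^ n = 2 * r + 1 := ⟨3 ^ n / 2, by
      have : 3 ^ n % 2 = 1 := Nat.odd_iff.1 (Odd.pow (by decide))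
      omega⟩
    rw [hr, pow_succ, pow_mul, pow_two] at hn
    have := mul_mem (inv_mem (pow_mem (hPA hgg) r)) (h.Z_le hn)
    rwa [inv_mul_cancel_left] at this
  · intro g hg hga
    have hfix : ∀ a ∈ P, g * a * g⁻¹ = a := fun a ha => by
      have e := (hrel (hPA ha) (hga a (hPA ha))).2
      have e2 := congrArg (fun u => u * u) e
      calc g * a * g⁻¹ = g * (a * (a * (a * a))) * g⁻¹ := by rw [F.J_cube (hPJ ha), mul_one]
        _ = (g * (a * a) * g⁻¹) * (g * (a * a) * g⁻¹) := by group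
        _ = a * a * (a * a) := e2
        _ = a * (a * (a * a)) := by group
        _ = a := by rw [F.J_cube (hPJ ha), mul_one]
    obtain ⟨m, -, hm⟩ := F.mono g (F.plane_cent hPJ h9 (mem_centralizer_iff.2 fun a ha => by
      conv_lhs => rw [← hfix a ha]
      group))
    have hm' : m = 0 ∨ m = 2 := swap_facts.2.2.2.2.2.1 m fun v hv =>
      F.e_inj (by rw [← hm, hfix _ ((hP _).2 ⟨v, hv, rfl⟩)])
    rcases hm' with rfl | rfl
    · exact hPA (hPt.2 ⟨F.ker hm, mem_centralizer_singleton_iff.1 hg⟩)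
    · have hgt : g * t ∈ centralizer ({t} : Set G) := mul_mem hg (mem_centralizer_singleton_iff.2 rfl)
      have hgtJ : g * t ∈ F.J := F.ker (swap_facts.2.1 ▸ F.acts_mul hm hta)
      exact (hA g).2 ⟨g * t, hPt.2 ⟨hgtJ, mem_centralizer_singleton_iff.1 hgt⟩, Or.inr (by
        rw [mul_assoc, ht, mul_one])⟩
  · intro a ha haZ g hg hga
    refine hNg g hg ?_
    obtain ⟨b, hb, hab⟩ := (hA a).1 ha
    have haa : a * a = b * b := by
      rcases hab with rfl | rfl
      · rfl
      · rw [mul_assoc b t, ← mul_assoc t b t, ← (hPt.1 hb).2.eq, mul_assoc b t t, ht, mul_one]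
    obtain ⟨v, hv⟩ := (F.memJ _).1 (mul_mem (hPJ hb) (hPJ hb))
    have hv0 : v ≠ 0 := by
      rintro rfl
      rw [F.e_zero] at hv
      have hb3 := F.J_cube (hPJ hb)
      rw [← hv, mul_one] at hb3
      rcases hab with rfl | rfl
      · exact haZ (hb3 ▸ one_mem _)
      · exact haZ (by rw [hb3, one_mul]; exact hZm.2 (Or.inr rfl))
    refine hloc v hv0 (mem_centralizer_singleton_iff.2 ?_)
    rw [hv, ← haa]
    exact mul_inv_eq_iff_eq_mul.1 (hrel ha hga).2
  · intro g hg hgA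
    obtain ⟨m, -, hm⟩ := F.mono g (hgN g hg hgA)
    exact hPA (hPt.2 ⟨F.ker (swap_facts.2.2.2.2.1 m (hcf hg hm) ▸ F.acts_mul hm hm),
      mem_centralizer_singleton_iff.1 (mul_mem hg hg)⟩)

theorem card_cent_transp (hloc : F.Loc3) {t : G} (ht : t * t = 1) (hta : F.Acts t 2) :
    Nat.card (centralizer ({t} : Set G)) = 9 * centC F.k 2 := by
  rw [← swap_facts.2.2.1, ← F.card_cent_inf ht hta, inf_eq_left.2 (F.cent_transp hloc ht hta)]

/-- Three-elements commuting with the transposition lie in the elementary group. -/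
theorem cube_transp (hloc : F.Loc3) {t : G} (ht : t * t = 1) (hta : F.Acts t 2) {a : G} (ha : Commute a t)
    {n : ℕ} (hn : a ^ 3 ^ n = 1) : a ∈ F.J := by
  obtain ⟨m, -, hm⟩ := F.mono a (F.cent_transp hloc ht hta (mem_centralizer_singleton_iff.2 ha.eq))
  exact F.ker (swap_facts.2.2.2.1 m (F.acts_comm hm hta ha) (F.acts_cube hm hn) ▸ hm)

/-- The conjugates of the transposition in the normaliser. -/
theorem class_transp (hloc : F.Loc3) {t : G} (ht : t * t = 1) (hta : F.Acts t 2) {g : G} {m : Fin 48}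
    (hm : F.Acts (g * t * g⁻¹) m) : ConjX F.k 2 m ∨ (m = 42 ∧ F.k = 1) := by
  obtain ⟨v, hvdef⟩ : ∃ v, v = g * t * g⁻¹ := ⟨_, rfl⟩
  rw [← hvdef] at hm
  have hv : v * v = 1 := by
    rw [hvdef, show g * t * g⁻¹ * (g * t * g⁻¹) = g * (t * t) * g⁻¹ by group, ht, mul_one, mul_inv_cancel]
  have hm2 : mulM m m = 0 := F.acts_unique (hv ▸ F.acts_mul hm hm) F.acts_one
  have hm0 : m ≠ 0 := by
    rintro rfl
    have h3 := F.J_cube (F.ker hm)
    rw [hv, mul_one, hvdef, conj_eq_one_iff] at h3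
    exact absurd (F.acts_unique hta (h3 ▸ F.acts_one)) (by decide)
  obtain ⟨⟨c1, c2⟩, c3, c4⟩ := class_arith F.k m (F.acts_inX hm) hm2 hm0
  have hCv : centralizer ({v} : Set G) = (centralizer ({t} : Set G)).map (MulAut.conj g).toMonoidHom := by
    ext u
    rw [mem_centralizer_singleton_iff, hvdef]
    constructor
    · intro hu
      refine ⟨g⁻¹ * u * g, mem_centralizer_singleton_iff.2 ?_, by simp [mul_assoc]⟩
      calc g⁻¹ * u * g * t = g⁻¹ * (u * (g * t * g⁻¹)) * g := by group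
        _ = _ := by rw [hu]; group
    · rintro ⟨a, ha, rfl⟩
      show g * a * g⁻¹ * (g * t * g⁻¹) = g * t * g⁻¹ * (g * a * g⁻¹)
      rw [show g * a * g⁻¹ * (g * t * g⁻¹) = g * (a * t) * g⁻¹ by group, mem_centralizer_singleton_iff.1 ha]
      group
  have hdvd : fixC m * centC F.k m ∣ 9 * centC F.k 2 := by
    rw [← F.card_cent_inf hv hm, ← F.card_cent_transp hloc ht hta,
      show Nat.card (centralizer ({t} : Set G)) = Nat.card (centralizer ({v} : Set G)) by
        rw [hCv]; exact (Subgroup.card_map_of_injective (MulAut.conj g).injective).symm]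
    exact Subgroup.card_dvd_of_le inf_le_left
  by_cases h42 : m = 42
  · exact Or.inr ⟨h42, c2 h42 hdvd⟩
  refine Or.inl (c1 h42 ?_ hdvd)
  -- a fixed vector
  obtain ⟨w, hw, hw0⟩ : ∃ w, actM m w = w ∧ w ≠ 0 := by
    by_contra! hcon
    refine c3 h42 (le_antisymm (Finset.card_le_one.2 fun a ha b hb => ?_)
      (Finset.card_pos.2 ⟨0, Finset.mem_filter.2 ⟨Finset.mem_univ _, Lin.zero (lin_actM m)⟩⟩))
    rw [hcon a (Finset.mem_filter.1 ha).2, hcon b (Finset.mem_filter.1 hb).2]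
  have hwv : Commute (F.e w) v := by
    have e := hm w
    rw [hw, mul_inv_eq_iff_eq_mul] at e
    exact e.symm
  have hwP : g⁻¹ * F.e w * g ∈ F.J := by
    refine F.cube_transp hloc ht hta ?_ (n := 1) ?_
    · show g⁻¹ * F.e w * g * t = t * (g⁻¹ * F.e w * g)
      calc g⁻¹ * F.e w * g * t = g⁻¹ * (F.e w * (g * t * g⁻¹)) * g := by group
        _ = g⁻¹ * (g * t * g⁻¹ * F.e w) * g := by rw [← hvdef, hwv.eq]
        _ = _ := by group
    · rw [pow_one, pow_succ', pow_two, show g⁻¹ * F.e w * g * (g⁻¹ * F.e w * g * (g⁻¹ * F.e w * g)) =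
        g⁻¹ * (F.e w * (F.e w * F.e w)) * g by group, F.J_cube (F.e_mem w), mul_one, inv_mul_cancel]
  -- the conjugated plane
  obtain ⟨P, hPJ, hP, hPc⟩ := F.exists_span 4 9
  have h9 : Nat.card P = 9 := hPc.trans (by decide +kernel)
  have hPv : ∀ a ∈ P, ∃ u, actM m u = u ∧ F.e u = g * a * g⁻¹ := by
    intro a ha
    obtain ⟨u, hu, hua⟩ := (hP a).1 ha
    have hat : Commute a t := by
      have e := hta u
      rw [(swap_facts.2.2.2.2.2.2.1 u).1 hu, mul_inv_eq_iff_eq_mul, hua] at e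
      exact e.symm
    have hav : Commute (g * a * g⁻¹) v := by
      rw [hvdef]; exact (SemiconjBy.conj_iff.2 hat)
    have haw : Commute (g * a * g⁻¹) (F.e w) := by
      show g * a * g⁻¹ * F.e w = F.e w * (g * a * g⁻¹)
      calc g * a * g⁻¹ * F.e w = g * (a * (g⁻¹ * F.e w * g)) * g⁻¹ := by group
        _ = g * (g⁻¹ * F.e w * g * a) * g⁻¹ := by rw [F.J_comm (hPJ ha) hwP]
        _ = _ := by group
    have hN := hloc w hw0 (mem_centralizer_singleton_iff.2 haw.eq)
    obtain ⟨n, -, hn⟩ := F.mono _ hN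
    have hn3 : mulM n (mulM n n) = 0 := F.acts_cube (n := 1) hn (by
      rw [pow_one, conj_pow, pow_succ', pow_two, F.J_cube (hPJ ha), mul_one, mul_inv_cancel])
    have hn0 : n = 0 := c4 n hn3 (F.acts_comm hn hm hav) w hw0 hw
      (F.e_inj (by rw [← hn, haw.eq, mul_inv_cancel_right]))
    obtain ⟨b, hb⟩ := (F.memJ _).1 (F.ker (hn0 ▸ hn))
    refine ⟨b, F.e_inj ?_, hb⟩
    rw [← hm, hb, hav.symm.eq, mul_inv_cancel_right]
  have hge : 9 ≤ fixC m := by
    choose f hf hf' using fun a : P => hPv a.1 a.2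
    rw [← h9, fixC, ← Nat.card_eq_finsetCard]
    exact Nat.card_le_card_of_injective (fun a => ⟨f a, Finset.mem_filter.2 ⟨Finset.mem_univ _, hf a⟩⟩)
      fun a b h => Subtype.ext (by
        have := hf' a
        rw [show f a = f b from congrArg Subtype.val h, hf' b] at this
        simpa using this.symm)
  refine le_antisymm ?_ hge
  exact (show ∀ m : Fin 48, m ≠ 0 → fixC m ≤ 9 by decide +kernel) m hm0

/-- An action conjugate to that of the transposition gives a conjugate under the normaliser. -/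
theorem conj_transp {t v : G} (ht : t * t = 1) (hta : F.Acts t 2) (hv : v * v = 1) {m : Fin 48}
    (hm : F.Acts v m) (hc : ConjX F.k 2 m) : ∃ h ∈ normalizer (F.J : Set G), h * t * h⁻¹ = v := by
  obtain ⟨n, n', hn, hnn, e⟩ := hc
  obtain ⟨h, hh, hha⟩ := F.lift n hn
  have hn' : mulM n' n = 0 := (show ∀ n n' : Fin 48, mulM n n' = 0 → mulM n' n = 0 by decide +kernel) n n' hnn
  have hm' : F.Acts (h * t * h⁻¹) m := e ▸ F.acts_mul (F.acts_mul hha hta) (F.acts_inv hha hn')
  obtain ⟨j, hj, e'⟩ := F.conj_of_acts (by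
    rw [show h * t * h⁻¹ * (h * t * h⁻¹) = h * (t * t) * h⁻¹ by group, ht, mul_one, mul_inv_cancel]) hv hm' hm
  exact ⟨j * h, mul_mem (Subgroup.le_normalizer hj) hh, by rw [← e']; group⟩

end Frame

end Cfsg.Lib.SymNineLocal
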